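import Cfsg.Agent.Lib.Helper35.Fi24b.PData

set_option Elab.async false

namespace Cfsg.Agent.Lib.Helper35.Fi24b

open Cfsg.Agent.Lib.Helper35

theorem tc0 : allBelow (fun k => ft (Nat.add (Nat.succ 0) k)) 15713 = true := by decide +kernel
theorem tc1 : allBelow (fun k => ft (Nat.add (Nat.succ 15713) k)) 15713 = true := by decide +kernel
theorem tc2 : allBelow (fun k => ft (Nat.add (Nat.succ 31426) k)) 15713 = true := by decide +kernel
theorem tc3 : allBelow (fun k => ft (Nat.add (Nat.succ 47139) k)) 15713 = true := by decide +kernel
theorem tc4 : allBelow (fun k => ft (Nat.add (Nat.succ 62852) k)) 15713 = true := by decide +kernel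
theorem tc5 : allBelow (fun k => ft (Nat.add (Nat.succ 78565) k)) 15713 = true := by decide +kernel
theorem tc6 : allBelow (fun k => ft (Nat.add (Nat.succ 94278) k)) 15713 = true := by decide +kernel
theorem tc7 : allBelow (fun k => ft (Nat.add (Nat.succ 109991) k)) 15713 = true := by decide +kernel
theorem tc8 : allBelow (fun k => ft (Nat.add (Nat.succ 125704) k)) 15713 = true := by decide +kernel
theorem tc9 : allBelow (fun k => ft (Nat.add (Nat.succ 141417) k)) 15713 = true := by decide +kernel
theorem tc10 : allBelow (fun k => ft (Nat.add (Nat.succ 157130) k)) 15713 = true := by decide +kernel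
theorem tc11 : allBelow (fun k => ft (Nat.add (Nat.succ 172843) k)) 15713 = true := by decide +kernel
theorem tc12 : allBelow (fun k => ft (Nat.add (Nat.succ 188556) k)) 15713 = true := by decide +kernel
theorem tc13 : allBelow (fun k => ft (Nat.add (Nat.succ 204269) k)) 15713 = true := by decide +kernel
theorem tc14 : allBelow (fun k => ft (Nat.add (Nat.succ 219982) k)) 15713 = true := by decide +kernel
theorem tc15 : allBelow (fun k => ft (Nat.add (Nat.succ 235695) k)) 15713 = true := by decide +kernel
theorem tc16 : allBelow (fun k => ft (Nat.add (Nat.succ 251408) k)) 15713 = true := by decide +kernel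
theorem tc17 : allBelow (fun k => ft (Nat.add (Nat.succ 267121) k)) 15713 = true := by decide +kernel
theorem tc18 : allBelow (fun k => ft (Nat.add (Nat.succ 282834) k)) 15713 = true := by decide +kernel
theorem tc19 : allBelow (fun k => ft (Nat.add (Nat.succ 298547) k)) 8388 = true := by decide +kernel
theorem c0c0 : allBelow (fun k => fc0 (Nat.add 0 k)) 39283 = true := by decide +kernel
theorem c0c1 : allBelow (fun k => fc0 (Nat.add 39283 k)) 39283 = true := by decide +kernel
theorem c0c2 : allBelow (fun k => fc0 (Nat.add 78566 k)) 39283 = true := by decide +kernel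
theorem c0c3 : allBelow (fun k => fc0 (Nat.add 117849 k)) 39283 = true := by decide +kernel
theorem c0c4 : allBelow (fun k => fc0 (Nat.add 157132 k)) 39283 = true := by decide +kernel
theorem c0c5 : allBelow (fun k => fc0 (Nat.add 196415 k)) 39283 = true := by decide +kernel
theorem c0c6 : allBelow (fun k => fc0 (Nat.add 235698 k)) 39283 = true := by decide +kernel
theorem c0c7 : allBelow (fun k => fc0 (Nat.add 274981 k)) 31955 = true := by decide +kernel
theorem c1c0 : allBelow (fun k => fc1 (Nat.add 0 k)) 39283 = true := by decide +kernel
theorem c1c1 : allBelow (fun k => fc1 (Nat.add 39283 k)) 39283 = true := by decide +kernel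
theorem c1c2 : allBelow (fun k => fc1 (Nat.add 78566 k)) 39283 = true := by decide +kernel
theorem c1c3 : allBelow (fun k => fc1 (Nat.add 117849 k)) 39283 = true := by decide +kernel
theorem c1c4 : allBelow (fun k => fc1 (Nat.add 157132 k)) 39283 = true := by decide +kernel
theorem c1c5 : allBelow (fun k => fc1 (Nat.add 196415 k)) 39283 = true := by decide +kernel
theorem c1c6 : allBelow (fun k => fc1 (Nat.add 235698 k)) 39283 = true := by decide +kernel
theorem c1c7 : allBelow (fun k => fc1 (Nat.add 274981 k)) 31955 = true := by decide +kernel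
theorem c2c0 : allBelow (fun k => fc2 (Nat.add 0 k)) 39283 = true := by decide +kernel
theorem c2c1 : allBelow (fun k => fc2 (Nat.add 39283 k)) 39283 = true := by decide +kernel
theorem c2c2 : allBelow (fun k => fc2 (Nat.add 78566 k)) 39283 = true := by decide +kernel
theorem c2c3 : allBelow (fun k => fc2 (Nat.add 117849 k)) 39283 = true := by decide +kernel
theorem c2c4 : allBelow (fun k => fc2 (Nat.add 157132 k)) 39283 = true := by decide +kernel
theorem c2c5 : allBelow (fun k => fc2 (Nat.add 196415 k)) 39283 = true := by decide +kernel
theorem c2c6 : allBelow (fun k => fc2 (Nat.add 235698 k)) 39283 = true := by decide +kernel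

end Cfsg.Agent.Lib.Helper35.Fi24b
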