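import Cfsg.Agent.Lib.Helper35.Fi24b.PData

set_option Elab.async false

namespace Cfsg.Agent.Lib.Helper35.Fi24b

open Cfsg.Agent.Lib.Helper35

theorem c2c7 : allBelow (fun k => fc2 (Nat.add 274981 k)) 31955 = true := by decide +kernel
theorem c3c0 : allBelow (fun k => fc3 (Nat.add 0 k)) 39283 = true := by decide +kernel
theorem c3c1 : allBelow (fun k => fc3 (Nat.add 39283 k)) 39283 = true := by decide +kernel
theorem c3c2 : allBelow (fun k => fc3 (Nat.add 78566 k)) 39283 = true := by decide +kernel
theorem c3c3 : allBelow (fun k => fc3 (Nat.add 117849 k)) 39283 = true := by decide +kernel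
theorem c3c4 : allBelow (fun k => fc3 (Nat.add 157132 k)) 39283 = true := by decide +kernel
theorem c3c5 : allBelow (fun k => fc3 (Nat.add 196415 k)) 39283 = true := by decide +kernel
theorem c3c6 : allBelow (fun k => fc3 (Nat.add 235698 k)) 39283 = true := by decide +kernel
theorem c3c7 : allBelow (fun k => fc3 (Nat.add 274981 k)) 31955 = true := by decide +kernel
theorem c4c0 : allBelow (fun k => fc4 (Nat.add 0 k)) 39283 = true := by decide +kernel
theorem c4c1 : allBelow (fun k => fc4 (Nat.add 39283 k)) 39283 = true := by decide +kernel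
theorem c4c2 : allBelow (fun k => fc4 (Nat.add 78566 k)) 39283 = true := by decide +kernel
theorem c4c3 : allBelow (fun k => fc4 (Nat.add 117849 k)) 39283 = true := by decide +kernel
theorem c4c4 : allBelow (fun k => fc4 (Nat.add 157132 k)) 39283 = true := by decide +kernel
theorem c4c5 : allBelow (fun k => fc4 (Nat.add 196415 k)) 39283 = true := by decide +kernel
theorem c4c6 : allBelow (fun k => fc4 (Nat.add 235698 k)) 39283 = true := by decide +kernel
theorem c4c7 : allBelow (fun k => fc4 (Nat.add 274981 k)) 31955 = true := by decide +kernel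
theorem c5c0 : allBelow (fun k => fc5 (Nat.add 0 k)) 39283 = true := by decide +kernel
theorem c5c1 : allBelow (fun k => fc5 (Nat.add 39283 k)) 39283 = true := by decide +kernel
theorem c5c2 : allBelow (fun k => fc5 (Nat.add 78566 k)) 39283 = true := by decide +kernel
theorem c5c3 : allBelow (fun k => fc5 (Nat.add 117849 k)) 39283 = true := by decide +kernel
theorem c5c4 : allBelow (fun k => fc5 (Nat.add 157132 k)) 39283 = true := by decide +kernel
theorem c5c5 : allBelow (fun k => fc5 (Nat.add 196415 k)) 39283 = true := by decide +kernel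
theorem c5c6 : allBelow (fun k => fc5 (Nat.add 235698 k)) 39283 = true := by decide +kernel
theorem c5c7 : allBelow (fun k => fc5 (Nat.add 274981 k)) 31955 = true := by decide +kernel
theorem c6c0 : allBelow (fun k => fc6 (Nat.add 0 k)) 39283 = true := by decide +kernel
theorem c6c1 : allBelow (fun k => fc6 (Nat.add 39283 k)) 39283 = true := by decide +kernel
theorem c6c2 : allBelow (fun k => fc6 (Nat.add 78566 k)) 39283 = true := by decide +kernel
theorem c6c3 : allBelow (fun k => fc6 (Nat.add 117849 k)) 39283 = true := by decide +kernel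
theorem c6c4 : allBelow (fun k => fc6 (Nat.add 157132 k)) 39283 = true := by decide +kernel
theorem c6c5 : allBelow (fun k => fc6 (Nat.add 196415 k)) 39283 = true := by decide +kernel
theorem c6c6 : allBelow (fun k => fc6 (Nat.add 235698 k)) 39283 = true := by decide +kernel
theorem c6c7 : allBelow (fun k => fc6 (Nat.add 274981 k)) 31955 = true := by decide +kernel
theorem c7c0 : allBelow (fun k => fc7 (Nat.add 0 k)) 39283 = true := by decide +kernel
theorem c7c1 : allBelow (fun k => fc7 (Nat.add 39283 k)) 39283 = true := by decide +kernel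
theorem c7c2 : allBelow (fun k => fc7 (Nat.add 78566 k)) 39283 = true := by decide +kernel
theorem c7c3 : allBelow (fun k => fc7 (Nat.add 117849 k)) 39283 = true := by decide +kernel
theorem c7c4 : allBelow (fun k => fc7 (Nat.add 157132 k)) 39283 = true := by decide +kernel
theorem c7c5 : allBelow (fun k => fc7 (Nat.add 196415 k)) 39283 = true := by decide +kernel
theorem c7c6 : allBelow (fun k => fc7 (Nat.add 235698 k)) 39283 = true := by decide +kernel
theorem c7c7 : allBelow (fun k => fc7 (Nat.add 274981 k)) 31955 = true := by decide +kernel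
theorem c8c0 : allBelow (fun k => fc8 (Nat.add 0 k)) 39283 = true := by decide +kernel
theorem c8c1 : allBelow (fun k => fc8 (Nat.add 39283 k)) 39283 = true := by decide +kernel
theorem c8c2 : allBelow (fun k => fc8 (Nat.add 78566 k)) 39283 = true := by decide +kernel

end Cfsg.Agent.Lib.Helper35.Fi24b
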