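import Cfsg.Agent.Lib.Helper35.Fi24b.PData

set_option Elab.async false

namespace Cfsg.Agent.Lib.Helper35.Fi24b

open Cfsg.Agent.Lib.Helper35

theorem rc116 : allBelow (fun k => fr (Nat.add 31784 k)) 274 = true := by decide +kernel
theorem rc117 : allBelow (fun k => fr (Nat.add 32058 k)) 274 = true := by decide +kernel
theorem rc118 : allBelow (fun k => fr (Nat.add 32332 k)) 274 = true := by decide +kernel
theorem rc119 : allBelow (fun k => fr (Nat.add 32606 k)) 274 = true := by decide +kernel
theorem rc120 : allBelow (fun k => fr (Nat.add 32880 k)) 274 = true := by decide +kernel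
theorem rc121 : allBelow (fun k => fr (Nat.add 33154 k)) 274 = true := by decide +kernel
theorem rc122 : allBelow (fun k => fr (Nat.add 33428 k)) 274 = true := by decide +kernel
theorem rc123 : allBelow (fun k => fr (Nat.add 33702 k)) 274 = true := by decide +kernel
theorem rc124 : allBelow (fun k => fr (Nat.add 33976 k)) 274 = true := by decide +kernel
theorem rc125 : allBelow (fun k => fr (Nat.add 34250 k)) 274 = true := by decide +kernel
theorem rc126 : allBelow (fun k => fr (Nat.add 34524 k)) 274 = true := by decide +kernel
theorem rc127 : allBelow (fun k => fr (Nat.add 34798 k)) 274 = true := by decide +kernel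
theorem rc128 : allBelow (fun k => fr (Nat.add 35072 k)) 274 = true := by decide +kernel
theorem rc129 : allBelow (fun k => fr (Nat.add 35346 k)) 274 = true := by decide +kernel
theorem rc130 : allBelow (fun k => fr (Nat.add 35620 k)) 274 = true := by decide +kernel
theorem rc131 : allBelow (fun k => fr (Nat.add 35894 k)) 274 = true := by decide +kernel
theorem rc132 : allBelow (fun k => fr (Nat.add 36168 k)) 274 = true := by decide +kernel
theorem rc133 : allBelow (fun k => fr (Nat.add 36442 k)) 274 = true := by decide +kernel
theorem rc134 : allBelow (fun k => fr (Nat.add 36716 k)) 274 = true := by decide +kernel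
theorem rc135 : allBelow (fun k => fr (Nat.add 36990 k)) 274 = true := by decide +kernel
theorem rc136 : allBelow (fun k => fr (Nat.add 37264 k)) 274 = true := by decide +kernel
theorem rc137 : allBelow (fun k => fr (Nat.add 37538 k)) 274 = true := by decide +kernel
theorem rc138 : allBelow (fun k => fr (Nat.add 37812 k)) 274 = true := by decide +kernel
theorem rc139 : allBelow (fun k => fr (Nat.add 38086 k)) 274 = true := by decide +kernel
theorem rc140 : allBelow (fun k => fr (Nat.add 38360 k)) 274 = true := by decide +kernel
theorem rc141 : allBelow (fun k => fr (Nat.add 38634 k)) 274 = true := by decide +kernel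
theorem rc142 : allBelow (fun k => fr (Nat.add 38908 k)) 274 = true := by decide +kernel
theorem rc143 : allBelow (fun k => fr (Nat.add 39182 k)) 274 = true := by decide +kernel
theorem rc144 : allBelow (fun k => fr (Nat.add 39456 k)) 274 = true := by decide +kernel
theorem rc145 : allBelow (fun k => fr (Nat.add 39730 k)) 274 = true := by decide +kernel
theorem rc146 : allBelow (fun k => fr (Nat.add 40004 k)) 274 = true := by decide +kernel
theorem rc147 : allBelow (fun k => fr (Nat.add 40278 k)) 274 = true := by decide +kernel
theorem rc148 : allBelow (fun k => fr (Nat.add 40552 k)) 274 = true := by decide +kernel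
theorem rc149 : allBelow (fun k => fr (Nat.add 40826 k)) 274 = true := by decide +kernel
theorem rc150 : allBelow (fun k => fr (Nat.add 41100 k)) 274 = true := by decide +kernel
theorem rc151 : allBelow (fun k => fr (Nat.add 41374 k)) 274 = true := by decide +kernel
theorem rc152 : allBelow (fun k => fr (Nat.add 41648 k)) 274 = true := by decide +kernel
theorem rc153 : allBelow (fun k => fr (Nat.add 41922 k)) 274 = true := by decide +kernel
theorem rc154 : allBelow (fun k => fr (Nat.add 42196 k)) 274 = true := by decide +kernel
theorem rc155 : allBelow (fun k => fr (Nat.add 42470 k)) 274 = true := by decide +kernel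
theorem rc156 : allBelow (fun k => fr (Nat.add 42744 k)) 274 = true := by decide +kernel
theorem rc157 : allBelow (fun k => fr (Nat.add 43018 k)) 274 = true := by decide +kernel
theorem rc158 : allBelow (fun k => fr (Nat.add 43292 k)) 274 = true := by decide +kernel

end Cfsg.Agent.Lib.Helper35.Fi24b
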