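import Cfsg.Agent.Lib.Helper35.Fi24b.PData

set_option Elab.async false

namespace Cfsg.Agent.Lib.Helper35.Fi24b

open Cfsg.Agent.Lib.Helper35

theorem rc159 : allBelow (fun k => fr (Nat.add 43566 k)) 274 = true := by decide +kernel
theorem rc160 : allBelow (fun k => fr (Nat.add 43840 k)) 274 = true := by decide +kernel
theorem rc161 : allBelow (fun k => fr (Nat.add 44114 k)) 274 = true := by decide +kernel
theorem rc162 : allBelow (fun k => fr (Nat.add 44388 k)) 274 = true := by decide +kernel
theorem rc163 : allBelow (fun k => fr (Nat.add 44662 k)) 274 = true := by decide +kernel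
theorem rc164 : allBelow (fun k => fr (Nat.add 44936 k)) 274 = true := by decide +kernel
theorem rc165 : allBelow (fun k => fr (Nat.add 45210 k)) 274 = true := by decide +kernel
theorem rc166 : allBelow (fun k => fr (Nat.add 45484 k)) 274 = true := by decide +kernel
theorem rc167 : allBelow (fun k => fr (Nat.add 45758 k)) 274 = true := by decide +kernel
theorem rc168 : allBelow (fun k => fr (Nat.add 46032 k)) 274 = true := by decide +kernel
theorem rc169 : allBelow (fun k => fr (Nat.add 46306 k)) 274 = true := by decide +kernel
theorem rc170 : allBelow (fun k => fr (Nat.add 46580 k)) 274 = true := by decide +kernel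
theorem rc171 : allBelow (fun k => fr (Nat.add 46854 k)) 274 = true := by decide +kernel
theorem rc172 : allBelow (fun k => fr (Nat.add 47128 k)) 274 = true := by decide +kernel
theorem rc173 : allBelow (fun k => fr (Nat.add 47402 k)) 274 = true := by decide +kernel
theorem rc174 : allBelow (fun k => fr (Nat.add 47676 k)) 274 = true := by decide +kernel
theorem rc175 : allBelow (fun k => fr (Nat.add 47950 k)) 274 = true := by decide +kernel
theorem rc176 : allBelow (fun k => fr (Nat.add 48224 k)) 274 = true := by decide +kernel
theorem rc177 : allBelow (fun k => fr (Nat.add 48498 k)) 274 = true := by decide +kernel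
theorem rc178 : allBelow (fun k => fr (Nat.add 48772 k)) 274 = true := by decide +kernel
theorem rc179 : allBelow (fun k => fr (Nat.add 49046 k)) 274 = true := by decide +kernel
theorem rc180 : allBelow (fun k => fr (Nat.add 49320 k)) 274 = true := by decide +kernel
theorem rc181 : allBelow (fun k => fr (Nat.add 49594 k)) 274 = true := by decide +kernel
theorem rc182 : allBelow (fun k => fr (Nat.add 49868 k)) 274 = true := by decide +kernel
theorem rc183 : allBelow (fun k => fr (Nat.add 50142 k)) 274 = true := by decide +kernel
theorem rc184 : allBelow (fun k => fr (Nat.add 50416 k)) 274 = true := by decide +kernel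
theorem rc185 : allBelow (fun k => fr (Nat.add 50690 k)) 274 = true := by decide +kernel
theorem rc186 : allBelow (fun k => fr (Nat.add 50964 k)) 274 = true := by decide +kernel
theorem rc187 : allBelow (fun k => fr (Nat.add 51238 k)) 274 = true := by decide +kernel
theorem rc188 : allBelow (fun k => fr (Nat.add 51512 k)) 274 = true := by decide +kernel
theorem rc189 : allBelow (fun k => fr (Nat.add 51786 k)) 274 = true := by decide +kernel
theorem rc190 : allBelow (fun k => fr (Nat.add 52060 k)) 274 = true := by decide +kernel
theorem rc191 : allBelow (fun k => fr (Nat.add 52334 k)) 274 = true := by decide +kernel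
theorem rc192 : allBelow (fun k => fr (Nat.add 52608 k)) 274 = true := by decide +kernel
theorem rc193 : allBelow (fun k => fr (Nat.add 52882 k)) 274 = true := by decide +kernel
theorem rc194 : allBelow (fun k => fr (Nat.add 53156 k)) 274 = true := by decide +kernel
theorem rc195 : allBelow (fun k => fr (Nat.add 53430 k)) 274 = true := by decide +kernel
theorem rc196 : allBelow (fun k => fr (Nat.add 53704 k)) 274 = true := by decide +kernel
theorem rc197 : allBelow (fun k => fr (Nat.add 53978 k)) 274 = true := by decide +kernel
theorem rc198 : allBelow (fun k => fr (Nat.add 54252 k)) 274 = true := by decide +kernel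
theorem rc199 : allBelow (fun k => fr (Nat.add 54526 k)) 274 = true := by decide +kernel
theorem rc200 : allBelow (fun k => fr (Nat.add 54800 k)) 274 = true := by decide +kernel
theorem rc201 : allBelow (fun k => fr (Nat.add 55074 k)) 274 = true := by decide +kernel

end Cfsg.Agent.Lib.Helper35.Fi24b
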