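import Cfsg.Agent.Lib.Helper35.Fi24b.PData

set_option Elab.async false

namespace Cfsg.Agent.Lib.Helper35.Fi24b

open Cfsg.Agent.Lib.Helper35

theorem rc202 : allBelow (fun k => fr (Nat.add 55348 k)) 274 = true := by decide +kernel
theorem rc203 : allBelow (fun k => fr (Nat.add 55622 k)) 274 = true := by decide +kernel
theorem rc204 : allBelow (fun k => fr (Nat.add 55896 k)) 274 = true := by decide +kernel
theorem rc205 : allBelow (fun k => fr (Nat.add 56170 k)) 274 = true := by decide +kernel
theorem rc206 : allBelow (fun k => fr (Nat.add 56444 k)) 274 = true := by decide +kernel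
theorem rc207 : allBelow (fun k => fr (Nat.add 56718 k)) 274 = true := by decide +kernel
theorem rc208 : allBelow (fun k => fr (Nat.add 56992 k)) 274 = true := by decide +kernel
theorem rc209 : allBelow (fun k => fr (Nat.add 57266 k)) 274 = true := by decide +kernel
theorem rc210 : allBelow (fun k => fr (Nat.add 57540 k)) 274 = true := by decide +kernel
theorem rc211 : allBelow (fun k => fr (Nat.add 57814 k)) 274 = true := by decide +kernel
theorem rc212 : allBelow (fun k => fr (Nat.add 58088 k)) 274 = true := by decide +kernel
theorem rc213 : allBelow (fun k => fr (Nat.add 58362 k)) 274 = true := by decide +kernel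
theorem rc214 : allBelow (fun k => fr (Nat.add 58636 k)) 274 = true := by decide +kernel
theorem rc215 : allBelow (fun k => fr (Nat.add 58910 k)) 274 = true := by decide +kernel
theorem rc216 : allBelow (fun k => fr (Nat.add 59184 k)) 274 = true := by decide +kernel
theorem rc217 : allBelow (fun k => fr (Nat.add 59458 k)) 274 = true := by decide +kernel
theorem rc218 : allBelow (fun k => fr (Nat.add 59732 k)) 274 = true := by decide +kernel
theorem rc219 : allBelow (fun k => fr (Nat.add 60006 k)) 274 = true := by decide +kernel
theorem rc220 : allBelow (fun k => fr (Nat.add 60280 k)) 274 = true := by decide +kernel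
theorem rc221 : allBelow (fun k => fr (Nat.add 60554 k)) 274 = true := by decide +kernel
theorem rc222 : allBelow (fun k => fr (Nat.add 60828 k)) 274 = true := by decide +kernel
theorem rc223 : allBelow (fun k => fr (Nat.add 61102 k)) 274 = true := by decide +kernel
theorem rc224 : allBelow (fun k => fr (Nat.add 61376 k)) 274 = true := by decide +kernel
theorem rc225 : allBelow (fun k => fr (Nat.add 61650 k)) 274 = true := by decide +kernel
theorem rc226 : allBelow (fun k => fr (Nat.add 61924 k)) 274 = true := by decide +kernel
theorem rc227 : allBelow (fun k => fr (Nat.add 62198 k)) 274 = true := by decide +kernel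
theorem rc228 : allBelow (fun k => fr (Nat.add 62472 k)) 274 = true := by decide +kernel
theorem rc229 : allBelow (fun k => fr (Nat.add 62746 k)) 274 = true := by decide +kernel
theorem rc230 : allBelow (fun k => fr (Nat.add 63020 k)) 274 = true := by decide +kernel
theorem rc231 : allBelow (fun k => fr (Nat.add 63294 k)) 274 = true := by decide +kernel
theorem rc232 : allBelow (fun k => fr (Nat.add 63568 k)) 274 = true := by decide +kernel
theorem rc233 : allBelow (fun k => fr (Nat.add 63842 k)) 274 = true := by decide +kernel
theorem rc234 : allBelow (fun k => fr (Nat.add 64116 k)) 274 = true := by decide +kernel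
theorem rc235 : allBelow (fun k => fr (Nat.add 64390 k)) 274 = true := by decide +kernel
theorem rc236 : allBelow (fun k => fr (Nat.add 64664 k)) 274 = true := by decide +kernel
theorem rc237 : allBelow (fun k => fr (Nat.add 64938 k)) 274 = true := by decide +kernel
theorem rc238 : allBelow (fun k => fr (Nat.add 65212 k)) 274 = true := by decide +kernel
theorem rc239 : allBelow (fun k => fr (Nat.add 65486 k)) 274 = true := by decide +kernel
theorem rc240 : allBelow (fun k => fr (Nat.add 65760 k)) 274 = true := by decide +kernel
theorem rc241 : allBelow (fun k => fr (Nat.add 66034 k)) 274 = true := by decide +kernel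
theorem rc242 : allBelow (fun k => fr (Nat.add 66308 k)) 274 = true := by decide +kernel
theorem rc243 : allBelow (fun k => fr (Nat.add 66582 k)) 274 = true := by decide +kernel
theorem rc244 : allBelow (fun k => fr (Nat.add 66856 k)) 274 = true := by decide +kernel

end Cfsg.Agent.Lib.Helper35.Fi24b
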