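import Cfsg.Agent.Lib.Helper35.Fi24b.PData

set_option Elab.async false

namespace Cfsg.Agent.Lib.Helper35.Fi24b

open Cfsg.Agent.Lib.Helper35

theorem rc245 : allBelow (fun k => fr (Nat.add 67130 k)) 274 = true := by decide +kernel
theorem rc246 : allBelow (fun k => fr (Nat.add 67404 k)) 274 = true := by decide +kernel
theorem rc247 : allBelow (fun k => fr (Nat.add 67678 k)) 274 = true := by decide +kernel
theorem rc248 : allBelow (fun k => fr (Nat.add 67952 k)) 274 = true := by decide +kernel
theorem rc249 : allBelow (fun k => fr (Nat.add 68226 k)) 274 = true := by decide +kernel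
theorem rc250 : allBelow (fun k => fr (Nat.add 68500 k)) 274 = true := by decide +kernel
theorem rc251 : allBelow (fun k => fr (Nat.add 68774 k)) 274 = true := by decide +kernel
theorem rc252 : allBelow (fun k => fr (Nat.add 69048 k)) 274 = true := by decide +kernel
theorem rc253 : allBelow (fun k => fr (Nat.add 69322 k)) 274 = true := by decide +kernel
theorem rc254 : allBelow (fun k => fr (Nat.add 69596 k)) 274 = true := by decide +kernel
theorem rc255 : allBelow (fun k => fr (Nat.add 69870 k)) 274 = true := by decide +kernel
theorem rc256 : allBelow (fun k => fr (Nat.add 70144 k)) 274 = true := by decide +kernel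
theorem rc257 : allBelow (fun k => fr (Nat.add 70418 k)) 274 = true := by decide +kernel
theorem rc258 : allBelow (fun k => fr (Nat.add 70692 k)) 274 = true := by decide +kernel
theorem rc259 : allBelow (fun k => fr (Nat.add 70966 k)) 274 = true := by decide +kernel
theorem rc260 : allBelow (fun k => fr (Nat.add 71240 k)) 274 = true := by decide +kernel
theorem rc261 : allBelow (fun k => fr (Nat.add 71514 k)) 274 = true := by decide +kernel
theorem rc262 : allBelow (fun k => fr (Nat.add 71788 k)) 274 = true := by decide +kernel
theorem rc263 : allBelow (fun k => fr (Nat.add 72062 k)) 274 = true := by decide +kernel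
theorem rc264 : allBelow (fun k => fr (Nat.add 72336 k)) 274 = true := by decide +kernel
theorem rc265 : allBelow (fun k => fr (Nat.add 72610 k)) 274 = true := by decide +kernel
theorem rc266 : allBelow (fun k => fr (Nat.add 72884 k)) 274 = true := by decide +kernel
theorem rc267 : allBelow (fun k => fr (Nat.add 73158 k)) 274 = true := by decide +kernel
theorem rc268 : allBelow (fun k => fr (Nat.add 73432 k)) 274 = true := by decide +kernel
theorem rc269 : allBelow (fun k => fr (Nat.add 73706 k)) 274 = true := by decide +kernel
theorem rc270 : allBelow (fun k => fr (Nat.add 73980 k)) 274 = true := by decide +kernel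
theorem rc271 : allBelow (fun k => fr (Nat.add 74254 k)) 274 = true := by decide +kernel
theorem rc272 : allBelow (fun k => fr (Nat.add 74528 k)) 274 = true := by decide +kernel
theorem rc273 : allBelow (fun k => fr (Nat.add 74802 k)) 274 = true := by decide +kernel
theorem rc274 : allBelow (fun k => fr (Nat.add 75076 k)) 274 = true := by decide +kernel
theorem rc275 : allBelow (fun k => fr (Nat.add 75350 k)) 274 = true := by decide +kernel
theorem rc276 : allBelow (fun k => fr (Nat.add 75624 k)) 274 = true := by decide +kernel
theorem rc277 : allBelow (fun k => fr (Nat.add 75898 k)) 274 = true := by decide +kernel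
theorem rc278 : allBelow (fun k => fr (Nat.add 76172 k)) 274 = true := by decide +kernel
theorem rc279 : allBelow (fun k => fr (Nat.add 76446 k)) 274 = true := by decide +kernel
theorem rc280 : allBelow (fun k => fr (Nat.add 76720 k)) 274 = true := by decide +kernel
theorem rc281 : allBelow (fun k => fr (Nat.add 76994 k)) 274 = true := by decide +kernel
theorem rc282 : allBelow (fun k => fr (Nat.add 77268 k)) 274 = true := by decide +kernel
theorem rc283 : allBelow (fun k => fr (Nat.add 77542 k)) 274 = true := by decide +kernel
theorem rc284 : allBelow (fun k => fr (Nat.add 77816 k)) 274 = true := by decide +kernel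
theorem rc285 : allBelow (fun k => fr (Nat.add 78090 k)) 274 = true := by decide +kernel
theorem rc286 : allBelow (fun k => fr (Nat.add 78364 k)) 274 = true := by decide +kernel
theorem rc287 : allBelow (fun k => fr (Nat.add 78638 k)) 274 = true := by decide +kernel

end Cfsg.Agent.Lib.Helper35.Fi24b
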