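import Cfsg.Agent.Lib.Helper35.Fi24b.PData

set_option Elab.async false

namespace Cfsg.Agent.Lib.Helper35.Fi24b

open Cfsg.Agent.Lib.Helper35

theorem rc288 : allBelow (fun k => fr (Nat.add 78912 k)) 274 = true := by decide +kernel
theorem rc289 : allBelow (fun k => fr (Nat.add 79186 k)) 274 = true := by decide +kernel
theorem rc290 : allBelow (fun k => fr (Nat.add 79460 k)) 274 = true := by decide +kernel
theorem rc291 : allBelow (fun k => fr (Nat.add 79734 k)) 274 = true := by decide +kernel
theorem rc292 : allBelow (fun k => fr (Nat.add 80008 k)) 274 = true := by decide +kernel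
theorem rc293 : allBelow (fun k => fr (Nat.add 80282 k)) 274 = true := by decide +kernel
theorem rc294 : allBelow (fun k => fr (Nat.add 80556 k)) 274 = true := by decide +kernel
theorem rc295 : allBelow (fun k => fr (Nat.add 80830 k)) 274 = true := by decide +kernel
theorem rc296 : allBelow (fun k => fr (Nat.add 81104 k)) 274 = true := by decide +kernel
theorem rc297 : allBelow (fun k => fr (Nat.add 81378 k)) 274 = true := by decide +kernel
theorem rc298 : allBelow (fun k => fr (Nat.add 81652 k)) 274 = true := by decide +kernel
theorem rc299 : allBelow (fun k => fr (Nat.add 81926 k)) 274 = true := by decide +kernel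
theorem rc300 : allBelow (fun k => fr (Nat.add 82200 k)) 274 = true := by decide +kernel
theorem rc301 : allBelow (fun k => fr (Nat.add 82474 k)) 274 = true := by decide +kernel
theorem rc302 : allBelow (fun k => fr (Nat.add 82748 k)) 274 = true := by decide +kernel
theorem rc303 : allBelow (fun k => fr (Nat.add 83022 k)) 274 = true := by decide +kernel
theorem rc304 : allBelow (fun k => fr (Nat.add 83296 k)) 274 = true := by decide +kernel
theorem rc305 : allBelow (fun k => fr (Nat.add 83570 k)) 274 = true := by decide +kernel
theorem rc306 : allBelow (fun k => fr (Nat.add 83844 k)) 274 = true := by decide +kernel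
theorem rc307 : allBelow (fun k => fr (Nat.add 84118 k)) 274 = true := by decide +kernel
theorem rc308 : allBelow (fun k => fr (Nat.add 84392 k)) 274 = true := by decide +kernel
theorem rc309 : allBelow (fun k => fr (Nat.add 84666 k)) 274 = true := by decide +kernel
theorem rc310 : allBelow (fun k => fr (Nat.add 84940 k)) 274 = true := by decide +kernel
theorem rc311 : allBelow (fun k => fr (Nat.add 85214 k)) 274 = true := by decide +kernel
theorem rc312 : allBelow (fun k => fr (Nat.add 85488 k)) 274 = true := by decide +kernel
theorem rc313 : allBelow (fun k => fr (Nat.add 85762 k)) 274 = true := by decide +kernel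
theorem rc314 : allBelow (fun k => fr (Nat.add 86036 k)) 274 = true := by decide +kernel
theorem rc315 : allBelow (fun k => fr (Nat.add 86310 k)) 274 = true := by decide +kernel
theorem rc316 : allBelow (fun k => fr (Nat.add 86584 k)) 274 = true := by decide +kernel
theorem rc317 : allBelow (fun k => fr (Nat.add 86858 k)) 274 = true := by decide +kernel
theorem rc318 : allBelow (fun k => fr (Nat.add 87132 k)) 274 = true := by decide +kernel
theorem rc319 : allBelow (fun k => fr (Nat.add 87406 k)) 274 = true := by decide +kernel
theorem rc320 : allBelow (fun k => fr (Nat.add 87680 k)) 274 = true := by decide +kernel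
theorem rc321 : allBelow (fun k => fr (Nat.add 87954 k)) 274 = true := by decide +kernel
theorem rc322 : allBelow (fun k => fr (Nat.add 88228 k)) 274 = true := by decide +kernel
theorem rc323 : allBelow (fun k => fr (Nat.add 88502 k)) 274 = true := by decide +kernel
theorem rc324 : allBelow (fun k => fr (Nat.add 88776 k)) 274 = true := by decide +kernel
theorem rc325 : allBelow (fun k => fr (Nat.add 89050 k)) 274 = true := by decide +kernel
theorem rc326 : allBelow (fun k => fr (Nat.add 89324 k)) 274 = true := by decide +kernel
theorem rc327 : allBelow (fun k => fr (Nat.add 89598 k)) 274 = true := by decide +kernel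
theorem rc328 : allBelow (fun k => fr (Nat.add 89872 k)) 274 = true := by decide +kernel
theorem rc329 : allBelow (fun k => fr (Nat.add 90146 k)) 274 = true := by decide +kernel
theorem rc330 : allBelow (fun k => fr (Nat.add 90420 k)) 274 = true := by decide +kernel

end Cfsg.Agent.Lib.Helper35.Fi24b
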