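import Cfsg.Agent.Lib.Helper35.Fi24b.PData

set_option Elab.async false

namespace Cfsg.Agent.Lib.Helper35.Fi24b

open Cfsg.Agent.Lib.Helper35

theorem rc331 : allBelow (fun k => fr (Nat.add 90694 k)) 274 = true := by decide +kernel
theorem rc332 : allBelow (fun k => fr (Nat.add 90968 k)) 274 = true := by decide +kernel
theorem rc333 : allBelow (fun k => fr (Nat.add 91242 k)) 274 = true := by decide +kernel
theorem rc334 : allBelow (fun k => fr (Nat.add 91516 k)) 274 = true := by decide +kernel
theorem rc335 : allBelow (fun k => fr (Nat.add 91790 k)) 274 = true := by decide +kernel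
theorem rc336 : allBelow (fun k => fr (Nat.add 92064 k)) 274 = true := by decide +kernel
theorem rc337 : allBelow (fun k => fr (Nat.add 92338 k)) 274 = true := by decide +kernel
theorem rc338 : allBelow (fun k => fr (Nat.add 92612 k)) 274 = true := by decide +kernel
theorem rc339 : allBelow (fun k => fr (Nat.add 92886 k)) 274 = true := by decide +kernel
theorem rc340 : allBelow (fun k => fr (Nat.add 93160 k)) 274 = true := by decide +kernel
theorem rc341 : allBelow (fun k => fr (Nat.add 93434 k)) 274 = true := by decide +kernel
theorem rc342 : allBelow (fun k => fr (Nat.add 93708 k)) 274 = true := by decide +kernel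
theorem rc343 : allBelow (fun k => fr (Nat.add 93982 k)) 274 = true := by decide +kernel
theorem rc344 : allBelow (fun k => fr (Nat.add 94256 k)) 274 = true := by decide +kernel
theorem rc345 : allBelow (fun k => fr (Nat.add 94530 k)) 274 = true := by decide +kernel
theorem rc346 : allBelow (fun k => fr (Nat.add 94804 k)) 274 = true := by decide +kernel
theorem rc347 : allBelow (fun k => fr (Nat.add 95078 k)) 274 = true := by decide +kernel
theorem rc348 : allBelow (fun k => fr (Nat.add 95352 k)) 274 = true := by decide +kernel
theorem rc349 : allBelow (fun k => fr (Nat.add 95626 k)) 274 = true := by decide +kernel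
theorem rc350 : allBelow (fun k => fr (Nat.add 95900 k)) 274 = true := by decide +kernel
theorem rc351 : allBelow (fun k => fr (Nat.add 96174 k)) 274 = true := by decide +kernel
theorem rc352 : allBelow (fun k => fr (Nat.add 96448 k)) 274 = true := by decide +kernel
theorem rc353 : allBelow (fun k => fr (Nat.add 96722 k)) 274 = true := by decide +kernel
theorem rc354 : allBelow (fun k => fr (Nat.add 96996 k)) 274 = true := by decide +kernel
theorem rc355 : allBelow (fun k => fr (Nat.add 97270 k)) 274 = true := by decide +kernel
theorem rc356 : allBelow (fun k => fr (Nat.add 97544 k)) 274 = true := by decide +kernel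
theorem rc357 : allBelow (fun k => fr (Nat.add 97818 k)) 274 = true := by decide +kernel
theorem rc358 : allBelow (fun k => fr (Nat.add 98092 k)) 274 = true := by decide +kernel
theorem rc359 : allBelow (fun k => fr (Nat.add 98366 k)) 274 = true := by decide +kernel
theorem rc360 : allBelow (fun k => fr (Nat.add 98640 k)) 274 = true := by decide +kernel
theorem rc361 : allBelow (fun k => fr (Nat.add 98914 k)) 274 = true := by decide +kernel
theorem rc362 : allBelow (fun k => fr (Nat.add 99188 k)) 274 = true := by decide +kernel
theorem rc363 : allBelow (fun k => fr (Nat.add 99462 k)) 274 = true := by decide +kernel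
theorem rc364 : allBelow (fun k => fr (Nat.add 99736 k)) 274 = true := by decide +kernel
theorem rc365 : allBelow (fun k => fr (Nat.add 100010 k)) 274 = true := by decide +kernel
theorem rc366 : allBelow (fun k => fr (Nat.add 100284 k)) 274 = true := by decide +kernel
theorem rc367 : allBelow (fun k => fr (Nat.add 100558 k)) 274 = true := by decide +kernel
theorem rc368 : allBelow (fun k => fr (Nat.add 100832 k)) 274 = true := by decide +kernel
theorem rc369 : allBelow (fun k => fr (Nat.add 101106 k)) 274 = true := by decide +kernel
theorem rc370 : allBelow (fun k => fr (Nat.add 101380 k)) 274 = true := by decide +kernel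
theorem rc371 : allBelow (fun k => fr (Nat.add 101654 k)) 274 = true := by decide +kernel
theorem rc372 : allBelow (fun k => fr (Nat.add 101928 k)) 274 = true := by decide +kernel
theorem rc373 : allBelow (fun k => fr (Nat.add 102202 k)) 274 = true := by decide +kernel

end Cfsg.Agent.Lib.Helper35.Fi24b
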