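import Cfsg.Agent.Lib.Helper35.Fi24b.PData

set_option Elab.async false

namespace Cfsg.Agent.Lib.Helper35.Fi24b

open Cfsg.Agent.Lib.Helper35

theorem rc374 : allBelow (fun k => fr (Nat.add 102476 k)) 274 = true := by decide +kernel
theorem rc375 : allBelow (fun k => fr (Nat.add 102750 k)) 274 = true := by decide +kernel
theorem rc376 : allBelow (fun k => fr (Nat.add 103024 k)) 274 = true := by decide +kernel
theorem rc377 : allBelow (fun k => fr (Nat.add 103298 k)) 274 = true := by decide +kernel
theorem rc378 : allBelow (fun k => fr (Nat.add 103572 k)) 274 = true := by decide +kernel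
theorem rc379 : allBelow (fun k => fr (Nat.add 103846 k)) 274 = true := by decide +kernel
theorem rc380 : allBelow (fun k => fr (Nat.add 104120 k)) 274 = true := by decide +kernel
theorem rc381 : allBelow (fun k => fr (Nat.add 104394 k)) 274 = true := by decide +kernel
theorem rc382 : allBelow (fun k => fr (Nat.add 104668 k)) 274 = true := by decide +kernel
theorem rc383 : allBelow (fun k => fr (Nat.add 104942 k)) 274 = true := by decide +kernel
theorem rc384 : allBelow (fun k => fr (Nat.add 105216 k)) 274 = true := by decide +kernel
theorem rc385 : allBelow (fun k => fr (Nat.add 105490 k)) 274 = true := by decide +kernel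
theorem rc386 : allBelow (fun k => fr (Nat.add 105764 k)) 274 = true := by decide +kernel
theorem rc387 : allBelow (fun k => fr (Nat.add 106038 k)) 274 = true := by decide +kernel
theorem rc388 : allBelow (fun k => fr (Nat.add 106312 k)) 274 = true := by decide +kernel
theorem rc389 : allBelow (fun k => fr (Nat.add 106586 k)) 274 = true := by decide +kernel
theorem rc390 : allBelow (fun k => fr (Nat.add 106860 k)) 274 = true := by decide +kernel
theorem rc391 : allBelow (fun k => fr (Nat.add 107134 k)) 274 = true := by decide +kernel
theorem rc392 : allBelow (fun k => fr (Nat.add 107408 k)) 274 = true := by decide +kernel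
theorem rc393 : allBelow (fun k => fr (Nat.add 107682 k)) 274 = true := by decide +kernel
theorem rc394 : allBelow (fun k => fr (Nat.add 107956 k)) 274 = true := by decide +kernel
theorem rc395 : allBelow (fun k => fr (Nat.add 108230 k)) 274 = true := by decide +kernel
theorem rc396 : allBelow (fun k => fr (Nat.add 108504 k)) 274 = true := by decide +kernel
theorem rc397 : allBelow (fun k => fr (Nat.add 108778 k)) 274 = true := by decide +kernel
theorem rc398 : allBelow (fun k => fr (Nat.add 109052 k)) 274 = true := by decide +kernel
theorem rc399 : allBelow (fun k => fr (Nat.add 109326 k)) 274 = true := by decide +kernel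
theorem rc400 : allBelow (fun k => fr (Nat.add 109600 k)) 274 = true := by decide +kernel
theorem rc401 : allBelow (fun k => fr (Nat.add 109874 k)) 274 = true := by decide +kernel
theorem rc402 : allBelow (fun k => fr (Nat.add 110148 k)) 274 = true := by decide +kernel
theorem rc403 : allBelow (fun k => fr (Nat.add 110422 k)) 274 = true := by decide +kernel
theorem rc404 : allBelow (fun k => fr (Nat.add 110696 k)) 274 = true := by decide +kernel
theorem rc405 : allBelow (fun k => fr (Nat.add 110970 k)) 274 = true := by decide +kernel
theorem rc406 : allBelow (fun k => fr (Nat.add 111244 k)) 274 = true := by decide +kernel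
theorem rc407 : allBelow (fun k => fr (Nat.add 111518 k)) 274 = true := by decide +kernel
theorem rc408 : allBelow (fun k => fr (Nat.add 111792 k)) 274 = true := by decide +kernel
theorem rc409 : allBelow (fun k => fr (Nat.add 112066 k)) 274 = true := by decide +kernel
theorem rc410 : allBelow (fun k => fr (Nat.add 112340 k)) 274 = true := by decide +kernel
theorem rc411 : allBelow (fun k => fr (Nat.add 112614 k)) 274 = true := by decide +kernel
theorem rc412 : allBelow (fun k => fr (Nat.add 112888 k)) 274 = true := by decide +kernel
theorem rc413 : allBelow (fun k => fr (Nat.add 113162 k)) 274 = true := by decide +kernel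
theorem rc414 : allBelow (fun k => fr (Nat.add 113436 k)) 274 = true := by decide +kernel
theorem rc415 : allBelow (fun k => fr (Nat.add 113710 k)) 274 = true := by decide +kernel
theorem rc416 : allBelow (fun k => fr (Nat.add 113984 k)) 274 = true := by decide +kernel

end Cfsg.Agent.Lib.Helper35.Fi24b
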