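import Cfsg.Agent.Lib.Helper35.Fi24b.PData

set_option Elab.async false

namespace Cfsg.Agent.Lib.Helper35.Fi24b

open Cfsg.Agent.Lib.Helper35

theorem rc417 : allBelow (fun k => fr (Nat.add 114258 k)) 274 = true := by decide +kernel
theorem rc418 : allBelow (fun k => fr (Nat.add 114532 k)) 274 = true := by decide +kernel
theorem rc419 : allBelow (fun k => fr (Nat.add 114806 k)) 274 = true := by decide +kernel
theorem rc420 : allBelow (fun k => fr (Nat.add 115080 k)) 274 = true := by decide +kernel
theorem rc421 : allBelow (fun k => fr (Nat.add 115354 k)) 274 = true := by decide +kernel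
theorem rc422 : allBelow (fun k => fr (Nat.add 115628 k)) 274 = true := by decide +kernel
theorem rc423 : allBelow (fun k => fr (Nat.add 115902 k)) 274 = true := by decide +kernel
theorem rc424 : allBelow (fun k => fr (Nat.add 116176 k)) 274 = true := by decide +kernel
theorem rc425 : allBelow (fun k => fr (Nat.add 116450 k)) 274 = true := by decide +kernel
theorem rc426 : allBelow (fun k => fr (Nat.add 116724 k)) 274 = true := by decide +kernel
theorem rc427 : allBelow (fun k => fr (Nat.add 116998 k)) 274 = true := by decide +kernel
theorem rc428 : allBelow (fun k => fr (Nat.add 117272 k)) 274 = true := by decide +kernel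
theorem rc429 : allBelow (fun k => fr (Nat.add 117546 k)) 274 = true := by decide +kernel
theorem rc430 : allBelow (fun k => fr (Nat.add 117820 k)) 274 = true := by decide +kernel
theorem rc431 : allBelow (fun k => fr (Nat.add 118094 k)) 274 = true := by decide +kernel
theorem rc432 : allBelow (fun k => fr (Nat.add 118368 k)) 274 = true := by decide +kernel
theorem rc433 : allBelow (fun k => fr (Nat.add 118642 k)) 274 = true := by decide +kernel
theorem rc434 : allBelow (fun k => fr (Nat.add 118916 k)) 274 = true := by decide +kernel
theorem rc435 : allBelow (fun k => fr (Nat.add 119190 k)) 274 = true := by decide +kernel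
theorem rc436 : allBelow (fun k => fr (Nat.add 119464 k)) 274 = true := by decide +kernel
theorem rc437 : allBelow (fun k => fr (Nat.add 119738 k)) 274 = true := by decide +kernel
theorem rc438 : allBelow (fun k => fr (Nat.add 120012 k)) 274 = true := by decide +kernel
theorem rc439 : allBelow (fun k => fr (Nat.add 120286 k)) 274 = true := by decide +kernel
theorem rc440 : allBelow (fun k => fr (Nat.add 120560 k)) 274 = true := by decide +kernel
theorem rc441 : allBelow (fun k => fr (Nat.add 120834 k)) 274 = true := by decide +kernel
theorem rc442 : allBelow (fun k => fr (Nat.add 121108 k)) 274 = true := by decide +kernel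
theorem rc443 : allBelow (fun k => fr (Nat.add 121382 k)) 274 = true := by decide +kernel
theorem rc444 : allBelow (fun k => fr (Nat.add 121656 k)) 274 = true := by decide +kernel
theorem rc445 : allBelow (fun k => fr (Nat.add 121930 k)) 274 = true := by decide +kernel
theorem rc446 : allBelow (fun k => fr (Nat.add 122204 k)) 274 = true := by decide +kernel
theorem rc447 : allBelow (fun k => fr (Nat.add 122478 k)) 274 = true := by decide +kernel
theorem rc448 : allBelow (fun k => fr (Nat.add 122752 k)) 274 = true := by decide +kernel
theorem rc449 : allBelow (fun k => fr (Nat.add 123026 k)) 274 = true := by decide +kernel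
theorem rc450 : allBelow (fun k => fr (Nat.add 123300 k)) 274 = true := by decide +kernel
theorem rc451 : allBelow (fun k => fr (Nat.add 123574 k)) 274 = true := by decide +kernel
theorem rc452 : allBelow (fun k => fr (Nat.add 123848 k)) 274 = true := by decide +kernel
theorem rc453 : allBelow (fun k => fr (Nat.add 124122 k)) 274 = true := by decide +kernel
theorem rc454 : allBelow (fun k => fr (Nat.add 124396 k)) 274 = true := by decide +kernel
theorem rc455 : allBelow (fun k => fr (Nat.add 124670 k)) 274 = true := by decide +kernel
theorem rc456 : allBelow (fun k => fr (Nat.add 124944 k)) 274 = true := by decide +kernel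
theorem rc457 : allBelow (fun k => fr (Nat.add 125218 k)) 274 = true := by decide +kernel
theorem rc458 : allBelow (fun k => fr (Nat.add 125492 k)) 274 = true := by decide +kernel
theorem rc459 : allBelow (fun k => fr (Nat.add 125766 k)) 274 = true := by decide +kernel

end Cfsg.Agent.Lib.Helper35.Fi24b
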