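import Cfsg.Agent.Lib.Helper35.Fi24b.PData

set_option Elab.async false

namespace Cfsg.Agent.Lib.Helper35.Fi24b

open Cfsg.Agent.Lib.Helper35

theorem rc460 : allBelow (fun k => fr (Nat.add 126040 k)) 274 = true := by decide +kernel
theorem rc461 : allBelow (fun k => fr (Nat.add 126314 k)) 274 = true := by decide +kernel
theorem rc462 : allBelow (fun k => fr (Nat.add 126588 k)) 274 = true := by decide +kernel
theorem rc463 : allBelow (fun k => fr (Nat.add 126862 k)) 274 = true := by decide +kernel
theorem rc464 : allBelow (fun k => fr (Nat.add 127136 k)) 274 = true := by decide +kernel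
theorem rc465 : allBelow (fun k => fr (Nat.add 127410 k)) 274 = true := by decide +kernel
theorem rc466 : allBelow (fun k => fr (Nat.add 127684 k)) 274 = true := by decide +kernel
theorem rc467 : allBelow (fun k => fr (Nat.add 127958 k)) 274 = true := by decide +kernel
theorem rc468 : allBelow (fun k => fr (Nat.add 128232 k)) 274 = true := by decide +kernel
theorem rc469 : allBelow (fun k => fr (Nat.add 128506 k)) 274 = true := by decide +kernel
theorem rc470 : allBelow (fun k => fr (Nat.add 128780 k)) 274 = true := by decide +kernel
theorem rc471 : allBelow (fun k => fr (Nat.add 129054 k)) 274 = true := by decide +kernel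
theorem rc472 : allBelow (fun k => fr (Nat.add 129328 k)) 274 = true := by decide +kernel
theorem rc473 : allBelow (fun k => fr (Nat.add 129602 k)) 274 = true := by decide +kernel
theorem rc474 : allBelow (fun k => fr (Nat.add 129876 k)) 274 = true := by decide +kernel
theorem rc475 : allBelow (fun k => fr (Nat.add 130150 k)) 274 = true := by decide +kernel
theorem rc476 : allBelow (fun k => fr (Nat.add 130424 k)) 274 = true := by decide +kernel
theorem rc477 : allBelow (fun k => fr (Nat.add 130698 k)) 274 = true := by decide +kernel
theorem rc478 : allBelow (fun k => fr (Nat.add 130972 k)) 274 = true := by decide +kernel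
theorem rc479 : allBelow (fun k => fr (Nat.add 131246 k)) 274 = true := by decide +kernel
theorem rc480 : allBelow (fun k => fr (Nat.add 131520 k)) 274 = true := by decide +kernel
theorem rc481 : allBelow (fun k => fr (Nat.add 131794 k)) 274 = true := by decide +kernel
theorem rc482 : allBelow (fun k => fr (Nat.add 132068 k)) 274 = true := by decide +kernel
theorem rc483 : allBelow (fun k => fr (Nat.add 132342 k)) 274 = true := by decide +kernel
theorem rc484 : allBelow (fun k => fr (Nat.add 132616 k)) 274 = true := by decide +kernel
theorem rc485 : allBelow (fun k => fr (Nat.add 132890 k)) 274 = true := by decide +kernel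
theorem rc486 : allBelow (fun k => fr (Nat.add 133164 k)) 274 = true := by decide +kernel
theorem rc487 : allBelow (fun k => fr (Nat.add 133438 k)) 274 = true := by decide +kernel
theorem rc488 : allBelow (fun k => fr (Nat.add 133712 k)) 274 = true := by decide +kernel
theorem rc489 : allBelow (fun k => fr (Nat.add 133986 k)) 274 = true := by decide +kernel
theorem rc490 : allBelow (fun k => fr (Nat.add 134260 k)) 274 = true := by decide +kernel
theorem rc491 : allBelow (fun k => fr (Nat.add 134534 k)) 274 = true := by decide +kernel
theorem rc492 : allBelow (fun k => fr (Nat.add 134808 k)) 274 = true := by decide +kernel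
theorem rc493 : allBelow (fun k => fr (Nat.add 135082 k)) 274 = true := by decide +kernel
theorem rc494 : allBelow (fun k => fr (Nat.add 135356 k)) 274 = true := by decide +kernel
theorem rc495 : allBelow (fun k => fr (Nat.add 135630 k)) 274 = true := by decide +kernel
theorem rc496 : allBelow (fun k => fr (Nat.add 135904 k)) 274 = true := by decide +kernel
theorem rc497 : allBelow (fun k => fr (Nat.add 136178 k)) 274 = true := by decide +kernel
theorem rc498 : allBelow (fun k => fr (Nat.add 136452 k)) 274 = true := by decide +kernel
theorem rc499 : allBelow (fun k => fr (Nat.add 136726 k)) 274 = true := by decide +kernel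
theorem rc500 : allBelow (fun k => fr (Nat.add 137000 k)) 274 = true := by decide +kernel
theorem rc501 : allBelow (fun k => fr (Nat.add 137274 k)) 274 = true := by decide +kernel
theorem rc502 : allBelow (fun k => fr (Nat.add 137548 k)) 274 = true := by decide +kernel

end Cfsg.Agent.Lib.Helper35.Fi24b
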