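import Cfsg.Agent.Lib.Helper35.Fi24b.PData

set_option Elab.async false

namespace Cfsg.Agent.Lib.Helper35.Fi24b

open Cfsg.Agent.Lib.Helper35

theorem rc503 : allBelow (fun k => fr (Nat.add 137822 k)) 274 = true := by decide +kernel
theorem rc504 : allBelow (fun k => fr (Nat.add 138096 k)) 274 = true := by decide +kernel
theorem rc505 : allBelow (fun k => fr (Nat.add 138370 k)) 274 = true := by decide +kernel
theorem rc506 : allBelow (fun k => fr (Nat.add 138644 k)) 274 = true := by decide +kernel
theorem rc507 : allBelow (fun k => fr (Nat.add 138918 k)) 274 = true := by decide +kernel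
theorem rc508 : allBelow (fun k => fr (Nat.add 139192 k)) 274 = true := by decide +kernel
theorem rc509 : allBelow (fun k => fr (Nat.add 139466 k)) 274 = true := by decide +kernel
theorem rc510 : allBelow (fun k => fr (Nat.add 139740 k)) 274 = true := by decide +kernel
theorem rc511 : allBelow (fun k => fr (Nat.add 140014 k)) 274 = true := by decide +kernel
theorem rc512 : allBelow (fun k => fr (Nat.add 140288 k)) 274 = true := by decide +kernel
theorem rc513 : allBelow (fun k => fr (Nat.add 140562 k)) 274 = true := by decide +kernel
theorem rc514 : allBelow (fun k => fr (Nat.add 140836 k)) 274 = true := by decide +kernel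
theorem rc515 : allBelow (fun k => fr (Nat.add 141110 k)) 274 = true := by decide +kernel
theorem rc516 : allBelow (fun k => fr (Nat.add 141384 k)) 274 = true := by decide +kernel
theorem rc517 : allBelow (fun k => fr (Nat.add 141658 k)) 274 = true := by decide +kernel
theorem rc518 : allBelow (fun k => fr (Nat.add 141932 k)) 274 = true := by decide +kernel
theorem rc519 : allBelow (fun k => fr (Nat.add 142206 k)) 274 = true := by decide +kernel
theorem rc520 : allBelow (fun k => fr (Nat.add 142480 k)) 274 = true := by decide +kernel
theorem rc521 : allBelow (fun k => fr (Nat.add 142754 k)) 274 = true := by decide +kernel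
theorem rc522 : allBelow (fun k => fr (Nat.add 143028 k)) 274 = true := by decide +kernel
theorem rc523 : allBelow (fun k => fr (Nat.add 143302 k)) 274 = true := by decide +kernel
theorem rc524 : allBelow (fun k => fr (Nat.add 143576 k)) 274 = true := by decide +kernel
theorem rc525 : allBelow (fun k => fr (Nat.add 143850 k)) 274 = true := by decide +kernel
theorem rc526 : allBelow (fun k => fr (Nat.add 144124 k)) 274 = true := by decide +kernel
theorem rc527 : allBelow (fun k => fr (Nat.add 144398 k)) 274 = true := by decide +kernel
theorem rc528 : allBelow (fun k => fr (Nat.add 144672 k)) 274 = true := by decide +kernel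
theorem rc529 : allBelow (fun k => fr (Nat.add 144946 k)) 274 = true := by decide +kernel
theorem rc530 : allBelow (fun k => fr (Nat.add 145220 k)) 274 = true := by decide +kernel
theorem rc531 : allBelow (fun k => fr (Nat.add 145494 k)) 274 = true := by decide +kernel
theorem rc532 : allBelow (fun k => fr (Nat.add 145768 k)) 274 = true := by decide +kernel
theorem rc533 : allBelow (fun k => fr (Nat.add 146042 k)) 274 = true := by decide +kernel
theorem rc534 : allBelow (fun k => fr (Nat.add 146316 k)) 274 = true := by decide +kernel
theorem rc535 : allBelow (fun k => fr (Nat.add 146590 k)) 274 = true := by decide +kernel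
theorem rc536 : allBelow (fun k => fr (Nat.add 146864 k)) 274 = true := by decide +kernel
theorem rc537 : allBelow (fun k => fr (Nat.add 147138 k)) 274 = true := by decide +kernel
theorem rc538 : allBelow (fun k => fr (Nat.add 147412 k)) 274 = true := by decide +kernel
theorem rc539 : allBelow (fun k => fr (Nat.add 147686 k)) 274 = true := by decide +kernel
theorem rc540 : allBelow (fun k => fr (Nat.add 147960 k)) 274 = true := by decide +kernel
theorem rc541 : allBelow (fun k => fr (Nat.add 148234 k)) 274 = true := by decide +kernel
theorem rc542 : allBelow (fun k => fr (Nat.add 148508 k)) 274 = true := by decide +kernel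
theorem rc543 : allBelow (fun k => fr (Nat.add 148782 k)) 274 = true := by decide +kernel
theorem rc544 : allBelow (fun k => fr (Nat.add 149056 k)) 274 = true := by decide +kernel
theorem rc545 : allBelow (fun k => fr (Nat.add 149330 k)) 274 = true := by decide +kernel

end Cfsg.Agent.Lib.Helper35.Fi24b
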