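import Cfsg.Agent.Lib.Helper35.Fi24b.PData

set_option Elab.async false

namespace Cfsg.Agent.Lib.Helper35.Fi24b

open Cfsg.Agent.Lib.Helper35

theorem c8c3 : allBelow (fun k => fc8 (Nat.add 117849 k)) 39283 = true := by decide +kernel
theorem c8c4 : allBelow (fun k => fc8 (Nat.add 157132 k)) 39283 = true := by decide +kernel
theorem c8c5 : allBelow (fun k => fc8 (Nat.add 196415 k)) 39283 = true := by decide +kernel
theorem c8c6 : allBelow (fun k => fc8 (Nat.add 235698 k)) 39283 = true := by decide +kernel
theorem c8c7 : allBelow (fun k => fc8 (Nat.add 274981 k)) 31955 = true := by decide +kernel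
theorem c9c0 : allBelow (fun k => fc9 (Nat.add 0 k)) 39283 = true := by decide +kernel
theorem c9c1 : allBelow (fun k => fc9 (Nat.add 39283 k)) 39283 = true := by decide +kernel
theorem c9c2 : allBelow (fun k => fc9 (Nat.add 78566 k)) 39283 = true := by decide +kernel
theorem c9c3 : allBelow (fun k => fc9 (Nat.add 117849 k)) 39283 = true := by decide +kernel
theorem c9c4 : allBelow (fun k => fc9 (Nat.add 157132 k)) 39283 = true := by decide +kernel
theorem c9c5 : allBelow (fun k => fc9 (Nat.add 196415 k)) 39283 = true := by decide +kernel
theorem c9c6 : allBelow (fun k => fc9 (Nat.add 235698 k)) 39283 = true := by decide +kernel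
theorem c9c7 : allBelow (fun k => fc9 (Nat.add 274981 k)) 31955 = true := by decide +kernel
theorem c10c0 : allBelow (fun k => fc10 (Nat.add 0 k)) 39283 = true := by decide +kernel
theorem c10c1 : allBelow (fun k => fc10 (Nat.add 39283 k)) 39283 = true := by decide +kernel
theorem c10c2 : allBelow (fun k => fc10 (Nat.add 78566 k)) 39283 = true := by decide +kernel
theorem c10c3 : allBelow (fun k => fc10 (Nat.add 117849 k)) 39283 = true := by decide +kernel
theorem c10c4 : allBelow (fun k => fc10 (Nat.add 157132 k)) 39283 = true := by decide +kernel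
theorem c10c5 : allBelow (fun k => fc10 (Nat.add 196415 k)) 39283 = true := by decide +kernel
theorem c10c6 : allBelow (fun k => fc10 (Nat.add 235698 k)) 39283 = true := by decide +kernel
theorem c10c7 : allBelow (fun k => fc10 (Nat.add 274981 k)) 31955 = true := by decide +kernel
theorem c11c0 : allBelow (fun k => fc11 (Nat.add 0 k)) 39283 = true := by decide +kernel
theorem c11c1 : allBelow (fun k => fc11 (Nat.add 39283 k)) 39283 = true := by decide +kernel
theorem c11c2 : allBelow (fun k => fc11 (Nat.add 78566 k)) 39283 = true := by decide +kernel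
theorem c11c3 : allBelow (fun k => fc11 (Nat.add 117849 k)) 39283 = true := by decide +kernel
theorem c11c4 : allBelow (fun k => fc11 (Nat.add 157132 k)) 39283 = true := by decide +kernel
theorem c11c5 : allBelow (fun k => fc11 (Nat.add 196415 k)) 39283 = true := by decide +kernel
theorem c11c6 : allBelow (fun k => fc11 (Nat.add 235698 k)) 39283 = true := by decide +kernel
theorem c11c7 : allBelow (fun k => fc11 (Nat.add 274981 k)) 31955 = true := by decide +kernel
theorem eUc0 : allBelow (fun k => feU (Nat.add 0 k)) 5237 = true := by decide +kernel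
theorem eUc1 : allBelow (fun k => feU (Nat.add 5237 k)) 5237 = true := by decide +kernel
theorem eUc2 : allBelow (fun k => feU (Nat.add 10474 k)) 5237 = true := by decide +kernel
theorem eUc3 : allBelow (fun k => feU (Nat.add 15711 k)) 5237 = true := by decide +kernel
theorem eUc4 : allBelow (fun k => feU (Nat.add 20948 k)) 5237 = true := by decide +kernel
theorem eUc5 : allBelow (fun k => feU (Nat.add 26185 k)) 5237 = true := by decide +kernel
theorem eUc6 : allBelow (fun k => feU (Nat.add 31422 k)) 5237 = true := by decide +kernel
theorem eUc7 : allBelow (fun k => feU (Nat.add 36659 k)) 5237 = true := by decide +kernel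
theorem eUc8 : allBelow (fun k => feU (Nat.add 41896 k)) 5237 = true := by decide +kernel
theorem eUc9 : allBelow (fun k => feU (Nat.add 47133 k)) 5237 = true := by decide +kernel
theorem eUc10 : allBelow (fun k => feU (Nat.add 52370 k)) 5237 = true := by decide +kernel
theorem eUc11 : allBelow (fun k => feU (Nat.add 57607 k)) 5237 = true := by decide +kernel
theorem eUc12 : allBelow (fun k => feU (Nat.add 62844 k)) 5237 = true := by decide +kernel
theorem eUc13 : allBelow (fun k => feU (Nat.add 68081 k)) 5237 = true := by decide +kernel

end Cfsg.Agent.Lib.Helper35.Fi24b
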