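import Cfsg.Agent.Lib.Helper35.Fi24b.PData

set_option Elab.async false

namespace Cfsg.Agent.Lib.Helper35.Fi24b

open Cfsg.Agent.Lib.Helper35

theorem rc546 : allBelow (fun k => fr (Nat.add 149604 k)) 274 = true := by decide +kernel
theorem rc547 : allBelow (fun k => fr (Nat.add 149878 k)) 274 = true := by decide +kernel
theorem rc548 : allBelow (fun k => fr (Nat.add 150152 k)) 274 = true := by decide +kernel
theorem rc549 : allBelow (fun k => fr (Nat.add 150426 k)) 274 = true := by decide +kernel
theorem rc550 : allBelow (fun k => fr (Nat.add 150700 k)) 274 = true := by decide +kernel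
theorem rc551 : allBelow (fun k => fr (Nat.add 150974 k)) 274 = true := by decide +kernel
theorem rc552 : allBelow (fun k => fr (Nat.add 151248 k)) 274 = true := by decide +kernel
theorem rc553 : allBelow (fun k => fr (Nat.add 151522 k)) 274 = true := by decide +kernel
theorem rc554 : allBelow (fun k => fr (Nat.add 151796 k)) 274 = true := by decide +kernel
theorem rc555 : allBelow (fun k => fr (Nat.add 152070 k)) 274 = true := by decide +kernel
theorem rc556 : allBelow (fun k => fr (Nat.add 152344 k)) 274 = true := by decide +kernel
theorem rc557 : allBelow (fun k => fr (Nat.add 152618 k)) 274 = true := by decide +kernel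
theorem rc558 : allBelow (fun k => fr (Nat.add 152892 k)) 274 = true := by decide +kernel
theorem rc559 : allBelow (fun k => fr (Nat.add 153166 k)) 274 = true := by decide +kernel
theorem rc560 : allBelow (fun k => fr (Nat.add 153440 k)) 274 = true := by decide +kernel
theorem rc561 : allBelow (fun k => fr (Nat.add 153714 k)) 274 = true := by decide +kernel
theorem rc562 : allBelow (fun k => fr (Nat.add 153988 k)) 274 = true := by decide +kernel
theorem rc563 : allBelow (fun k => fr (Nat.add 154262 k)) 274 = true := by decide +kernel
theorem rc564 : allBelow (fun k => fr (Nat.add 154536 k)) 274 = true := by decide +kernel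
theorem rc565 : allBelow (fun k => fr (Nat.add 154810 k)) 274 = true := by decide +kernel
theorem rc566 : allBelow (fun k => fr (Nat.add 155084 k)) 274 = true := by decide +kernel
theorem rc567 : allBelow (fun k => fr (Nat.add 155358 k)) 274 = true := by decide +kernel
theorem rc568 : allBelow (fun k => fr (Nat.add 155632 k)) 274 = true := by decide +kernel
theorem rc569 : allBelow (fun k => fr (Nat.add 155906 k)) 274 = true := by decide +kernel
theorem rc570 : allBelow (fun k => fr (Nat.add 156180 k)) 274 = true := by decide +kernel
theorem rc571 : allBelow (fun k => fr (Nat.add 156454 k)) 274 = true := by decide +kernel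
theorem rc572 : allBelow (fun k => fr (Nat.add 156728 k)) 274 = true := by decide +kernel
theorem rc573 : allBelow (fun k => fr (Nat.add 157002 k)) 274 = true := by decide +kernel
theorem rc574 : allBelow (fun k => fr (Nat.add 157276 k)) 274 = true := by decide +kernel
theorem rc575 : allBelow (fun k => fr (Nat.add 157550 k)) 274 = true := by decide +kernel
theorem rc576 : allBelow (fun k => fr (Nat.add 157824 k)) 274 = true := by decide +kernel
theorem rc577 : allBelow (fun k => fr (Nat.add 158098 k)) 274 = true := by decide +kernel
theorem rc578 : allBelow (fun k => fr (Nat.add 158372 k)) 274 = true := by decide +kernel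
theorem rc579 : allBelow (fun k => fr (Nat.add 158646 k)) 274 = true := by decide +kernel
theorem rc580 : allBelow (fun k => fr (Nat.add 158920 k)) 274 = true := by decide +kernel
theorem rc581 : allBelow (fun k => fr (Nat.add 159194 k)) 274 = true := by decide +kernel
theorem rc582 : allBelow (fun k => fr (Nat.add 159468 k)) 274 = true := by decide +kernel
theorem rc583 : allBelow (fun k => fr (Nat.add 159742 k)) 274 = true := by decide +kernel
theorem rc584 : allBelow (fun k => fr (Nat.add 160016 k)) 274 = true := by decide +kernel
theorem rc585 : allBelow (fun k => fr (Nat.add 160290 k)) 274 = true := by decide +kernel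
theorem rc586 : allBelow (fun k => fr (Nat.add 160564 k)) 274 = true := by decide +kernel
theorem rc587 : allBelow (fun k => fr (Nat.add 160838 k)) 274 = true := by decide +kernel
theorem rc588 : allBelow (fun k => fr (Nat.add 161112 k)) 274 = true := by decide +kernel

end Cfsg.Agent.Lib.Helper35.Fi24b
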