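import Cfsg.Agent.Lib.Helper35.Fi24b.PData

set_option Elab.async false

namespace Cfsg.Agent.Lib.Helper35.Fi24b

open Cfsg.Agent.Lib.Helper35

theorem rc589 : allBelow (fun k => fr (Nat.add 161386 k)) 274 = true := by decide +kernel
theorem rc590 : allBelow (fun k => fr (Nat.add 161660 k)) 274 = true := by decide +kernel
theorem rc591 : allBelow (fun k => fr (Nat.add 161934 k)) 274 = true := by decide +kernel
theorem rc592 : allBelow (fun k => fr (Nat.add 162208 k)) 274 = true := by decide +kernel
theorem rc593 : allBelow (fun k => fr (Nat.add 162482 k)) 274 = true := by decide +kernel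
theorem rc594 : allBelow (fun k => fr (Nat.add 162756 k)) 274 = true := by decide +kernel
theorem rc595 : allBelow (fun k => fr (Nat.add 163030 k)) 274 = true := by decide +kernel
theorem rc596 : allBelow (fun k => fr (Nat.add 163304 k)) 274 = true := by decide +kernel
theorem rc597 : allBelow (fun k => fr (Nat.add 163578 k)) 274 = true := by decide +kernel
theorem rc598 : allBelow (fun k => fr (Nat.add 163852 k)) 274 = true := by decide +kernel
theorem rc599 : allBelow (fun k => fr (Nat.add 164126 k)) 274 = true := by decide +kernel
theorem rc600 : allBelow (fun k => fr (Nat.add 164400 k)) 274 = true := by decide +kernel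
theorem rc601 : allBelow (fun k => fr (Nat.add 164674 k)) 274 = true := by decide +kernel
theorem rc602 : allBelow (fun k => fr (Nat.add 164948 k)) 274 = true := by decide +kernel
theorem rc603 : allBelow (fun k => fr (Nat.add 165222 k)) 274 = true := by decide +kernel
theorem rc604 : allBelow (fun k => fr (Nat.add 165496 k)) 274 = true := by decide +kernel
theorem rc605 : allBelow (fun k => fr (Nat.add 165770 k)) 274 = true := by decide +kernel
theorem rc606 : allBelow (fun k => fr (Nat.add 166044 k)) 274 = true := by decide +kernel
theorem rc607 : allBelow (fun k => fr (Nat.add 166318 k)) 274 = true := by decide +kernel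
theorem rc608 : allBelow (fun k => fr (Nat.add 166592 k)) 274 = true := by decide +kernel
theorem rc609 : allBelow (fun k => fr (Nat.add 166866 k)) 274 = true := by decide +kernel
theorem rc610 : allBelow (fun k => fr (Nat.add 167140 k)) 274 = true := by decide +kernel
theorem rc611 : allBelow (fun k => fr (Nat.add 167414 k)) 274 = true := by decide +kernel
theorem rc612 : allBelow (fun k => fr (Nat.add 167688 k)) 274 = true := by decide +kernel
theorem rc613 : allBelow (fun k => fr (Nat.add 167962 k)) 274 = true := by decide +kernel
theorem rc614 : allBelow (fun k => fr (Nat.add 168236 k)) 274 = true := by decide +kernel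
theorem rc615 : allBelow (fun k => fr (Nat.add 168510 k)) 274 = true := by decide +kernel
theorem rc616 : allBelow (fun k => fr (Nat.add 168784 k)) 274 = true := by decide +kernel
theorem rc617 : allBelow (fun k => fr (Nat.add 169058 k)) 274 = true := by decide +kernel
theorem rc618 : allBelow (fun k => fr (Nat.add 169332 k)) 274 = true := by decide +kernel
theorem rc619 : allBelow (fun k => fr (Nat.add 169606 k)) 274 = true := by decide +kernel
theorem rc620 : allBelow (fun k => fr (Nat.add 169880 k)) 274 = true := by decide +kernel
theorem rc621 : allBelow (fun k => fr (Nat.add 170154 k)) 274 = true := by decide +kernel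
theorem rc622 : allBelow (fun k => fr (Nat.add 170428 k)) 274 = true := by decide +kernel
theorem rc623 : allBelow (fun k => fr (Nat.add 170702 k)) 274 = true := by decide +kernel
theorem rc624 : allBelow (fun k => fr (Nat.add 170976 k)) 274 = true := by decide +kernel
theorem rc625 : allBelow (fun k => fr (Nat.add 171250 k)) 274 = true := by decide +kernel
theorem rc626 : allBelow (fun k => fr (Nat.add 171524 k)) 274 = true := by decide +kernel
theorem rc627 : allBelow (fun k => fr (Nat.add 171798 k)) 274 = true := by decide +kernel
theorem rc628 : allBelow (fun k => fr (Nat.add 172072 k)) 274 = true := by decide +kernel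
theorem rc629 : allBelow (fun k => fr (Nat.add 172346 k)) 274 = true := by decide +kernel
theorem rc630 : allBelow (fun k => fr (Nat.add 172620 k)) 274 = true := by decide +kernel
theorem rc631 : allBelow (fun k => fr (Nat.add 172894 k)) 274 = true := by decide +kernel

end Cfsg.Agent.Lib.Helper35.Fi24b
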