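import Cfsg.Agent.Lib.Helper35.Fi24b.PData

set_option Elab.async false

namespace Cfsg.Agent.Lib.Helper35.Fi24b

open Cfsg.Agent.Lib.Helper35

theorem rc632 : allBelow (fun k => fr (Nat.add 173168 k)) 274 = true := by decide +kernel
theorem rc633 : allBelow (fun k => fr (Nat.add 173442 k)) 274 = true := by decide +kernel
theorem rc634 : allBelow (fun k => fr (Nat.add 173716 k)) 274 = true := by decide +kernel
theorem rc635 : allBelow (fun k => fr (Nat.add 173990 k)) 274 = true := by decide +kernel
theorem rc636 : allBelow (fun k => fr (Nat.add 174264 k)) 274 = true := by decide +kernel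
theorem rc637 : allBelow (fun k => fr (Nat.add 174538 k)) 274 = true := by decide +kernel
theorem rc638 : allBelow (fun k => fr (Nat.add 174812 k)) 274 = true := by decide +kernel
theorem rc639 : allBelow (fun k => fr (Nat.add 175086 k)) 274 = true := by decide +kernel
theorem rc640 : allBelow (fun k => fr (Nat.add 175360 k)) 274 = true := by decide +kernel
theorem rc641 : allBelow (fun k => fr (Nat.add 175634 k)) 274 = true := by decide +kernel
theorem rc642 : allBelow (fun k => fr (Nat.add 175908 k)) 274 = true := by decide +kernel
theorem rc643 : allBelow (fun k => fr (Nat.add 176182 k)) 274 = true := by decide +kernel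
theorem rc644 : allBelow (fun k => fr (Nat.add 176456 k)) 274 = true := by decide +kernel
theorem rc645 : allBelow (fun k => fr (Nat.add 176730 k)) 274 = true := by decide +kernel
theorem rc646 : allBelow (fun k => fr (Nat.add 177004 k)) 274 = true := by decide +kernel
theorem rc647 : allBelow (fun k => fr (Nat.add 177278 k)) 274 = true := by decide +kernel
theorem rc648 : allBelow (fun k => fr (Nat.add 177552 k)) 274 = true := by decide +kernel
theorem rc649 : allBelow (fun k => fr (Nat.add 177826 k)) 274 = true := by decide +kernel
theorem rc650 : allBelow (fun k => fr (Nat.add 178100 k)) 274 = true := by decide +kernel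
theorem rc651 : allBelow (fun k => fr (Nat.add 178374 k)) 274 = true := by decide +kernel
theorem rc652 : allBelow (fun k => fr (Nat.add 178648 k)) 274 = true := by decide +kernel
theorem rc653 : allBelow (fun k => fr (Nat.add 178922 k)) 274 = true := by decide +kernel
theorem rc654 : allBelow (fun k => fr (Nat.add 179196 k)) 274 = true := by decide +kernel
theorem rc655 : allBelow (fun k => fr (Nat.add 179470 k)) 274 = true := by decide +kernel
theorem rc656 : allBelow (fun k => fr (Nat.add 179744 k)) 274 = true := by decide +kernel
theorem rc657 : allBelow (fun k => fr (Nat.add 180018 k)) 274 = true := by decide +kernel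
theorem rc658 : allBelow (fun k => fr (Nat.add 180292 k)) 274 = true := by decide +kernel
theorem rc659 : allBelow (fun k => fr (Nat.add 180566 k)) 274 = true := by decide +kernel
theorem rc660 : allBelow (fun k => fr (Nat.add 180840 k)) 274 = true := by decide +kernel
theorem rc661 : allBelow (fun k => fr (Nat.add 181114 k)) 274 = true := by decide +kernel
theorem rc662 : allBelow (fun k => fr (Nat.add 181388 k)) 274 = true := by decide +kernel
theorem rc663 : allBelow (fun k => fr (Nat.add 181662 k)) 274 = true := by decide +kernel
theorem rc664 : allBelow (fun k => fr (Nat.add 181936 k)) 274 = true := by decide +kernel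
theorem rc665 : allBelow (fun k => fr (Nat.add 182210 k)) 274 = true := by decide +kernel
theorem rc666 : allBelow (fun k => fr (Nat.add 182484 k)) 274 = true := by decide +kernel
theorem rc667 : allBelow (fun k => fr (Nat.add 182758 k)) 274 = true := by decide +kernel
theorem rc668 : allBelow (fun k => fr (Nat.add 183032 k)) 274 = true := by decide +kernel
theorem rc669 : allBelow (fun k => fr (Nat.add 183306 k)) 274 = true := by decide +kernel
theorem rc670 : allBelow (fun k => fr (Nat.add 183580 k)) 274 = true := by decide +kernel
theorem rc671 : allBelow (fun k => fr (Nat.add 183854 k)) 274 = true := by decide +kernel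
theorem rc672 : allBelow (fun k => fr (Nat.add 184128 k)) 274 = true := by decide +kernel
theorem rc673 : allBelow (fun k => fr (Nat.add 184402 k)) 274 = true := by decide +kernel
theorem rc674 : allBelow (fun k => fr (Nat.add 184676 k)) 274 = true := by decide +kernel

end Cfsg.Agent.Lib.Helper35.Fi24b
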