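import Cfsg.Agent.Lib.Helper35.Fi24b.PData

set_option Elab.async false

namespace Cfsg.Agent.Lib.Helper35.Fi24b

open Cfsg.Agent.Lib.Helper35

theorem rc675 : allBelow (fun k => fr (Nat.add 184950 k)) 274 = true := by decide +kernel
theorem rc676 : allBelow (fun k => fr (Nat.add 185224 k)) 274 = true := by decide +kernel
theorem rc677 : allBelow (fun k => fr (Nat.add 185498 k)) 274 = true := by decide +kernel
theorem rc678 : allBelow (fun k => fr (Nat.add 185772 k)) 274 = true := by decide +kernel
theorem rc679 : allBelow (fun k => fr (Nat.add 186046 k)) 274 = true := by decide +kernel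
theorem rc680 : allBelow (fun k => fr (Nat.add 186320 k)) 274 = true := by decide +kernel
theorem rc681 : allBelow (fun k => fr (Nat.add 186594 k)) 274 = true := by decide +kernel
theorem rc682 : allBelow (fun k => fr (Nat.add 186868 k)) 274 = true := by decide +kernel
theorem rc683 : allBelow (fun k => fr (Nat.add 187142 k)) 274 = true := by decide +kernel
theorem rc684 : allBelow (fun k => fr (Nat.add 187416 k)) 274 = true := by decide +kernel
theorem rc685 : allBelow (fun k => fr (Nat.add 187690 k)) 274 = true := by decide +kernel
theorem rc686 : allBelow (fun k => fr (Nat.add 187964 k)) 274 = true := by decide +kernel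
theorem rc687 : allBelow (fun k => fr (Nat.add 188238 k)) 274 = true := by decide +kernel
theorem rc688 : allBelow (fun k => fr (Nat.add 188512 k)) 274 = true := by decide +kernel
theorem rc689 : allBelow (fun k => fr (Nat.add 188786 k)) 274 = true := by decide +kernel
theorem rc690 : allBelow (fun k => fr (Nat.add 189060 k)) 274 = true := by decide +kernel
theorem rc691 : allBelow (fun k => fr (Nat.add 189334 k)) 274 = true := by decide +kernel
theorem rc692 : allBelow (fun k => fr (Nat.add 189608 k)) 274 = true := by decide +kernel
theorem rc693 : allBelow (fun k => fr (Nat.add 189882 k)) 274 = true := by decide +kernel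
theorem rc694 : allBelow (fun k => fr (Nat.add 190156 k)) 274 = true := by decide +kernel
theorem rc695 : allBelow (fun k => fr (Nat.add 190430 k)) 274 = true := by decide +kernel
theorem rc696 : allBelow (fun k => fr (Nat.add 190704 k)) 274 = true := by decide +kernel
theorem rc697 : allBelow (fun k => fr (Nat.add 190978 k)) 274 = true := by decide +kernel
theorem rc698 : allBelow (fun k => fr (Nat.add 191252 k)) 274 = true := by decide +kernel
theorem rc699 : allBelow (fun k => fr (Nat.add 191526 k)) 274 = true := by decide +kernel
theorem rc700 : allBelow (fun k => fr (Nat.add 191800 k)) 274 = true := by decide +kernel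
theorem rc701 : allBelow (fun k => fr (Nat.add 192074 k)) 274 = true := by decide +kernel
theorem rc702 : allBelow (fun k => fr (Nat.add 192348 k)) 274 = true := by decide +kernel
theorem rc703 : allBelow (fun k => fr (Nat.add 192622 k)) 274 = true := by decide +kernel
theorem rc704 : allBelow (fun k => fr (Nat.add 192896 k)) 274 = true := by decide +kernel
theorem rc705 : allBelow (fun k => fr (Nat.add 193170 k)) 274 = true := by decide +kernel
theorem rc706 : allBelow (fun k => fr (Nat.add 193444 k)) 274 = true := by decide +kernel
theorem rc707 : allBelow (fun k => fr (Nat.add 193718 k)) 274 = true := by decide +kernel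
theorem rc708 : allBelow (fun k => fr (Nat.add 193992 k)) 274 = true := by decide +kernel
theorem rc709 : allBelow (fun k => fr (Nat.add 194266 k)) 274 = true := by decide +kernel
theorem rc710 : allBelow (fun k => fr (Nat.add 194540 k)) 274 = true := by decide +kernel
theorem rc711 : allBelow (fun k => fr (Nat.add 194814 k)) 274 = true := by decide +kernel
theorem rc712 : allBelow (fun k => fr (Nat.add 195088 k)) 274 = true := by decide +kernel
theorem rc713 : allBelow (fun k => fr (Nat.add 195362 k)) 274 = true := by decide +kernel
theorem rc714 : allBelow (fun k => fr (Nat.add 195636 k)) 274 = true := by decide +kernel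
theorem rc715 : allBelow (fun k => fr (Nat.add 195910 k)) 274 = true := by decide +kernel
theorem rc716 : allBelow (fun k => fr (Nat.add 196184 k)) 274 = true := by decide +kernel
theorem rc717 : allBelow (fun k => fr (Nat.add 196458 k)) 274 = true := by decide +kernel

end Cfsg.Agent.Lib.Helper35.Fi24b
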