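import Cfsg.Agent.Lib.Helper35.Fi24b.PData

set_option Elab.async false

namespace Cfsg.Agent.Lib.Helper35.Fi24b

open Cfsg.Agent.Lib.Helper35

theorem rc718 : allBelow (fun k => fr (Nat.add 196732 k)) 274 = true := by decide +kernel
theorem rc719 : allBelow (fun k => fr (Nat.add 197006 k)) 274 = true := by decide +kernel
theorem rc720 : allBelow (fun k => fr (Nat.add 197280 k)) 274 = true := by decide +kernel
theorem rc721 : allBelow (fun k => fr (Nat.add 197554 k)) 274 = true := by decide +kernel
theorem rc722 : allBelow (fun k => fr (Nat.add 197828 k)) 274 = true := by decide +kernel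
theorem rc723 : allBelow (fun k => fr (Nat.add 198102 k)) 274 = true := by decide +kernel
theorem rc724 : allBelow (fun k => fr (Nat.add 198376 k)) 274 = true := by decide +kernel
theorem rc725 : allBelow (fun k => fr (Nat.add 198650 k)) 274 = true := by decide +kernel
theorem rc726 : allBelow (fun k => fr (Nat.add 198924 k)) 274 = true := by decide +kernel
theorem rc727 : allBelow (fun k => fr (Nat.add 199198 k)) 274 = true := by decide +kernel
theorem rc728 : allBelow (fun k => fr (Nat.add 199472 k)) 274 = true := by decide +kernel
theorem rc729 : allBelow (fun k => fr (Nat.add 199746 k)) 274 = true := by decide +kernel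
theorem rc730 : allBelow (fun k => fr (Nat.add 200020 k)) 274 = true := by decide +kernel
theorem rc731 : allBelow (fun k => fr (Nat.add 200294 k)) 274 = true := by decide +kernel
theorem rc732 : allBelow (fun k => fr (Nat.add 200568 k)) 274 = true := by decide +kernel
theorem rc733 : allBelow (fun k => fr (Nat.add 200842 k)) 274 = true := by decide +kernel
theorem rc734 : allBelow (fun k => fr (Nat.add 201116 k)) 274 = true := by decide +kernel
theorem rc735 : allBelow (fun k => fr (Nat.add 201390 k)) 274 = true := by decide +kernel
theorem rc736 : allBelow (fun k => fr (Nat.add 201664 k)) 274 = true := by decide +kernel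
theorem rc737 : allBelow (fun k => fr (Nat.add 201938 k)) 274 = true := by decide +kernel
theorem rc738 : allBelow (fun k => fr (Nat.add 202212 k)) 274 = true := by decide +kernel
theorem rc739 : allBelow (fun k => fr (Nat.add 202486 k)) 274 = true := by decide +kernel
theorem rc740 : allBelow (fun k => fr (Nat.add 202760 k)) 274 = true := by decide +kernel
theorem rc741 : allBelow (fun k => fr (Nat.add 203034 k)) 274 = true := by decide +kernel
theorem rc742 : allBelow (fun k => fr (Nat.add 203308 k)) 274 = true := by decide +kernel
theorem rc743 : allBelow (fun k => fr (Nat.add 203582 k)) 274 = true := by decide +kernel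
theorem rc744 : allBelow (fun k => fr (Nat.add 203856 k)) 274 = true := by decide +kernel
theorem rc745 : allBelow (fun k => fr (Nat.add 204130 k)) 274 = true := by decide +kernel
theorem rc746 : allBelow (fun k => fr (Nat.add 204404 k)) 274 = true := by decide +kernel
theorem rc747 : allBelow (fun k => fr (Nat.add 204678 k)) 274 = true := by decide +kernel
theorem rc748 : allBelow (fun k => fr (Nat.add 204952 k)) 274 = true := by decide +kernel
theorem rc749 : allBelow (fun k => fr (Nat.add 205226 k)) 274 = true := by decide +kernel
theorem rc750 : allBelow (fun k => fr (Nat.add 205500 k)) 274 = true := by decide +kernel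
theorem rc751 : allBelow (fun k => fr (Nat.add 205774 k)) 274 = true := by decide +kernel
theorem rc752 : allBelow (fun k => fr (Nat.add 206048 k)) 274 = true := by decide +kernel
theorem rc753 : allBelow (fun k => fr (Nat.add 206322 k)) 274 = true := by decide +kernel
theorem rc754 : allBelow (fun k => fr (Nat.add 206596 k)) 274 = true := by decide +kernel
theorem rc755 : allBelow (fun k => fr (Nat.add 206870 k)) 274 = true := by decide +kernel
theorem rc756 : allBelow (fun k => fr (Nat.add 207144 k)) 274 = true := by decide +kernel
theorem rc757 : allBelow (fun k => fr (Nat.add 207418 k)) 274 = true := by decide +kernel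
theorem rc758 : allBelow (fun k => fr (Nat.add 207692 k)) 274 = true := by decide +kernel
theorem rc759 : allBelow (fun k => fr (Nat.add 207966 k)) 274 = true := by decide +kernel
theorem rc760 : allBelow (fun k => fr (Nat.add 208240 k)) 274 = true := by decide +kernel

end Cfsg.Agent.Lib.Helper35.Fi24b
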