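import Cfsg.Agent.Lib.Helper35.Fi24b.PData

set_option Elab.async false

namespace Cfsg.Agent.Lib.Helper35.Fi24b

open Cfsg.Agent.Lib.Helper35

theorem rc761 : allBelow (fun k => fr (Nat.add 208514 k)) 274 = true := by decide +kernel
theorem rc762 : allBelow (fun k => fr (Nat.add 208788 k)) 274 = true := by decide +kernel
theorem rc763 : allBelow (fun k => fr (Nat.add 209062 k)) 274 = true := by decide +kernel
theorem rc764 : allBelow (fun k => fr (Nat.add 209336 k)) 274 = true := by decide +kernel
theorem rc765 : allBelow (fun k => fr (Nat.add 209610 k)) 274 = true := by decide +kernel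
theorem rc766 : allBelow (fun k => fr (Nat.add 209884 k)) 274 = true := by decide +kernel
theorem rc767 : allBelow (fun k => fr (Nat.add 210158 k)) 274 = true := by decide +kernel
theorem rc768 : allBelow (fun k => fr (Nat.add 210432 k)) 274 = true := by decide +kernel
theorem rc769 : allBelow (fun k => fr (Nat.add 210706 k)) 274 = true := by decide +kernel
theorem rc770 : allBelow (fun k => fr (Nat.add 210980 k)) 274 = true := by decide +kernel
theorem rc771 : allBelow (fun k => fr (Nat.add 211254 k)) 274 = true := by decide +kernel
theorem rc772 : allBelow (fun k => fr (Nat.add 211528 k)) 274 = true := by decide +kernel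
theorem rc773 : allBelow (fun k => fr (Nat.add 211802 k)) 274 = true := by decide +kernel
theorem rc774 : allBelow (fun k => fr (Nat.add 212076 k)) 274 = true := by decide +kernel
theorem rc775 : allBelow (fun k => fr (Nat.add 212350 k)) 274 = true := by decide +kernel
theorem rc776 : allBelow (fun k => fr (Nat.add 212624 k)) 274 = true := by decide +kernel
theorem rc777 : allBelow (fun k => fr (Nat.add 212898 k)) 274 = true := by decide +kernel
theorem rc778 : allBelow (fun k => fr (Nat.add 213172 k)) 274 = true := by decide +kernel
theorem rc779 : allBelow (fun k => fr (Nat.add 213446 k)) 274 = true := by decide +kernel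
theorem rc780 : allBelow (fun k => fr (Nat.add 213720 k)) 274 = true := by decide +kernel
theorem rc781 : allBelow (fun k => fr (Nat.add 213994 k)) 274 = true := by decide +kernel
theorem rc782 : allBelow (fun k => fr (Nat.add 214268 k)) 274 = true := by decide +kernel
theorem rc783 : allBelow (fun k => fr (Nat.add 214542 k)) 274 = true := by decide +kernel
theorem rc784 : allBelow (fun k => fr (Nat.add 214816 k)) 274 = true := by decide +kernel
theorem rc785 : allBelow (fun k => fr (Nat.add 215090 k)) 274 = true := by decide +kernel
theorem rc786 : allBelow (fun k => fr (Nat.add 215364 k)) 274 = true := by decide +kernel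
theorem rc787 : allBelow (fun k => fr (Nat.add 215638 k)) 274 = true := by decide +kernel
theorem rc788 : allBelow (fun k => fr (Nat.add 215912 k)) 274 = true := by decide +kernel
theorem rc789 : allBelow (fun k => fr (Nat.add 216186 k)) 274 = true := by decide +kernel
theorem rc790 : allBelow (fun k => fr (Nat.add 216460 k)) 274 = true := by decide +kernel
theorem rc791 : allBelow (fun k => fr (Nat.add 216734 k)) 274 = true := by decide +kernel
theorem rc792 : allBelow (fun k => fr (Nat.add 217008 k)) 274 = true := by decide +kernel
theorem rc793 : allBelow (fun k => fr (Nat.add 217282 k)) 274 = true := by decide +kernel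
theorem rc794 : allBelow (fun k => fr (Nat.add 217556 k)) 274 = true := by decide +kernel
theorem rc795 : allBelow (fun k => fr (Nat.add 217830 k)) 274 = true := by decide +kernel
theorem rc796 : allBelow (fun k => fr (Nat.add 218104 k)) 274 = true := by decide +kernel
theorem rc797 : allBelow (fun k => fr (Nat.add 218378 k)) 274 = true := by decide +kernel
theorem rc798 : allBelow (fun k => fr (Nat.add 218652 k)) 274 = true := by decide +kernel
theorem rc799 : allBelow (fun k => fr (Nat.add 218926 k)) 274 = true := by decide +kernel
theorem rc800 : allBelow (fun k => fr (Nat.add 219200 k)) 274 = true := by decide +kernel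
theorem rc801 : allBelow (fun k => fr (Nat.add 219474 k)) 274 = true := by decide +kernel
theorem rc802 : allBelow (fun k => fr (Nat.add 219748 k)) 274 = true := by decide +kernel
theorem rc803 : allBelow (fun k => fr (Nat.add 220022 k)) 274 = true := by decide +kernel

end Cfsg.Agent.Lib.Helper35.Fi24b
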