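import Cfsg.Agent.Lib.Helper35.Fi24b.PData

set_option Elab.async false

namespace Cfsg.Agent.Lib.Helper35.Fi24b

open Cfsg.Agent.Lib.Helper35

theorem rc804 : allBelow (fun k => fr (Nat.add 220296 k)) 274 = true := by decide +kernel
theorem rc805 : allBelow (fun k => fr (Nat.add 220570 k)) 274 = true := by decide +kernel
theorem rc806 : allBelow (fun k => fr (Nat.add 220844 k)) 274 = true := by decide +kernel
theorem rc807 : allBelow (fun k => fr (Nat.add 221118 k)) 274 = true := by decide +kernel
theorem rc808 : allBelow (fun k => fr (Nat.add 221392 k)) 274 = true := by decide +kernel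
theorem rc809 : allBelow (fun k => fr (Nat.add 221666 k)) 274 = true := by decide +kernel
theorem rc810 : allBelow (fun k => fr (Nat.add 221940 k)) 274 = true := by decide +kernel
theorem rc811 : allBelow (fun k => fr (Nat.add 222214 k)) 274 = true := by decide +kernel
theorem rc812 : allBelow (fun k => fr (Nat.add 222488 k)) 274 = true := by decide +kernel
theorem rc813 : allBelow (fun k => fr (Nat.add 222762 k)) 274 = true := by decide +kernel
theorem rc814 : allBelow (fun k => fr (Nat.add 223036 k)) 274 = true := by decide +kernel
theorem rc815 : allBelow (fun k => fr (Nat.add 223310 k)) 274 = true := by decide +kernel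
theorem rc816 : allBelow (fun k => fr (Nat.add 223584 k)) 274 = true := by decide +kernel
theorem rc817 : allBelow (fun k => fr (Nat.add 223858 k)) 274 = true := by decide +kernel
theorem rc818 : allBelow (fun k => fr (Nat.add 224132 k)) 274 = true := by decide +kernel
theorem rc819 : allBelow (fun k => fr (Nat.add 224406 k)) 274 = true := by decide +kernel
theorem rc820 : allBelow (fun k => fr (Nat.add 224680 k)) 274 = true := by decide +kernel
theorem rc821 : allBelow (fun k => fr (Nat.add 224954 k)) 274 = true := by decide +kernel
theorem rc822 : allBelow (fun k => fr (Nat.add 225228 k)) 274 = true := by decide +kernel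
theorem rc823 : allBelow (fun k => fr (Nat.add 225502 k)) 274 = true := by decide +kernel
theorem rc824 : allBelow (fun k => fr (Nat.add 225776 k)) 274 = true := by decide +kernel
theorem rc825 : allBelow (fun k => fr (Nat.add 226050 k)) 274 = true := by decide +kernel
theorem rc826 : allBelow (fun k => fr (Nat.add 226324 k)) 274 = true := by decide +kernel
theorem rc827 : allBelow (fun k => fr (Nat.add 226598 k)) 274 = true := by decide +kernel
theorem rc828 : allBelow (fun k => fr (Nat.add 226872 k)) 274 = true := by decide +kernel
theorem rc829 : allBelow (fun k => fr (Nat.add 227146 k)) 274 = true := by decide +kernel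
theorem rc830 : allBelow (fun k => fr (Nat.add 227420 k)) 274 = true := by decide +kernel
theorem rc831 : allBelow (fun k => fr (Nat.add 227694 k)) 274 = true := by decide +kernel
theorem rc832 : allBelow (fun k => fr (Nat.add 227968 k)) 274 = true := by decide +kernel
theorem rc833 : allBelow (fun k => fr (Nat.add 228242 k)) 274 = true := by decide +kernel
theorem rc834 : allBelow (fun k => fr (Nat.add 228516 k)) 274 = true := by decide +kernel
theorem rc835 : allBelow (fun k => fr (Nat.add 228790 k)) 274 = true := by decide +kernel
theorem rc836 : allBelow (fun k => fr (Nat.add 229064 k)) 274 = true := by decide +kernel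
theorem rc837 : allBelow (fun k => fr (Nat.add 229338 k)) 274 = true := by decide +kernel
theorem rc838 : allBelow (fun k => fr (Nat.add 229612 k)) 274 = true := by decide +kernel
theorem rc839 : allBelow (fun k => fr (Nat.add 229886 k)) 274 = true := by decide +kernel
theorem rc840 : allBelow (fun k => fr (Nat.add 230160 k)) 274 = true := by decide +kernel
theorem rc841 : allBelow (fun k => fr (Nat.add 230434 k)) 274 = true := by decide +kernel
theorem rc842 : allBelow (fun k => fr (Nat.add 230708 k)) 274 = true := by decide +kernel
theorem rc843 : allBelow (fun k => fr (Nat.add 230982 k)) 274 = true := by decide +kernel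
theorem rc844 : allBelow (fun k => fr (Nat.add 231256 k)) 274 = true := by decide +kernel
theorem rc845 : allBelow (fun k => fr (Nat.add 231530 k)) 274 = true := by decide +kernel
theorem rc846 : allBelow (fun k => fr (Nat.add 231804 k)) 274 = true := by decide +kernel

end Cfsg.Agent.Lib.Helper35.Fi24b
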