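import Cfsg.Agent.Lib.Helper35.Fi24b.PData

set_option Elab.async false

namespace Cfsg.Agent.Lib.Helper35.Fi24b

open Cfsg.Agent.Lib.Helper35

theorem rc847 : allBelow (fun k => fr (Nat.add 232078 k)) 274 = true := by decide +kernel
theorem rc848 : allBelow (fun k => fr (Nat.add 232352 k)) 274 = true := by decide +kernel
theorem rc849 : allBelow (fun k => fr (Nat.add 232626 k)) 274 = true := by decide +kernel
theorem rc850 : allBelow (fun k => fr (Nat.add 232900 k)) 274 = true := by decide +kernel
theorem rc851 : allBelow (fun k => fr (Nat.add 233174 k)) 274 = true := by decide +kernel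
theorem rc852 : allBelow (fun k => fr (Nat.add 233448 k)) 274 = true := by decide +kernel
theorem rc853 : allBelow (fun k => fr (Nat.add 233722 k)) 274 = true := by decide +kernel
theorem rc854 : allBelow (fun k => fr (Nat.add 233996 k)) 274 = true := by decide +kernel
theorem rc855 : allBelow (fun k => fr (Nat.add 234270 k)) 274 = true := by decide +kernel
theorem rc856 : allBelow (fun k => fr (Nat.add 234544 k)) 274 = true := by decide +kernel
theorem rc857 : allBelow (fun k => fr (Nat.add 234818 k)) 274 = true := by decide +kernel
theorem rc858 : allBelow (fun k => fr (Nat.add 235092 k)) 274 = true := by decide +kernel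
theorem rc859 : allBelow (fun k => fr (Nat.add 235366 k)) 274 = true := by decide +kernel
theorem rc860 : allBelow (fun k => fr (Nat.add 235640 k)) 274 = true := by decide +kernel
theorem rc861 : allBelow (fun k => fr (Nat.add 235914 k)) 274 = true := by decide +kernel
theorem rc862 : allBelow (fun k => fr (Nat.add 236188 k)) 274 = true := by decide +kernel
theorem rc863 : allBelow (fun k => fr (Nat.add 236462 k)) 274 = true := by decide +kernel
theorem rc864 : allBelow (fun k => fr (Nat.add 236736 k)) 274 = true := by decide +kernel
theorem rc865 : allBelow (fun k => fr (Nat.add 237010 k)) 274 = true := by decide +kernel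
theorem rc866 : allBelow (fun k => fr (Nat.add 237284 k)) 274 = true := by decide +kernel
theorem rc867 : allBelow (fun k => fr (Nat.add 237558 k)) 274 = true := by decide +kernel
theorem rc868 : allBelow (fun k => fr (Nat.add 237832 k)) 274 = true := by decide +kernel
theorem rc869 : allBelow (fun k => fr (Nat.add 238106 k)) 274 = true := by decide +kernel
theorem rc870 : allBelow (fun k => fr (Nat.add 238380 k)) 274 = true := by decide +kernel
theorem rc871 : allBelow (fun k => fr (Nat.add 238654 k)) 274 = true := by decide +kernel
theorem rc872 : allBelow (fun k => fr (Nat.add 238928 k)) 274 = true := by decide +kernel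
theorem rc873 : allBelow (fun k => fr (Nat.add 239202 k)) 274 = true := by decide +kernel
theorem rc874 : allBelow (fun k => fr (Nat.add 239476 k)) 274 = true := by decide +kernel
theorem rc875 : allBelow (fun k => fr (Nat.add 239750 k)) 274 = true := by decide +kernel
theorem rc876 : allBelow (fun k => fr (Nat.add 240024 k)) 274 = true := by decide +kernel
theorem rc877 : allBelow (fun k => fr (Nat.add 240298 k)) 274 = true := by decide +kernel
theorem rc878 : allBelow (fun k => fr (Nat.add 240572 k)) 274 = true := by decide +kernel
theorem rc879 : allBelow (fun k => fr (Nat.add 240846 k)) 274 = true := by decide +kernel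
theorem rc880 : allBelow (fun k => fr (Nat.add 241120 k)) 274 = true := by decide +kernel
theorem rc881 : allBelow (fun k => fr (Nat.add 241394 k)) 274 = true := by decide +kernel
theorem rc882 : allBelow (fun k => fr (Nat.add 241668 k)) 274 = true := by decide +kernel
theorem rc883 : allBelow (fun k => fr (Nat.add 241942 k)) 274 = true := by decide +kernel
theorem rc884 : allBelow (fun k => fr (Nat.add 242216 k)) 274 = true := by decide +kernel
theorem rc885 : allBelow (fun k => fr (Nat.add 242490 k)) 274 = true := by decide +kernel
theorem rc886 : allBelow (fun k => fr (Nat.add 242764 k)) 274 = true := by decide +kernel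
theorem rc887 : allBelow (fun k => fr (Nat.add 243038 k)) 274 = true := by decide +kernel
theorem rc888 : allBelow (fun k => fr (Nat.add 243312 k)) 274 = true := by decide +kernel
theorem rc889 : allBelow (fun k => fr (Nat.add 243586 k)) 274 = true := by decide +kernel

end Cfsg.Agent.Lib.Helper35.Fi24b
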