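import Cfsg.Agent.Lib.Helper35.Fi24b.PData

set_option Elab.async false

namespace Cfsg.Agent.Lib.Helper35.Fi24b

open Cfsg.Agent.Lib.Helper35

theorem rc890 : allBelow (fun k => fr (Nat.add 243860 k)) 274 = true := by decide +kernel
theorem rc891 : allBelow (fun k => fr (Nat.add 244134 k)) 274 = true := by decide +kernel
theorem rc892 : allBelow (fun k => fr (Nat.add 244408 k)) 274 = true := by decide +kernel
theorem rc893 : allBelow (fun k => fr (Nat.add 244682 k)) 274 = true := by decide +kernel
theorem rc894 : allBelow (fun k => fr (Nat.add 244956 k)) 274 = true := by decide +kernel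
theorem rc895 : allBelow (fun k => fr (Nat.add 245230 k)) 274 = true := by decide +kernel
theorem rc896 : allBelow (fun k => fr (Nat.add 245504 k)) 274 = true := by decide +kernel
theorem rc897 : allBelow (fun k => fr (Nat.add 245778 k)) 274 = true := by decide +kernel
theorem rc898 : allBelow (fun k => fr (Nat.add 246052 k)) 274 = true := by decide +kernel
theorem rc899 : allBelow (fun k => fr (Nat.add 246326 k)) 274 = true := by decide +kernel
theorem rc900 : allBelow (fun k => fr (Nat.add 246600 k)) 274 = true := by decide +kernel
theorem rc901 : allBelow (fun k => fr (Nat.add 246874 k)) 274 = true := by decide +kernel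
theorem rc902 : allBelow (fun k => fr (Nat.add 247148 k)) 274 = true := by decide +kernel
theorem rc903 : allBelow (fun k => fr (Nat.add 247422 k)) 274 = true := by decide +kernel
theorem rc904 : allBelow (fun k => fr (Nat.add 247696 k)) 274 = true := by decide +kernel
theorem rc905 : allBelow (fun k => fr (Nat.add 247970 k)) 274 = true := by decide +kernel
theorem rc906 : allBelow (fun k => fr (Nat.add 248244 k)) 274 = true := by decide +kernel
theorem rc907 : allBelow (fun k => fr (Nat.add 248518 k)) 274 = true := by decide +kernel
theorem rc908 : allBelow (fun k => fr (Nat.add 248792 k)) 274 = true := by decide +kernel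
theorem rc909 : allBelow (fun k => fr (Nat.add 249066 k)) 274 = true := by decide +kernel
theorem rc910 : allBelow (fun k => fr (Nat.add 249340 k)) 274 = true := by decide +kernel
theorem rc911 : allBelow (fun k => fr (Nat.add 249614 k)) 274 = true := by decide +kernel
theorem rc912 : allBelow (fun k => fr (Nat.add 249888 k)) 274 = true := by decide +kernel
theorem rc913 : allBelow (fun k => fr (Nat.add 250162 k)) 274 = true := by decide +kernel
theorem rc914 : allBelow (fun k => fr (Nat.add 250436 k)) 274 = true := by decide +kernel
theorem rc915 : allBelow (fun k => fr (Nat.add 250710 k)) 274 = true := by decide +kernel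
theorem rc916 : allBelow (fun k => fr (Nat.add 250984 k)) 274 = true := by decide +kernel
theorem rc917 : allBelow (fun k => fr (Nat.add 251258 k)) 274 = true := by decide +kernel
theorem rc918 : allBelow (fun k => fr (Nat.add 251532 k)) 274 = true := by decide +kernel
theorem rc919 : allBelow (fun k => fr (Nat.add 251806 k)) 274 = true := by decide +kernel
theorem rc920 : allBelow (fun k => fr (Nat.add 252080 k)) 274 = true := by decide +kernel
theorem rc921 : allBelow (fun k => fr (Nat.add 252354 k)) 274 = true := by decide +kernel
theorem rc922 : allBelow (fun k => fr (Nat.add 252628 k)) 274 = true := by decide +kernel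
theorem rc923 : allBelow (fun k => fr (Nat.add 252902 k)) 274 = true := by decide +kernel
theorem rc924 : allBelow (fun k => fr (Nat.add 253176 k)) 274 = true := by decide +kernel
theorem rc925 : allBelow (fun k => fr (Nat.add 253450 k)) 274 = true := by decide +kernel
theorem rc926 : allBelow (fun k => fr (Nat.add 253724 k)) 274 = true := by decide +kernel
theorem rc927 : allBelow (fun k => fr (Nat.add 253998 k)) 274 = true := by decide +kernel
theorem rc928 : allBelow (fun k => fr (Nat.add 254272 k)) 274 = true := by decide +kernel
theorem rc929 : allBelow (fun k => fr (Nat.add 254546 k)) 274 = true := by decide +kernel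
theorem rc930 : allBelow (fun k => fr (Nat.add 254820 k)) 274 = true := by decide +kernel
theorem rc931 : allBelow (fun k => fr (Nat.add 255094 k)) 274 = true := by decide +kernel
theorem rc932 : allBelow (fun k => fr (Nat.add 255368 k)) 274 = true := by decide +kernel

end Cfsg.Agent.Lib.Helper35.Fi24b
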