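import Cfsg.Agent.Lib.Helper35.Fi24b.PData

set_option Elab.async false

namespace Cfsg.Agent.Lib.Helper35.Fi24b

open Cfsg.Agent.Lib.Helper35

theorem rc933 : allBelow (fun k => fr (Nat.add 255642 k)) 274 = true := by decide +kernel
theorem rc934 : allBelow (fun k => fr (Nat.add 255916 k)) 274 = true := by decide +kernel
theorem rc935 : allBelow (fun k => fr (Nat.add 256190 k)) 274 = true := by decide +kernel
theorem rc936 : allBelow (fun k => fr (Nat.add 256464 k)) 274 = true := by decide +kernel
theorem rc937 : allBelow (fun k => fr (Nat.add 256738 k)) 274 = true := by decide +kernel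
theorem rc938 : allBelow (fun k => fr (Nat.add 257012 k)) 274 = true := by decide +kernel
theorem rc939 : allBelow (fun k => fr (Nat.add 257286 k)) 274 = true := by decide +kernel
theorem rc940 : allBelow (fun k => fr (Nat.add 257560 k)) 274 = true := by decide +kernel
theorem rc941 : allBelow (fun k => fr (Nat.add 257834 k)) 274 = true := by decide +kernel
theorem rc942 : allBelow (fun k => fr (Nat.add 258108 k)) 274 = true := by decide +kernel
theorem rc943 : allBelow (fun k => fr (Nat.add 258382 k)) 274 = true := by decide +kernel
theorem rc944 : allBelow (fun k => fr (Nat.add 258656 k)) 274 = true := by decide +kernel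
theorem rc945 : allBelow (fun k => fr (Nat.add 258930 k)) 274 = true := by decide +kernel
theorem rc946 : allBelow (fun k => fr (Nat.add 259204 k)) 274 = true := by decide +kernel
theorem rc947 : allBelow (fun k => fr (Nat.add 259478 k)) 274 = true := by decide +kernel
theorem rc948 : allBelow (fun k => fr (Nat.add 259752 k)) 274 = true := by decide +kernel
theorem rc949 : allBelow (fun k => fr (Nat.add 260026 k)) 274 = true := by decide +kernel
theorem rc950 : allBelow (fun k => fr (Nat.add 260300 k)) 274 = true := by decide +kernel
theorem rc951 : allBelow (fun k => fr (Nat.add 260574 k)) 274 = true := by decide +kernel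
theorem rc952 : allBelow (fun k => fr (Nat.add 260848 k)) 274 = true := by decide +kernel
theorem rc953 : allBelow (fun k => fr (Nat.add 261122 k)) 274 = true := by decide +kernel
theorem rc954 : allBelow (fun k => fr (Nat.add 261396 k)) 274 = true := by decide +kernel
theorem rc955 : allBelow (fun k => fr (Nat.add 261670 k)) 274 = true := by decide +kernel
theorem rc956 : allBelow (fun k => fr (Nat.add 261944 k)) 274 = true := by decide +kernel
theorem rc957 : allBelow (fun k => fr (Nat.add 262218 k)) 274 = true := by decide +kernel
theorem rc958 : allBelow (fun k => fr (Nat.add 262492 k)) 274 = true := by decide +kernel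
theorem rc959 : allBelow (fun k => fr (Nat.add 262766 k)) 274 = true := by decide +kernel
theorem rc960 : allBelow (fun k => fr (Nat.add 263040 k)) 274 = true := by decide +kernel
theorem rc961 : allBelow (fun k => fr (Nat.add 263314 k)) 274 = true := by decide +kernel
theorem rc962 : allBelow (fun k => fr (Nat.add 263588 k)) 274 = true := by decide +kernel
theorem rc963 : allBelow (fun k => fr (Nat.add 263862 k)) 274 = true := by decide +kernel
theorem rc964 : allBelow (fun k => fr (Nat.add 264136 k)) 274 = true := by decide +kernel
theorem rc965 : allBelow (fun k => fr (Nat.add 264410 k)) 274 = true := by decide +kernel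
theorem rc966 : allBelow (fun k => fr (Nat.add 264684 k)) 274 = true := by decide +kernel
theorem rc967 : allBelow (fun k => fr (Nat.add 264958 k)) 274 = true := by decide +kernel
theorem rc968 : allBelow (fun k => fr (Nat.add 265232 k)) 274 = true := by decide +kernel
theorem rc969 : allBelow (fun k => fr (Nat.add 265506 k)) 274 = true := by decide +kernel
theorem rc970 : allBelow (fun k => fr (Nat.add 265780 k)) 274 = true := by decide +kernel
theorem rc971 : allBelow (fun k => fr (Nat.add 266054 k)) 274 = true := by decide +kernel
theorem rc972 : allBelow (fun k => fr (Nat.add 266328 k)) 274 = true := by decide +kernel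
theorem rc973 : allBelow (fun k => fr (Nat.add 266602 k)) 274 = true := by decide +kernel
theorem rc974 : allBelow (fun k => fr (Nat.add 266876 k)) 274 = true := by decide +kernel
theorem rc975 : allBelow (fun k => fr (Nat.add 267150 k)) 274 = true := by decide +kernel

end Cfsg.Agent.Lib.Helper35.Fi24b
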