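import Cfsg.Agent.Lib.Helper35.Fi24b.PData

set_option Elab.async false

namespace Cfsg.Agent.Lib.Helper35.Fi24b

open Cfsg.Agent.Lib.Helper35

theorem eUc14 : allBelow (fun k => feU (Nat.add 73318 k)) 5237 = true := by decide +kernel
theorem eUc15 : allBelow (fun k => feU (Nat.add 78555 k)) 5237 = true := by decide +kernel
theorem eUc16 : allBelow (fun k => feU (Nat.add 83792 k)) 5237 = true := by decide +kernel
theorem eUc17 : allBelow (fun k => feU (Nat.add 89029 k)) 5237 = true := by decide +kernel
theorem eUc18 : allBelow (fun k => feU (Nat.add 94266 k)) 5237 = true := by decide +kernel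
theorem eUc19 : allBelow (fun k => feU (Nat.add 99503 k)) 5237 = true := by decide +kernel
theorem eUc20 : allBelow (fun k => feU (Nat.add 104740 k)) 5237 = true := by decide +kernel
theorem eUc21 : allBelow (fun k => feU (Nat.add 109977 k)) 5237 = true := by decide +kernel
theorem eUc22 : allBelow (fun k => feU (Nat.add 115214 k)) 5237 = true := by decide +kernel
theorem eUc23 : allBelow (fun k => feU (Nat.add 120451 k)) 5237 = true := by decide +kernel
theorem eUc24 : allBelow (fun k => feU (Nat.add 125688 k)) 5237 = true := by decide +kernel
theorem eUc25 : allBelow (fun k => feU (Nat.add 130925 k)) 5237 = true := by decide +kernel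
theorem eUc26 : allBelow (fun k => feU (Nat.add 136162 k)) 5237 = true := by decide +kernel
theorem eUc27 : allBelow (fun k => feU (Nat.add 141399 k)) 5237 = true := by decide +kernel
theorem eUc28 : allBelow (fun k => feU (Nat.add 146636 k)) 5237 = true := by decide +kernel
theorem eUc29 : allBelow (fun k => feU (Nat.add 151873 k)) 5237 = true := by decide +kernel
theorem eUc30 : allBelow (fun k => feU (Nat.add 157110 k)) 5237 = true := by decide +kernel
theorem eUc31 : allBelow (fun k => feU (Nat.add 162347 k)) 5237 = true := by decide +kernel
theorem eUc32 : allBelow (fun k => feU (Nat.add 167584 k)) 5237 = true := by decide +kernel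
theorem eUc33 : allBelow (fun k => feU (Nat.add 172821 k)) 5237 = true := by decide +kernel
theorem eUc34 : allBelow (fun k => feU (Nat.add 178058 k)) 5237 = true := by decide +kernel
theorem eUc35 : allBelow (fun k => feU (Nat.add 183295 k)) 5237 = true := by decide +kernel
theorem eUc36 : allBelow (fun k => feU (Nat.add 188532 k)) 5237 = true := by decide +kernel
theorem eUc37 : allBelow (fun k => feU (Nat.add 193769 k)) 5237 = true := by decide +kernel
theorem eUc38 : allBelow (fun k => feU (Nat.add 199006 k)) 5237 = true := by decide +kernel
theorem eUc39 : allBelow (fun k => feU (Nat.add 204243 k)) 5237 = true := by decide +kernel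
theorem eUc40 : allBelow (fun k => feU (Nat.add 209480 k)) 5237 = true := by decide +kernel
theorem eUc41 : allBelow (fun k => feU (Nat.add 214717 k)) 5237 = true := by decide +kernel
theorem eUc42 : allBelow (fun k => feU (Nat.add 219954 k)) 5237 = true := by decide +kernel
theorem eUc43 : allBelow (fun k => feU (Nat.add 225191 k)) 5237 = true := by decide +kernel
theorem eUc44 : allBelow (fun k => feU (Nat.add 230428 k)) 5237 = true := by decide +kernel
theorem eUc45 : allBelow (fun k => feU (Nat.add 235665 k)) 5237 = true := by decide +kernel
theorem eUc46 : allBelow (fun k => feU (Nat.add 240902 k)) 5237 = true := by decide +kernel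
theorem eUc47 : allBelow (fun k => feU (Nat.add 246139 k)) 5237 = true := by decide +kernel
theorem eUc48 : allBelow (fun k => feU (Nat.add 251376 k)) 5237 = true := by decide +kernel
theorem eUc49 : allBelow (fun k => feU (Nat.add 256613 k)) 5237 = true := by decide +kernel
theorem eUc50 : allBelow (fun k => feU (Nat.add 261850 k)) 5237 = true := by decide +kernel
theorem eUc51 : allBelow (fun k => feU (Nat.add 267087 k)) 5237 = true := by decide +kernel
theorem eUc52 : allBelow (fun k => feU (Nat.add 272324 k)) 5237 = true := by decide +kernel
theorem eUc53 : allBelow (fun k => feU (Nat.add 277561 k)) 5237 = true := by decide +kernel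
theorem eUc54 : allBelow (fun k => feU (Nat.add 282798 k)) 5237 = true := by decide +kernel
theorem eUc55 : allBelow (fun k => feU (Nat.add 288035 k)) 5237 = true := by decide +kernel

end Cfsg.Agent.Lib.Helper35.Fi24b
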