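import Cfsg.Agent.Lib.Helper35.Fi24b.PData

set_option Elab.async false

namespace Cfsg.Agent.Lib.Helper35.Fi24b

open Cfsg.Agent.Lib.Helper35

theorem rc976 : allBelow (fun k => fr (Nat.add 267424 k)) 274 = true := by decide +kernel
theorem rc977 : allBelow (fun k => fr (Nat.add 267698 k)) 274 = true := by decide +kernel
theorem rc978 : allBelow (fun k => fr (Nat.add 267972 k)) 274 = true := by decide +kernel
theorem rc979 : allBelow (fun k => fr (Nat.add 268246 k)) 274 = true := by decide +kernel
theorem rc980 : allBelow (fun k => fr (Nat.add 268520 k)) 274 = true := by decide +kernel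
theorem rc981 : allBelow (fun k => fr (Nat.add 268794 k)) 274 = true := by decide +kernel
theorem rc982 : allBelow (fun k => fr (Nat.add 269068 k)) 274 = true := by decide +kernel
theorem rc983 : allBelow (fun k => fr (Nat.add 269342 k)) 274 = true := by decide +kernel
theorem rc984 : allBelow (fun k => fr (Nat.add 269616 k)) 274 = true := by decide +kernel
theorem rc985 : allBelow (fun k => fr (Nat.add 269890 k)) 274 = true := by decide +kernel
theorem rc986 : allBelow (fun k => fr (Nat.add 270164 k)) 274 = true := by decide +kernel
theorem rc987 : allBelow (fun k => fr (Nat.add 270438 k)) 274 = true := by decide +kernel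
theorem rc988 : allBelow (fun k => fr (Nat.add 270712 k)) 274 = true := by decide +kernel
theorem rc989 : allBelow (fun k => fr (Nat.add 270986 k)) 274 = true := by decide +kernel
theorem rc990 : allBelow (fun k => fr (Nat.add 271260 k)) 274 = true := by decide +kernel
theorem rc991 : allBelow (fun k => fr (Nat.add 271534 k)) 274 = true := by decide +kernel
theorem rc992 : allBelow (fun k => fr (Nat.add 271808 k)) 274 = true := by decide +kernel
theorem rc993 : allBelow (fun k => fr (Nat.add 272082 k)) 274 = true := by decide +kernel
theorem rc994 : allBelow (fun k => fr (Nat.add 272356 k)) 274 = true := by decide +kernel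
theorem rc995 : allBelow (fun k => fr (Nat.add 272630 k)) 274 = true := by decide +kernel
theorem rc996 : allBelow (fun k => fr (Nat.add 272904 k)) 274 = true := by decide +kernel
theorem rc997 : allBelow (fun k => fr (Nat.add 273178 k)) 274 = true := by decide +kernel
theorem rc998 : allBelow (fun k => fr (Nat.add 273452 k)) 274 = true := by decide +kernel
theorem rc999 : allBelow (fun k => fr (Nat.add 273726 k)) 274 = true := by decide +kernel
theorem rc1000 : allBelow (fun k => fr (Nat.add 274000 k)) 274 = true := by decide +kernel
theorem rc1001 : allBelow (fun k => fr (Nat.add 274274 k)) 274 = true := by decide +kernel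
theorem rc1002 : allBelow (fun k => fr (Nat.add 274548 k)) 274 = true := by decide +kernel
theorem rc1003 : allBelow (fun k => fr (Nat.add 274822 k)) 274 = true := by decide +kernel
theorem rc1004 : allBelow (fun k => fr (Nat.add 275096 k)) 274 = true := by decide +kernel
theorem rc1005 : allBelow (fun k => fr (Nat.add 275370 k)) 274 = true := by decide +kernel
theorem rc1006 : allBelow (fun k => fr (Nat.add 275644 k)) 274 = true := by decide +kernel
theorem rc1007 : allBelow (fun k => fr (Nat.add 275918 k)) 274 = true := by decide +kernel
theorem rc1008 : allBelow (fun k => fr (Nat.add 276192 k)) 274 = true := by decide +kernel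
theorem rc1009 : allBelow (fun k => fr (Nat.add 276466 k)) 274 = true := by decide +kernel
theorem rc1010 : allBelow (fun k => fr (Nat.add 276740 k)) 274 = true := by decide +kernel
theorem rc1011 : allBelow (fun k => fr (Nat.add 277014 k)) 274 = true := by decide +kernel
theorem rc1012 : allBelow (fun k => fr (Nat.add 277288 k)) 274 = true := by decide +kernel
theorem rc1013 : allBelow (fun k => fr (Nat.add 277562 k)) 274 = true := by decide +kernel
theorem rc1014 : allBelow (fun k => fr (Nat.add 277836 k)) 274 = true := by decide +kernel
theorem rc1015 : allBelow (fun k => fr (Nat.add 278110 k)) 274 = true := by decide +kernel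
theorem rc1016 : allBelow (fun k => fr (Nat.add 278384 k)) 274 = true := by decide +kernel
theorem rc1017 : allBelow (fun k => fr (Nat.add 278658 k)) 274 = true := by decide +kernel
theorem rc1018 : allBelow (fun k => fr (Nat.add 278932 k)) 274 = true := by decide +kernel

end Cfsg.Agent.Lib.Helper35.Fi24b
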