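import Cfsg.Agent.Lib.Helper35.Fi24b.PData

set_option Elab.async false

namespace Cfsg.Agent.Lib.Helper35.Fi24b

open Cfsg.Agent.Lib.Helper35

theorem rc1019 : allBelow (fun k => fr (Nat.add 279206 k)) 274 = true := by decide +kernel
theorem rc1020 : allBelow (fun k => fr (Nat.add 279480 k)) 274 = true := by decide +kernel
theorem rc1021 : allBelow (fun k => fr (Nat.add 279754 k)) 274 = true := by decide +kernel
theorem rc1022 : allBelow (fun k => fr (Nat.add 280028 k)) 274 = true := by decide +kernel
theorem rc1023 : allBelow (fun k => fr (Nat.add 280302 k)) 274 = true := by decide +kernel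
theorem rc1024 : allBelow (fun k => fr (Nat.add 280576 k)) 274 = true := by decide +kernel
theorem rc1025 : allBelow (fun k => fr (Nat.add 280850 k)) 274 = true := by decide +kernel
theorem rc1026 : allBelow (fun k => fr (Nat.add 281124 k)) 274 = true := by decide +kernel
theorem rc1027 : allBelow (fun k => fr (Nat.add 281398 k)) 274 = true := by decide +kernel
theorem rc1028 : allBelow (fun k => fr (Nat.add 281672 k)) 274 = true := by decide +kernel
theorem rc1029 : allBelow (fun k => fr (Nat.add 281946 k)) 274 = true := by decide +kernel
theorem rc1030 : allBelow (fun k => fr (Nat.add 282220 k)) 274 = true := by decide +kernel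
theorem rc1031 : allBelow (fun k => fr (Nat.add 282494 k)) 274 = true := by decide +kernel
theorem rc1032 : allBelow (fun k => fr (Nat.add 282768 k)) 274 = true := by decide +kernel
theorem rc1033 : allBelow (fun k => fr (Nat.add 283042 k)) 274 = true := by decide +kernel
theorem rc1034 : allBelow (fun k => fr (Nat.add 283316 k)) 274 = true := by decide +kernel
theorem rc1035 : allBelow (fun k => fr (Nat.add 283590 k)) 274 = true := by decide +kernel
theorem rc1036 : allBelow (fun k => fr (Nat.add 283864 k)) 274 = true := by decide +kernel
theorem rc1037 : allBelow (fun k => fr (Nat.add 284138 k)) 274 = true := by decide +kernel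
theorem rc1038 : allBelow (fun k => fr (Nat.add 284412 k)) 274 = true := by decide +kernel
theorem rc1039 : allBelow (fun k => fr (Nat.add 284686 k)) 274 = true := by decide +kernel
theorem rc1040 : allBelow (fun k => fr (Nat.add 284960 k)) 274 = true := by decide +kernel
theorem rc1041 : allBelow (fun k => fr (Nat.add 285234 k)) 274 = true := by decide +kernel
theorem rc1042 : allBelow (fun k => fr (Nat.add 285508 k)) 274 = true := by decide +kernel
theorem rc1043 : allBelow (fun k => fr (Nat.add 285782 k)) 274 = true := by decide +kernel
theorem rc1044 : allBelow (fun k => fr (Nat.add 286056 k)) 274 = true := by decide +kernel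
theorem rc1045 : allBelow (fun k => fr (Nat.add 286330 k)) 274 = true := by decide +kernel
theorem rc1046 : allBelow (fun k => fr (Nat.add 286604 k)) 274 = true := by decide +kernel
theorem rc1047 : allBelow (fun k => fr (Nat.add 286878 k)) 274 = true := by decide +kernel
theorem rc1048 : allBelow (fun k => fr (Nat.add 287152 k)) 274 = true := by decide +kernel
theorem rc1049 : allBelow (fun k => fr (Nat.add 287426 k)) 274 = true := by decide +kernel
theorem rc1050 : allBelow (fun k => fr (Nat.add 287700 k)) 274 = true := by decide +kernel
theorem rc1051 : allBelow (fun k => fr (Nat.add 287974 k)) 274 = true := by decide +kernel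
theorem rc1052 : allBelow (fun k => fr (Nat.add 288248 k)) 274 = true := by decide +kernel
theorem rc1053 : allBelow (fun k => fr (Nat.add 288522 k)) 274 = true := by decide +kernel
theorem rc1054 : allBelow (fun k => fr (Nat.add 288796 k)) 274 = true := by decide +kernel
theorem rc1055 : allBelow (fun k => fr (Nat.add 289070 k)) 274 = true := by decide +kernel
theorem rc1056 : allBelow (fun k => fr (Nat.add 289344 k)) 274 = true := by decide +kernel
theorem rc1057 : allBelow (fun k => fr (Nat.add 289618 k)) 274 = true := by decide +kernel
theorem rc1058 : allBelow (fun k => fr (Nat.add 289892 k)) 274 = true := by decide +kernel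
theorem rc1059 : allBelow (fun k => fr (Nat.add 290166 k)) 274 = true := by decide +kernel
theorem rc1060 : allBelow (fun k => fr (Nat.add 290440 k)) 274 = true := by decide +kernel
theorem rc1061 : allBelow (fun k => fr (Nat.add 290714 k)) 274 = true := by decide +kernel

end Cfsg.Agent.Lib.Helper35.Fi24b
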