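import Cfsg.Agent.Lib.Helper35.Fi24b.PData

set_option Elab.async false

namespace Cfsg.Agent.Lib.Helper35.Fi24b

open Cfsg.Agent.Lib.Helper35

theorem rc1062 : allBelow (fun k => fr (Nat.add 290988 k)) 274 = true := by decide +kernel
theorem rc1063 : allBelow (fun k => fr (Nat.add 291262 k)) 274 = true := by decide +kernel
theorem rc1064 : allBelow (fun k => fr (Nat.add 291536 k)) 274 = true := by decide +kernel
theorem rc1065 : allBelow (fun k => fr (Nat.add 291810 k)) 274 = true := by decide +kernel
theorem rc1066 : allBelow (fun k => fr (Nat.add 292084 k)) 274 = true := by decide +kernel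
theorem rc1067 : allBelow (fun k => fr (Nat.add 292358 k)) 274 = true := by decide +kernel
theorem rc1068 : allBelow (fun k => fr (Nat.add 292632 k)) 274 = true := by decide +kernel
theorem rc1069 : allBelow (fun k => fr (Nat.add 292906 k)) 274 = true := by decide +kernel
theorem rc1070 : allBelow (fun k => fr (Nat.add 293180 k)) 274 = true := by decide +kernel
theorem rc1071 : allBelow (fun k => fr (Nat.add 293454 k)) 274 = true := by decide +kernel
theorem rc1072 : allBelow (fun k => fr (Nat.add 293728 k)) 274 = true := by decide +kernel
theorem rc1073 : allBelow (fun k => fr (Nat.add 294002 k)) 274 = true := by decide +kernel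
theorem rc1074 : allBelow (fun k => fr (Nat.add 294276 k)) 274 = true := by decide +kernel
theorem rc1075 : allBelow (fun k => fr (Nat.add 294550 k)) 274 = true := by decide +kernel
theorem rc1076 : allBelow (fun k => fr (Nat.add 294824 k)) 274 = true := by decide +kernel
theorem rc1077 : allBelow (fun k => fr (Nat.add 295098 k)) 274 = true := by decide +kernel
theorem rc1078 : allBelow (fun k => fr (Nat.add 295372 k)) 274 = true := by decide +kernel
theorem rc1079 : allBelow (fun k => fr (Nat.add 295646 k)) 274 = true := by decide +kernel
theorem rc1080 : allBelow (fun k => fr (Nat.add 295920 k)) 274 = true := by decide +kernel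
theorem rc1081 : allBelow (fun k => fr (Nat.add 296194 k)) 274 = true := by decide +kernel
theorem rc1082 : allBelow (fun k => fr (Nat.add 296468 k)) 274 = true := by decide +kernel
theorem rc1083 : allBelow (fun k => fr (Nat.add 296742 k)) 274 = true := by decide +kernel
theorem rc1084 : allBelow (fun k => fr (Nat.add 297016 k)) 274 = true := by decide +kernel
theorem rc1085 : allBelow (fun k => fr (Nat.add 297290 k)) 274 = true := by decide +kernel
theorem rc1086 : allBelow (fun k => fr (Nat.add 297564 k)) 274 = true := by decide +kernel
theorem rc1087 : allBelow (fun k => fr (Nat.add 297838 k)) 274 = true := by decide +kernel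
theorem rc1088 : allBelow (fun k => fr (Nat.add 298112 k)) 274 = true := by decide +kernel
theorem rc1089 : allBelow (fun k => fr (Nat.add 298386 k)) 274 = true := by decide +kernel
theorem rc1090 : allBelow (fun k => fr (Nat.add 298660 k)) 274 = true := by decide +kernel
theorem rc1091 : allBelow (fun k => fr (Nat.add 298934 k)) 274 = true := by decide +kernel
theorem rc1092 : allBelow (fun k => fr (Nat.add 299208 k)) 274 = true := by decide +kernel
theorem rc1093 : allBelow (fun k => fr (Nat.add 299482 k)) 274 = true := by decide +kernel
theorem rc1094 : allBelow (fun k => fr (Nat.add 299756 k)) 274 = true := by decide +kernel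
theorem rc1095 : allBelow (fun k => fr (Nat.add 300030 k)) 274 = true := by decide +kernel
theorem rc1096 : allBelow (fun k => fr (Nat.add 300304 k)) 274 = true := by decide +kernel
theorem rc1097 : allBelow (fun k => fr (Nat.add 300578 k)) 274 = true := by decide +kernel
theorem rc1098 : allBelow (fun k => fr (Nat.add 300852 k)) 274 = true := by decide +kernel
theorem rc1099 : allBelow (fun k => fr (Nat.add 301126 k)) 274 = true := by decide +kernel
theorem rc1100 : allBelow (fun k => fr (Nat.add 301400 k)) 274 = true := by decide +kernel
theorem rc1101 : allBelow (fun k => fr (Nat.add 301674 k)) 274 = true := by decide +kernel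
theorem rc1102 : allBelow (fun k => fr (Nat.add 301948 k)) 274 = true := by decide +kernel
theorem rc1103 : allBelow (fun k => fr (Nat.add 302222 k)) 274 = true := by decide +kernel
theorem rc1104 : allBelow (fun k => fr (Nat.add 302496 k)) 274 = true := by decide +kernel

end Cfsg.Agent.Lib.Helper35.Fi24b
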