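import Cfsg.Agent.Lib.Helper35.Fi24b.PData

set_option Elab.async false

namespace Cfsg.Agent.Lib.Helper35.Fi24b

open Cfsg.Agent.Lib.Helper35

theorem eUc56 : allBelow (fun k => feU (Nat.add 293272 k)) 5237 = true := by decide +kernel
theorem eUc57 : allBelow (fun k => feU (Nat.add 298509 k)) 5237 = true := by decide +kernel
theorem eUc58 : allBelow (fun k => feU (Nat.add 303746 k)) 3190 = true := by decide +kernel
theorem eVc0 : allBelow (fun k => feV (Nat.add 0 k)) 9820 = true := by decide +kernel
theorem eVc1 : allBelow (fun k => feV (Nat.add 9820 k)) 9820 = true := by decide +kernel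
theorem eVc2 : allBelow (fun k => feV (Nat.add 19640 k)) 9820 = true := by decide +kernel
theorem eVc3 : allBelow (fun k => feV (Nat.add 29460 k)) 9820 = true := by decide +kernel
theorem eVc4 : allBelow (fun k => feV (Nat.add 39280 k)) 9820 = true := by decide +kernel
theorem eVc5 : allBelow (fun k => feV (Nat.add 49100 k)) 9820 = true := by decide +kernel
theorem eVc6 : allBelow (fun k => feV (Nat.add 58920 k)) 9820 = true := by decide +kernel
theorem eVc7 : allBelow (fun k => feV (Nat.add 68740 k)) 9820 = true := by decide +kernel
theorem eVc8 : allBelow (fun k => feV (Nat.add 78560 k)) 9820 = true := by decide +kernel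
theorem eVc9 : allBelow (fun k => feV (Nat.add 88380 k)) 9820 = true := by decide +kernel
theorem eVc10 : allBelow (fun k => feV (Nat.add 98200 k)) 9820 = true := by decide +kernel
theorem eVc11 : allBelow (fun k => feV (Nat.add 108020 k)) 9820 = true := by decide +kernel
theorem eVc12 : allBelow (fun k => feV (Nat.add 117840 k)) 9820 = true := by decide +kernel
theorem eVc13 : allBelow (fun k => feV (Nat.add 127660 k)) 9820 = true := by decide +kernel
theorem eVc14 : allBelow (fun k => feV (Nat.add 137480 k)) 9820 = true := by decide +kernel
theorem eVc15 : allBelow (fun k => feV (Nat.add 147300 k)) 9820 = true := by decide +kernel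
theorem eVc16 : allBelow (fun k => feV (Nat.add 157120 k)) 9820 = true := by decide +kernel
theorem eVc17 : allBelow (fun k => feV (Nat.add 166940 k)) 9820 = true := by decide +kernel
theorem eVc18 : allBelow (fun k => feV (Nat.add 176760 k)) 9820 = true := by decide +kernel
theorem eVc19 : allBelow (fun k => feV (Nat.add 186580 k)) 9820 = true := by decide +kernel
theorem eVc20 : allBelow (fun k => feV (Nat.add 196400 k)) 9820 = true := by decide +kernel
theorem eVc21 : allBelow (fun k => feV (Nat.add 206220 k)) 9820 = true := by decide +kernel
theorem eVc22 : allBelow (fun k => feV (Nat.add 216040 k)) 9820 = true := by decide +kernel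
theorem eVc23 : allBelow (fun k => feV (Nat.add 225860 k)) 9820 = true := by decide +kernel
theorem eVc24 : allBelow (fun k => feV (Nat.add 235680 k)) 9820 = true := by decide +kernel
theorem eVc25 : allBelow (fun k => feV (Nat.add 245500 k)) 9820 = true := by decide +kernel
theorem eVc26 : allBelow (fun k => feV (Nat.add 255320 k)) 9820 = true := by decide +kernel
theorem eVc27 : allBelow (fun k => feV (Nat.add 265140 k)) 9820 = true := by decide +kernel
theorem eVc28 : allBelow (fun k => feV (Nat.add 274960 k)) 9820 = true := by decide +kernel
theorem eVc29 : allBelow (fun k => feV (Nat.add 284780 k)) 9820 = true := by decide +kernel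
theorem eVc30 : allBelow (fun k => feV (Nat.add 294600 k)) 9820 = true := by decide +kernel
theorem eVc31 : allBelow (fun k => feV (Nat.add 304420 k)) 2516 = true := by decide +kernel
theorem qc0 : allBelow (fun k => fq (Nat.add 0 k)) 2909 = true := by decide +kernel
theorem qc1 : allBelow (fun k => fq (Nat.add 2909 k)) 2909 = true := by decide +kernel
theorem qc2 : allBelow (fun k => fq (Nat.add 5818 k)) 2909 = true := by decide +kernel
theorem qc3 : allBelow (fun k => fq (Nat.add 8727 k)) 2909 = true := by decide +kernel
theorem qc4 : allBelow (fun k => fq (Nat.add 11636 k)) 2909 = true := by decide +kernel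
theorem qc5 : allBelow (fun k => fq (Nat.add 14545 k)) 2909 = true := by decide +kernel
theorem qc6 : allBelow (fun k => fq (Nat.add 17454 k)) 2909 = true := by decide +kernel
theorem qc7 : allBelow (fun k => fq (Nat.add 20363 k)) 2909 = true := by decide +kernel
theorem qc8 : allBelow (fun k => fq (Nat.add 23272 k)) 2909 = true := by decide +kernel

end Cfsg.Agent.Lib.Helper35.Fi24b
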