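import Cfsg.Agent.Lib.Helper35.Fi24b.PData

set_option Elab.async false

namespace Cfsg.Agent.Lib.Helper35.Fi24b

open Cfsg.Agent.Lib.Helper35

theorem qc9 : allBelow (fun k => fq (Nat.add 26181 k)) 2909 = true := by decide +kernel
theorem qc10 : allBelow (fun k => fq (Nat.add 29090 k)) 2909 = true := by decide +kernel
theorem qc11 : allBelow (fun k => fq (Nat.add 31999 k)) 2909 = true := by decide +kernel
theorem qc12 : allBelow (fun k => fq (Nat.add 34908 k)) 2909 = true := by decide +kernel
theorem qc13 : allBelow (fun k => fq (Nat.add 37817 k)) 2909 = true := by decide +kernel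
theorem qc14 : allBelow (fun k => fq (Nat.add 40726 k)) 2909 = true := by decide +kernel
theorem qc15 : allBelow (fun k => fq (Nat.add 43635 k)) 2909 = true := by decide +kernel
theorem qc16 : allBelow (fun k => fq (Nat.add 46544 k)) 2909 = true := by decide +kernel
theorem qc17 : allBelow (fun k => fq (Nat.add 49453 k)) 2909 = true := by decide +kernel
theorem qc18 : allBelow (fun k => fq (Nat.add 52362 k)) 2909 = true := by decide +kernel
theorem qc19 : allBelow (fun k => fq (Nat.add 55271 k)) 2909 = true := by decide +kernel
theorem qc20 : allBelow (fun k => fq (Nat.add 58180 k)) 2909 = true := by decide +kernel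
theorem qc21 : allBelow (fun k => fq (Nat.add 61089 k)) 2909 = true := by decide +kernel
theorem qc22 : allBelow (fun k => fq (Nat.add 63998 k)) 2909 = true := by decide +kernel
theorem qc23 : allBelow (fun k => fq (Nat.add 66907 k)) 2909 = true := by decide +kernel
theorem qc24 : allBelow (fun k => fq (Nat.add 69816 k)) 2909 = true := by decide +kernel
theorem qc25 : allBelow (fun k => fq (Nat.add 72725 k)) 2909 = true := by decide +kernel
theorem qc26 : allBelow (fun k => fq (Nat.add 75634 k)) 2909 = true := by decide +kernel
theorem qc27 : allBelow (fun k => fq (Nat.add 78543 k)) 2909 = true := by decide +kernel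
theorem qc28 : allBelow (fun k => fq (Nat.add 81452 k)) 2909 = true := by decide +kernel
theorem qc29 : allBelow (fun k => fq (Nat.add 84361 k)) 2909 = true := by decide +kernel
theorem qc30 : allBelow (fun k => fq (Nat.add 87270 k)) 2909 = true := by decide +kernel
theorem qc31 : allBelow (fun k => fq (Nat.add 90179 k)) 2909 = true := by decide +kernel
theorem qc32 : allBelow (fun k => fq (Nat.add 93088 k)) 2909 = true := by decide +kernel
theorem qc33 : allBelow (fun k => fq (Nat.add 95997 k)) 2909 = true := by decide +kernel
theorem qc34 : allBelow (fun k => fq (Nat.add 98906 k)) 2909 = true := by decide +kernel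
theorem qc35 : allBelow (fun k => fq (Nat.add 101815 k)) 2909 = true := by decide +kernel
theorem qc36 : allBelow (fun k => fq (Nat.add 104724 k)) 2909 = true := by decide +kernel
theorem qc37 : allBelow (fun k => fq (Nat.add 107633 k)) 2909 = true := by decide +kernel
theorem qc38 : allBelow (fun k => fq (Nat.add 110542 k)) 2909 = true := by decide +kernel
theorem qc39 : allBelow (fun k => fq (Nat.add 113451 k)) 2909 = true := by decide +kernel
theorem qc40 : allBelow (fun k => fq (Nat.add 116360 k)) 2909 = true := by decide +kernel
theorem qc41 : allBelow (fun k => fq (Nat.add 119269 k)) 2909 = true := by decide +kernel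
theorem qc42 : allBelow (fun k => fq (Nat.add 122178 k)) 2909 = true := by decide +kernel
theorem qc43 : allBelow (fun k => fq (Nat.add 125087 k)) 2909 = true := by decide +kernel
theorem qc44 : allBelow (fun k => fq (Nat.add 127996 k)) 2909 = true := by decide +kernel
theorem qc45 : allBelow (fun k => fq (Nat.add 130905 k)) 2909 = true := by decide +kernel
theorem qc46 : allBelow (fun k => fq (Nat.add 133814 k)) 2909 = true := by decide +kernel
theorem qc47 : allBelow (fun k => fq (Nat.add 136723 k)) 2909 = true := by decide +kernel
theorem qc48 : allBelow (fun k => fq (Nat.add 139632 k)) 2909 = true := by decide +kernel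
theorem qc49 : allBelow (fun k => fq (Nat.add 142541 k)) 2909 = true := by decide +kernel
theorem qc50 : allBelow (fun k => fq (Nat.add 145450 k)) 2909 = true := by decide +kernel

end Cfsg.Agent.Lib.Helper35.Fi24b
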