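import Cfsg.Agent.Lib.Helper35.Fi24b.PData

set_option Elab.async false

namespace Cfsg.Agent.Lib.Helper35.Fi24b

open Cfsg.Agent.Lib.Helper35

theorem qc51 : allBelow (fun k => fq (Nat.add 148359 k)) 2909 = true := by decide +kernel
theorem qc52 : allBelow (fun k => fq (Nat.add 151268 k)) 2909 = true := by decide +kernel
theorem qc53 : allBelow (fun k => fq (Nat.add 154177 k)) 2909 = true := by decide +kernel
theorem qc54 : allBelow (fun k => fq (Nat.add 157086 k)) 2909 = true := by decide +kernel
theorem qc55 : allBelow (fun k => fq (Nat.add 159995 k)) 2909 = true := by decide +kernel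
theorem qc56 : allBelow (fun k => fq (Nat.add 162904 k)) 2909 = true := by decide +kernel
theorem qc57 : allBelow (fun k => fq (Nat.add 165813 k)) 2909 = true := by decide +kernel
theorem qc58 : allBelow (fun k => fq (Nat.add 168722 k)) 2909 = true := by decide +kernel
theorem qc59 : allBelow (fun k => fq (Nat.add 171631 k)) 2909 = true := by decide +kernel
theorem qc60 : allBelow (fun k => fq (Nat.add 174540 k)) 2909 = true := by decide +kernel
theorem qc61 : allBelow (fun k => fq (Nat.add 177449 k)) 2909 = true := by decide +kernel
theorem qc62 : allBelow (fun k => fq (Nat.add 180358 k)) 2909 = true := by decide +kernel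
theorem qc63 : allBelow (fun k => fq (Nat.add 183267 k)) 2909 = true := by decide +kernel
theorem qc64 : allBelow (fun k => fq (Nat.add 186176 k)) 2909 = true := by decide +kernel
theorem qc65 : allBelow (fun k => fq (Nat.add 189085 k)) 2909 = true := by decide +kernel
theorem qc66 : allBelow (fun k => fq (Nat.add 191994 k)) 2909 = true := by decide +kernel
theorem qc67 : allBelow (fun k => fq (Nat.add 194903 k)) 2909 = true := by decide +kernel
theorem qc68 : allBelow (fun k => fq (Nat.add 197812 k)) 2909 = true := by decide +kernel
theorem qc69 : allBelow (fun k => fq (Nat.add 200721 k)) 2909 = true := by decide +kernel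
theorem qc70 : allBelow (fun k => fq (Nat.add 203630 k)) 2909 = true := by decide +kernel
theorem qc71 : allBelow (fun k => fq (Nat.add 206539 k)) 2909 = true := by decide +kernel
theorem qc72 : allBelow (fun k => fq (Nat.add 209448 k)) 2909 = true := by decide +kernel
theorem qc73 : allBelow (fun k => fq (Nat.add 212357 k)) 2909 = true := by decide +kernel
theorem qc74 : allBelow (fun k => fq (Nat.add 215266 k)) 2909 = true := by decide +kernel
theorem qc75 : allBelow (fun k => fq (Nat.add 218175 k)) 2909 = true := by decide +kernel
theorem qc76 : allBelow (fun k => fq (Nat.add 221084 k)) 2909 = true := by decide +kernel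
theorem qc77 : allBelow (fun k => fq (Nat.add 223993 k)) 2909 = true := by decide +kernel
theorem qc78 : allBelow (fun k => fq (Nat.add 226902 k)) 2909 = true := by decide +kernel
theorem qc79 : allBelow (fun k => fq (Nat.add 229811 k)) 2909 = true := by decide +kernel
theorem qc80 : allBelow (fun k => fq (Nat.add 232720 k)) 2909 = true := by decide +kernel
theorem qc81 : allBelow (fun k => fq (Nat.add 235629 k)) 2909 = true := by decide +kernel
theorem qc82 : allBelow (fun k => fq (Nat.add 238538 k)) 2909 = true := by decide +kernel
theorem qc83 : allBelow (fun k => fq (Nat.add 241447 k)) 2909 = true := by decide +kernel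
theorem qc84 : allBelow (fun k => fq (Nat.add 244356 k)) 2909 = true := by decide +kernel
theorem qc85 : allBelow (fun k => fq (Nat.add 247265 k)) 2909 = true := by decide +kernel
theorem qc86 : allBelow (fun k => fq (Nat.add 250174 k)) 2909 = true := by decide +kernel
theorem qc87 : allBelow (fun k => fq (Nat.add 253083 k)) 2909 = true := by decide +kernel
theorem qc88 : allBelow (fun k => fq (Nat.add 255992 k)) 2909 = true := by decide +kernel
theorem qc89 : allBelow (fun k => fq (Nat.add 258901 k)) 2909 = true := by decide +kernel
theorem qc90 : allBelow (fun k => fq (Nat.add 261810 k)) 2909 = true := by decide +kernel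
theorem qc91 : allBelow (fun k => fq (Nat.add 264719 k)) 2909 = true := by decide +kernel
theorem qc92 : allBelow (fun k => fq (Nat.add 267628 k)) 2909 = true := by decide +kernel

end Cfsg.Agent.Lib.Helper35.Fi24b
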