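import Cfsg.Agent.Lib.Helper35.Fi24b.PData

set_option Elab.async false

namespace Cfsg.Agent.Lib.Helper35.Fi24b

open Cfsg.Agent.Lib.Helper35

theorem qc93 : allBelow (fun k => fq (Nat.add 270537 k)) 2909 = true := by decide +kernel
theorem qc94 : allBelow (fun k => fq (Nat.add 273446 k)) 2909 = true := by decide +kernel
theorem qc95 : allBelow (fun k => fq (Nat.add 276355 k)) 2909 = true := by decide +kernel
theorem qc96 : allBelow (fun k => fq (Nat.add 279264 k)) 2909 = true := by decide +kernel
theorem qc97 : allBelow (fun k => fq (Nat.add 282173 k)) 2909 = true := by decide +kernel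
theorem qc98 : allBelow (fun k => fq (Nat.add 285082 k)) 2909 = true := by decide +kernel
theorem qc99 : allBelow (fun k => fq (Nat.add 287991 k)) 2909 = true := by decide +kernel
theorem qc100 : allBelow (fun k => fq (Nat.add 290900 k)) 2909 = true := by decide +kernel
theorem qc101 : allBelow (fun k => fq (Nat.add 293809 k)) 2909 = true := by decide +kernel
theorem qc102 : allBelow (fun k => fq (Nat.add 296718 k)) 2909 = true := by decide +kernel
theorem qc103 : allBelow (fun k => fq (Nat.add 299627 k)) 2909 = true := by decide +kernel
theorem qc104 : allBelow (fun k => fq (Nat.add 302536 k)) 2909 = true := by decide +kernel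
theorem qc105 : allBelow (fun k => fq (Nat.add 305445 k)) 1491 = true := by decide +kernel
theorem rc0 : allBelow (fun k => fr (Nat.add 0 k)) 274 = true := by decide +kernel
theorem rc1 : allBelow (fun k => fr (Nat.add 274 k)) 274 = true := by decide +kernel
theorem rc2 : allBelow (fun k => fr (Nat.add 548 k)) 274 = true := by decide +kernel
theorem rc3 : allBelow (fun k => fr (Nat.add 822 k)) 274 = true := by decide +kernel
theorem rc4 : allBelow (fun k => fr (Nat.add 1096 k)) 274 = true := by decide +kernel
theorem rc5 : allBelow (fun k => fr (Nat.add 1370 k)) 274 = true := by decide +kernel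
theorem rc6 : allBelow (fun k => fr (Nat.add 1644 k)) 274 = true := by decide +kernel
theorem rc7 : allBelow (fun k => fr (Nat.add 1918 k)) 274 = true := by decide +kernel
theorem rc8 : allBelow (fun k => fr (Nat.add 2192 k)) 274 = true := by decide +kernel
theorem rc9 : allBelow (fun k => fr (Nat.add 2466 k)) 274 = true := by decide +kernel
theorem rc10 : allBelow (fun k => fr (Nat.add 2740 k)) 274 = true := by decide +kernel
theorem rc11 : allBelow (fun k => fr (Nat.add 3014 k)) 274 = true := by decide +kernel
theorem rc12 : allBelow (fun k => fr (Nat.add 3288 k)) 274 = true := by decide +kernel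
theorem rc13 : allBelow (fun k => fr (Nat.add 3562 k)) 274 = true := by decide +kernel
theorem rc14 : allBelow (fun k => fr (Nat.add 3836 k)) 274 = true := by decide +kernel
theorem rc15 : allBelow (fun k => fr (Nat.add 4110 k)) 274 = true := by decide +kernel
theorem rc16 : allBelow (fun k => fr (Nat.add 4384 k)) 274 = true := by decide +kernel
theorem rc17 : allBelow (fun k => fr (Nat.add 4658 k)) 274 = true := by decide +kernel
theorem rc18 : allBelow (fun k => fr (Nat.add 4932 k)) 274 = true := by decide +kernel
theorem rc19 : allBelow (fun k => fr (Nat.add 5206 k)) 274 = true := by decide +kernel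
theorem rc20 : allBelow (fun k => fr (Nat.add 5480 k)) 274 = true := by decide +kernel
theorem rc21 : allBelow (fun k => fr (Nat.add 5754 k)) 274 = true := by decide +kernel
theorem rc22 : allBelow (fun k => fr (Nat.add 6028 k)) 274 = true := by decide +kernel
theorem rc23 : allBelow (fun k => fr (Nat.add 6302 k)) 274 = true := by decide +kernel
theorem rc24 : allBelow (fun k => fr (Nat.add 6576 k)) 274 = true := by decide +kernel
theorem rc25 : allBelow (fun k => fr (Nat.add 6850 k)) 274 = true := by decide +kernel
theorem rc26 : allBelow (fun k => fr (Nat.add 7124 k)) 274 = true := by decide +kernel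
theorem rc27 : allBelow (fun k => fr (Nat.add 7398 k)) 274 = true := by decide +kernel
theorem rc28 : allBelow (fun k => fr (Nat.add 7672 k)) 274 = true := by decide +kernel
theorem rc29 : allBelow (fun k => fr (Nat.add 7946 k)) 274 = true := by decide +kernel

end Cfsg.Agent.Lib.Helper35.Fi24b
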