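import Cfsg.Agent.Lib.Helper35.Fi24b.PData

set_option Elab.async false

namespace Cfsg.Agent.Lib.Helper35.Fi24b

open Cfsg.Agent.Lib.Helper35

theorem rc30 : allBelow (fun k => fr (Nat.add 8220 k)) 274 = true := by decide +kernel
theorem rc31 : allBelow (fun k => fr (Nat.add 8494 k)) 274 = true := by decide +kernel
theorem rc32 : allBelow (fun k => fr (Nat.add 8768 k)) 274 = true := by decide +kernel
theorem rc33 : allBelow (fun k => fr (Nat.add 9042 k)) 274 = true := by decide +kernel
theorem rc34 : allBelow (fun k => fr (Nat.add 9316 k)) 274 = true := by decide +kernel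
theorem rc35 : allBelow (fun k => fr (Nat.add 9590 k)) 274 = true := by decide +kernel
theorem rc36 : allBelow (fun k => fr (Nat.add 9864 k)) 274 = true := by decide +kernel
theorem rc37 : allBelow (fun k => fr (Nat.add 10138 k)) 274 = true := by decide +kernel
theorem rc38 : allBelow (fun k => fr (Nat.add 10412 k)) 274 = true := by decide +kernel
theorem rc39 : allBelow (fun k => fr (Nat.add 10686 k)) 274 = true := by decide +kernel
theorem rc40 : allBelow (fun k => fr (Nat.add 10960 k)) 274 = true := by decide +kernel
theorem rc41 : allBelow (fun k => fr (Nat.add 11234 k)) 274 = true := by decide +kernel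
theorem rc42 : allBelow (fun k => fr (Nat.add 11508 k)) 274 = true := by decide +kernel
theorem rc43 : allBelow (fun k => fr (Nat.add 11782 k)) 274 = true := by decide +kernel
theorem rc44 : allBelow (fun k => fr (Nat.add 12056 k)) 274 = true := by decide +kernel
theorem rc45 : allBelow (fun k => fr (Nat.add 12330 k)) 274 = true := by decide +kernel
theorem rc46 : allBelow (fun k => fr (Nat.add 12604 k)) 274 = true := by decide +kernel
theorem rc47 : allBelow (fun k => fr (Nat.add 12878 k)) 274 = true := by decide +kernel
theorem rc48 : allBelow (fun k => fr (Nat.add 13152 k)) 274 = true := by decide +kernel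
theorem rc49 : allBelow (fun k => fr (Nat.add 13426 k)) 274 = true := by decide +kernel
theorem rc50 : allBelow (fun k => fr (Nat.add 13700 k)) 274 = true := by decide +kernel
theorem rc51 : allBelow (fun k => fr (Nat.add 13974 k)) 274 = true := by decide +kernel
theorem rc52 : allBelow (fun k => fr (Nat.add 14248 k)) 274 = true := by decide +kernel
theorem rc53 : allBelow (fun k => fr (Nat.add 14522 k)) 274 = true := by decide +kernel
theorem rc54 : allBelow (fun k => fr (Nat.add 14796 k)) 274 = true := by decide +kernel
theorem rc55 : allBelow (fun k => fr (Nat.add 15070 k)) 274 = true := by decide +kernel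
theorem rc56 : allBelow (fun k => fr (Nat.add 15344 k)) 274 = true := by decide +kernel
theorem rc57 : allBelow (fun k => fr (Nat.add 15618 k)) 274 = true := by decide +kernel
theorem rc58 : allBelow (fun k => fr (Nat.add 15892 k)) 274 = true := by decide +kernel
theorem rc59 : allBelow (fun k => fr (Nat.add 16166 k)) 274 = true := by decide +kernel
theorem rc60 : allBelow (fun k => fr (Nat.add 16440 k)) 274 = true := by decide +kernel
theorem rc61 : allBelow (fun k => fr (Nat.add 16714 k)) 274 = true := by decide +kernel
theorem rc62 : allBelow (fun k => fr (Nat.add 16988 k)) 274 = true := by decide +kernel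
theorem rc63 : allBelow (fun k => fr (Nat.add 17262 k)) 274 = true := by decide +kernel
theorem rc64 : allBelow (fun k => fr (Nat.add 17536 k)) 274 = true := by decide +kernel
theorem rc65 : allBelow (fun k => fr (Nat.add 17810 k)) 274 = true := by decide +kernel
theorem rc66 : allBelow (fun k => fr (Nat.add 18084 k)) 274 = true := by decide +kernel
theorem rc67 : allBelow (fun k => fr (Nat.add 18358 k)) 274 = true := by decide +kernel
theorem rc68 : allBelow (fun k => fr (Nat.add 18632 k)) 274 = true := by decide +kernel
theorem rc69 : allBelow (fun k => fr (Nat.add 18906 k)) 274 = true := by decide +kernel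
theorem rc70 : allBelow (fun k => fr (Nat.add 19180 k)) 274 = true := by decide +kernel
theorem rc71 : allBelow (fun k => fr (Nat.add 19454 k)) 274 = true := by decide +kernel
theorem rc72 : allBelow (fun k => fr (Nat.add 19728 k)) 274 = true := by decide +kernel

end Cfsg.Agent.Lib.Helper35.Fi24b
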