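import Cfsg.Agent.Lib.Helper35.Fi24b.PData

set_option Elab.async false

namespace Cfsg.Agent.Lib.Helper35.Fi24b

open Cfsg.Agent.Lib.Helper35

theorem rc73 : allBelow (fun k => fr (Nat.add 20002 k)) 274 = true := by decide +kernel
theorem rc74 : allBelow (fun k => fr (Nat.add 20276 k)) 274 = true := by decide +kernel
theorem rc75 : allBelow (fun k => fr (Nat.add 20550 k)) 274 = true := by decide +kernel
theorem rc76 : allBelow (fun k => fr (Nat.add 20824 k)) 274 = true := by decide +kernel
theorem rc77 : allBelow (fun k => fr (Nat.add 21098 k)) 274 = true := by decide +kernel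
theorem rc78 : allBelow (fun k => fr (Nat.add 21372 k)) 274 = true := by decide +kernel
theorem rc79 : allBelow (fun k => fr (Nat.add 21646 k)) 274 = true := by decide +kernel
theorem rc80 : allBelow (fun k => fr (Nat.add 21920 k)) 274 = true := by decide +kernel
theorem rc81 : allBelow (fun k => fr (Nat.add 22194 k)) 274 = true := by decide +kernel
theorem rc82 : allBelow (fun k => fr (Nat.add 22468 k)) 274 = true := by decide +kernel
theorem rc83 : allBelow (fun k => fr (Nat.add 22742 k)) 274 = true := by decide +kernel
theorem rc84 : allBelow (fun k => fr (Nat.add 23016 k)) 274 = true := by decide +kernel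
theorem rc85 : allBelow (fun k => fr (Nat.add 23290 k)) 274 = true := by decide +kernel
theorem rc86 : allBelow (fun k => fr (Nat.add 23564 k)) 274 = true := by decide +kernel
theorem rc87 : allBelow (fun k => fr (Nat.add 23838 k)) 274 = true := by decide +kernel
theorem rc88 : allBelow (fun k => fr (Nat.add 24112 k)) 274 = true := by decide +kernel
theorem rc89 : allBelow (fun k => fr (Nat.add 24386 k)) 274 = true := by decide +kernel
theorem rc90 : allBelow (fun k => fr (Nat.add 24660 k)) 274 = true := by decide +kernel
theorem rc91 : allBelow (fun k => fr (Nat.add 24934 k)) 274 = true := by decide +kernel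
theorem rc92 : allBelow (fun k => fr (Nat.add 25208 k)) 274 = true := by decide +kernel
theorem rc93 : allBelow (fun k => fr (Nat.add 25482 k)) 274 = true := by decide +kernel
theorem rc94 : allBelow (fun k => fr (Nat.add 25756 k)) 274 = true := by decide +kernel
theorem rc95 : allBelow (fun k => fr (Nat.add 26030 k)) 274 = true := by decide +kernel
theorem rc96 : allBelow (fun k => fr (Nat.add 26304 k)) 274 = true := by decide +kernel
theorem rc97 : allBelow (fun k => fr (Nat.add 26578 k)) 274 = true := by decide +kernel
theorem rc98 : allBelow (fun k => fr (Nat.add 26852 k)) 274 = true := by decide +kernel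
theorem rc99 : allBelow (fun k => fr (Nat.add 27126 k)) 274 = true := by decide +kernel
theorem rc100 : allBelow (fun k => fr (Nat.add 27400 k)) 274 = true := by decide +kernel
theorem rc101 : allBelow (fun k => fr (Nat.add 27674 k)) 274 = true := by decide +kernel
theorem rc102 : allBelow (fun k => fr (Nat.add 27948 k)) 274 = true := by decide +kernel
theorem rc103 : allBelow (fun k => fr (Nat.add 28222 k)) 274 = true := by decide +kernel
theorem rc104 : allBelow (fun k => fr (Nat.add 28496 k)) 274 = true := by decide +kernel
theorem rc105 : allBelow (fun k => fr (Nat.add 28770 k)) 274 = true := by decide +kernel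
theorem rc106 : allBelow (fun k => fr (Nat.add 29044 k)) 274 = true := by decide +kernel
theorem rc107 : allBelow (fun k => fr (Nat.add 29318 k)) 274 = true := by decide +kernel
theorem rc108 : allBelow (fun k => fr (Nat.add 29592 k)) 274 = true := by decide +kernel
theorem rc109 : allBelow (fun k => fr (Nat.add 29866 k)) 274 = true := by decide +kernel
theorem rc110 : allBelow (fun k => fr (Nat.add 30140 k)) 274 = true := by decide +kernel
theorem rc111 : allBelow (fun k => fr (Nat.add 30414 k)) 274 = true := by decide +kernel
theorem rc112 : allBelow (fun k => fr (Nat.add 30688 k)) 274 = true := by decide +kernel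
theorem rc113 : allBelow (fun k => fr (Nat.add 30962 k)) 274 = true := by decide +kernel
theorem rc114 : allBelow (fun k => fr (Nat.add 31236 k)) 274 = true := by decide +kernel
theorem rc115 : allBelow (fun k => fr (Nat.add 31510 k)) 274 = true := by decide +kernel

end Cfsg.Agent.Lib.Helper35.Fi24b
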