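import Cfsg.Agent.Lib.Helper35.Fi24b.Bp0
import Cfsg.Agent.Lib.Helper35.Fi24b.Bp1
import Cfsg.Agent.Lib.Helper35.Fi24b.Bp2
import Cfsg.Agent.Lib.Helper35.Fi24b.Bp3
import Cfsg.Agent.Lib.Helper35.Fi24b.Bp4
import Cfsg.Agent.Lib.Helper35.Fi24b.Bp5
import Cfsg.Agent.Lib.Helper35.Fi24b.Bp6
import Cfsg.Agent.Lib.Helper35.Fi24b.Bp7
import Cfsg.Agent.Lib.Helper35.Fi24b.Bp8
import Cfsg.Agent.Lib.Helper35.Fi24b.Bp9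
import Cfsg.Agent.Lib.Helper35.Fi24b.Bp10
import Cfsg.Agent.Lib.Helper35.Fi24b.Bp11
import Cfsg.Agent.Lib.Helper35.Fi24b.Bpu
import Cfsg.Agent.Lib.Helper35.Fi24b.Bpv
import Cfsg.Agent.Lib.Helper35.Fi24b.Btp
import Cfsg.Agent.Lib.Helper35.PresFi24
import Cfsg.Agent.Lib.Helper35.TCFast
import Cfsg.Agent.Lib.Helper35.PermPow
import Cfsg.Agent.Lib.Helper35.Fi24a.Data

namespace Cfsg.Agent.Lib.Helper35.Fi24b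

open Cfsg.Agent.Lib.Helper35

set_option maxRecDepth 100000
noncomputable section
def pt : Nat → Nat → Nat
  | 0 => p0
  | 1 => p1
  | 2 => p2
  | 3 => p3
  | 4 => p4
  | 5 => p5
  | 6 => p6
  | 7 => p7
  | 8 => p8
  | 9 => p9
  | 10 => p10
  | 11 => p11
  | _ => fun i => i
def qt : Nat → Nat → Nat
  | 0 => p0
  | 1 => p1
  | 2 => p2
  | 3 => p3
  | 4 => p4
  | 5 => p5
  | 6 => p6
  | 7 => p7
  | 8 => p8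
  | 9 => p9
  | 10 => p10
  | 11 => p11
  | 12 => pu
  | 13 => pv
  | _ => fun i => i
def rl0 : PLeaf pt := ⟨[0, 1, 0, 1, 0, 1], (fun i => (p1 (p0 (p1 (p0 (p1 (p0 i))))))), fun _ => rfl⟩
def rl1 : PLeaf pt := ⟨[0, 2, 0, 2], (fun i => (p2 (p0 (p2 (p0 i))))), fun _ => rfl⟩
def rl2 : PLeaf pt := ⟨[0, 3, 0, 3], (fun i => (p3 (p0 (p3 (p0 i))))), fun _ => rfl⟩
def rl3 : PLeaf pt := ⟨[0, 4, 0, 4], (fun i => (p4 (p0 (p4 (p0 i))))), fun _ => rfl⟩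
def rl4 : PLeaf pt := ⟨[0, 5, 0, 5], (fun i => (p5 (p0 (p5 (p0 i))))), fun _ => rfl⟩
def rl5 : PLeaf pt := ⟨[0, 6, 0, 6], (fun i => (p6 (p0 (p6 (p0 i))))), fun _ => rfl⟩
def rl6 : PLeaf pt := ⟨[0, 7, 0, 7], (fun i => (p7 (p0 (p7 (p0 i))))), fun _ => rfl⟩
def rl7 : PLeaf pt := ⟨[0, 8, 0, 8], (fun i => (p8 (p0 (p8 (p0 i))))), fun _ => rfl⟩
def rl8 : PLeaf pt := ⟨[0, 9, 0, 9], (fun i => (p9 (p0 (p9 (p0 i))))), fun _ => rfl⟩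
def rl9 : PLeaf pt := ⟨[0, 10, 0, 10], (fun i => (p10 (p0 (p10 (p0 i))))), fun _ => rfl⟩
def rl10 : PLeaf pt := ⟨[0, 11, 0, 11], (fun i => (p11 (p0 (p11 (p0 i))))), fun _ => rfl⟩
def rl11 : PLeaf pt := ⟨[1, 2, 1, 2, 1, 2], (fun i => (p2 (p1 (p2 (p1 (p2 (p1 i))))))), fun _ => rfl⟩
def rl12 : PLeaf pt := ⟨[1, 3, 1, 3], (fun i => (p3 (p1 (p3 (p1 i))))), fun _ => rfl⟩
def rl13 : PLeaf pt := ⟨[1, 4, 1, 4], (fun i => (p4 (p1 (p4 (p1 i))))), fun _ => rfl⟩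
def rl14 : PLeaf pt := ⟨[1, 5, 1, 5], (fun i => (p5 (p1 (p5 (p1 i))))), fun _ => rfl⟩
def rl15 : PLeaf pt := ⟨[1, 6, 1, 6], (fun i => (p6 (p1 (p6 (p1 i))))), fun _ => rfl⟩
def rl16 : PLeaf pt := ⟨[1, 7, 1, 7], (fun i => (p7 (p1 (p7 (p1 i))))), fun _ => rfl⟩
def rl17 : PLeaf pt := ⟨[1, 8, 1, 8], (fun i => (p8 (p1 (p8 (p1 i))))), fun _ => rfl⟩
def rl18 : PLeaf pt := ⟨[1, 9, 1, 9], (fun i => (p9 (p1 (p9 (p1 i))))), fun _ => rfl⟩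
def rl19 : PLeaf pt := ⟨[1, 10, 1, 10], (fun i => (p10 (p1 (p10 (p1 i))))), fun _ => rfl⟩
def rl20 : PLeaf pt := ⟨[1, 11, 1, 11], (fun i => (p11 (p1 (p11 (p1 i))))), fun _ => rfl⟩
def rl21 : PLeaf pt := ⟨[2, 3, 2, 3, 2, 3], (fun i => (p3 (p2 (p3 (p2 (p3 (p2 i))))))), fun _ => rfl⟩
def rl22 : PLeaf pt := ⟨[2, 4, 2, 4], (fun i => (p4 (p2 (p4 (p2 i))))), fun _ => rfl⟩
def rl23 : PLeaf pt := ⟨[2, 5, 2, 5], (fun i => (p5 (p2 (p5 (p2 i))))), fun _ => rfl⟩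
def rl24 : PLeaf pt := ⟨[2, 6, 2, 6], (fun i => (p6 (p2 (p6 (p2 i))))), fun _ => rfl⟩
def rl25 : PLeaf pt := ⟨[2, 7, 2, 7], (fun i => (p7 (p2 (p7 (p2 i))))), fun _ => rfl⟩
def rl26 : PLeaf pt := ⟨[2, 8, 2, 8], (fun i => (p8 (p2 (p8 (p2 i))))), fun _ => rfl⟩
def rl27 : PLeaf pt := ⟨[2, 9, 2, 9], (fun i => (p9 (p2 (p9 (p2 i))))), fun _ => rfl⟩
def rl28 : PLeaf pt := ⟨[2, 10, 2, 10], (fun i => (p10 (p2 (p10 (p2 i))))), fun _ => rfl⟩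
def rl29 : PLeaf pt := ⟨[2, 11, 2, 11], (fun i => (p11 (p2 (p11 (p2 i))))), fun _ => rfl⟩
def rl30 : PLeaf pt := ⟨[3, 4, 3, 4, 3, 4], (fun i => (p4 (p3 (p4 (p3 (p4 (p3 i))))))), fun _ => rfl⟩
def rl31 : PLeaf pt := ⟨[3, 5, 3, 5], (fun i => (p5 (p3 (p5 (p3 i))))), fun _ => rfl⟩
def rl32 : PLeaf pt := ⟨[3, 6, 3, 6], (fun i => (p6 (p3 (p6 (p3 i))))), fun _ => rfl⟩
def rl33 : PLeaf pt := ⟨[3, 7, 3, 7], (fun i => (p7 (p3 (p7 (p3 i))))), fun _ => rfl⟩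
def rl34 : PLeaf pt := ⟨[3, 8, 3, 8], (fun i => (p8 (p3 (p8 (p3 i))))), fun _ => rfl⟩
def rl35 : PLeaf pt := ⟨[3, 9, 3, 9], (fun i => (p9 (p3 (p9 (p3 i))))), fun _ => rfl⟩
def rl36 : PLeaf pt := ⟨[3, 10, 3, 10], (fun i => (p10 (p3 (p10 (p3 i))))), fun _ => rfl⟩
def rl37 : PLeaf pt := ⟨[3, 11, 3, 11], (fun i => (p11 (p3 (p11 (p3 i))))), fun _ => rfl⟩
def rl38 : PLeaf pt := ⟨[4, 5, 4, 5, 4, 5], (fun i => (p5 (p4 (p5 (p4 (p5 (p4 i))))))), fun _ => rfl⟩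
def rl39 : PLeaf pt := ⟨[4, 6, 4, 6], (fun i => (p6 (p4 (p6 (p4 i))))), fun _ => rfl⟩
def rl40 : PLeaf pt := ⟨[4, 7, 4, 7], (fun i => (p7 (p4 (p7 (p4 i))))), fun _ => rfl⟩
def rl41 : PLeaf pt := ⟨[4, 8, 4, 8], (fun i => (p8 (p4 (p8 (p4 i))))), fun _ => rfl⟩
def rl42 : PLeaf pt := ⟨[4, 9, 4, 9], (fun i => (p9 (p4 (p9 (p4 i))))), fun _ => rfl⟩
def rl43 : PLeaf pt := ⟨[4, 10, 4, 10], (fun i => (p10 (p4 (p10 (p4 i))))), fun _ => rfl⟩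
def rl44 : PLeaf pt := ⟨[4, 11, 4, 11], (fun i => (p11 (p4 (p11 (p4 i))))), fun _ => rfl⟩
def rl45 : PLeaf pt := ⟨[5, 6, 5, 6, 5, 6], (fun i => (p6 (p5 (p6 (p5 (p6 (p5 i))))))), fun _ => rfl⟩
def rl46 : PLeaf pt := ⟨[5, 7, 5, 7], (fun i => (p7 (p5 (p7 (p5 i))))), fun _ => rfl⟩
def rl47 : PLeaf pt := ⟨[5, 8, 5, 8], (fun i => (p8 (p5 (p8 (p5 i))))), fun _ => rfl⟩
def rl48 : PLeaf pt := ⟨[5, 9, 5, 9], (fun i => (p9 (p5 (p9 (p5 i))))), fun _ => rfl⟩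
def rl49 : PLeaf pt := ⟨[5, 10, 5, 10, 5, 10], (fun i => (p10 (p5 (p10 (p5 (p10 (p5 i))))))), fun _ => rfl⟩
def rl50 : PLeaf pt := ⟨[5, 11, 5, 11], (fun i => (p11 (p5 (p11 (p5 i))))), fun _ => rfl⟩
def rl51 : PLeaf pt := ⟨[6, 7, 6, 7, 6, 7], (fun i => (p7 (p6 (p7 (p6 (p7 (p6 i))))))), fun _ => rfl⟩
def rl52 : PLeaf pt := ⟨[6, 8, 6, 8], (fun i => (p8 (p6 (p8 (p6 i))))), fun _ => rfl⟩
def rl53 : PLeaf pt := ⟨[6, 9, 6, 9], (fun i => (p9 (p6 (p9 (p6 i))))), fun _ => rfl⟩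
def rl54 : PLeaf pt := ⟨[6, 10, 6, 10], (fun i => (p10 (p6 (p10 (p6 i))))), fun _ => rfl⟩
def rl55 : PLeaf pt := ⟨[6, 11, 6, 11], (fun i => (p11 (p6 (p11 (p6 i))))), fun _ => rfl⟩
def rl56 : PLeaf pt := ⟨[7, 8, 7, 8, 7, 8], (fun i => (p8 (p7 (p8 (p7 (p8 (p7 i))))))), fun _ => rfl⟩
def rl57 : PLeaf pt := ⟨[7, 9, 7, 9], (fun i => (p9 (p7 (p9 (p7 i))))), fun _ => rfl⟩
def rl58 : PLeaf pt := ⟨[7, 10, 7, 10], (fun i => (p10 (p7 (p10 (p7 i))))), fun _ => rfl⟩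
def rl59 : PLeaf pt := ⟨[7, 11, 7, 11], (fun i => (p11 (p7 (p11 (p7 i))))), fun _ => rfl⟩
def rl60 : PLeaf pt := ⟨[8, 9, 8, 9, 8, 9], (fun i => (p9 (p8 (p9 (p8 (p9 (p8 i))))))), fun _ => rfl⟩
def rl61 : PLeaf pt := ⟨[8, 10, 8, 10], (fun i => (p10 (p8 (p10 (p8 i))))), fun _ => rfl⟩
def rl62 : PLeaf pt := ⟨[8, 11, 8, 11], (fun i => (p11 (p8 (p11 (p8 i))))), fun _ => rfl⟩
def rl63 : PLeaf pt := ⟨[9, 10, 9, 10], (fun i => (p10 (p9 (p10 (p9 i))))), fun _ => rfl⟩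
def rl64 : PLeaf pt := ⟨[9, 11, 9, 11], (fun i => (p11 (p9 (p11 (p9 i))))), fun _ => rfl⟩
def rl65 : PLeaf pt := ⟨[10, 11, 10, 11, 10, 11], (fun i => (p11 (p10 (p11 (p10 (p11 (p10 i))))))), fun _ => rfl⟩
def sl0 : PLeaf pt := ⟨[2], (fun i => (p2 i)), fun _ => rfl⟩
def sl1 : PLeaf pt := ⟨[3], (fun i => (p3 i)), fun _ => rfl⟩
def sl2 : PLeaf pt := ⟨[4], (fun i => (p4 i)), fun _ => rfl⟩
def sl3 : PLeaf pt := ⟨[5], (fun i => (p5 i)), fun _ => rfl⟩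
def sl4 : PLeaf pt := ⟨[6], (fun i => (p6 i)), fun _ => rfl⟩
def sl5 : PLeaf pt := ⟨[7], (fun i => (p7 i)), fun _ => rfl⟩
def sl6 : PLeaf pt := ⟨[8], (fun i => (p8 i)), fun _ => rfl⟩
def sl7 : PLeaf pt := ⟨[10], (fun i => (p10 i)), fun _ => rfl⟩
def sl8 : PLeaf pt := ⟨[11], (fun i => (p11 i)), fun _ => rfl⟩
def sl9 : PLeaf pt := ⟨[9], (fun i => (p9 i)), fun _ => rfl⟩
def sl10 : PLeaf pt := ⟨[0], (fun i => (p0 i)), fun _ => rfl⟩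
def rl : List (PLeaf pt) := [rl0, rl1, rl2, rl3, rl4, rl5, rl6, rl7, rl8, rl9, rl10, rl11, rl12, rl13, rl14, rl15, rl16, rl17, rl18, rl19, rl20, rl21, rl22, rl23, rl24, rl25, rl26, rl27, rl28, rl29, rl30, rl31, rl32, rl33, rl34, rl35, rl36, rl37, rl38, rl39, rl40, rl41, rl42, rl43, rl44, rl45, rl46, rl47, rl48, rl49, rl50, rl51, rl52, rl53, rl54, rl55, rl56, rl57, rl58, rl59, rl60, rl61, rl62, rl63, rl64, rl65]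
def sl : List (PLeaf pt) := [sl0, sl1, sl2, sl3, sl4, sl5, sl6, sl7, sl8, sl9, sl10]
def fr (i : Nat) : Bool := fixAll rl i
def weU : PLeaf pt := ⟨[5, 4, 3, 2, 1, 0, 5, 6, 7, 8, 9, 5, 10, 11], (fun i => (p11 (p10 (p5 (p9 (p8 (p7 (p6 (p5 (p0 (p1 (p2 (p3 (p4 (p5 i))))))))))))))), fun _ => rfl⟩
def weV : PLeaf pt := ⟨[10, 7, 6, 5, 4, 3, 2], (fun i => (p2 (p3 (p4 (p5 (p6 (p7 (p10 i)))))))), fun _ => rfl⟩
def feU (i : Nat) : Bool := Nat.beq (pu i) (weU.f i)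
def feV (i : Nat) : Bool := Nat.beq (pv i) (weV.f i)
def ql0 : PLeaf qt := ⟨[0, 13, 13, 13, 13, 13, 13, 13, 13, 13], (fun i => (pv (pv (pv (pv (pv (pv (pv (pv (pv (p0 i))))))))))), fun _ => rfl⟩
def ql1 : PLeaf qt := ⟨[12, 12, 12, 12, 12, 12, 12, 12, 12, 12, 12, 12, 12, 12, 12, 12, 12], (fun i => (pu (pu (pu (pu (pu (pu (pu (pu (pu (pu (pu (pu (pu (pu (pu (pu (pu i)))))))))))))))))), fun _ => rfl⟩
def ql : List (PLeaf qt) := [ql0, ql1]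
def fq (i : Nat) : Bool := fixAll ql i
def fc0 (i : Nat) : Bool := invChk p0 p0 306936 i
def fc1 (i : Nat) : Bool := invChk p1 p1 306936 i
def fc2 (i : Nat) : Bool := invChk p2 p2 306936 i
def fc3 (i : Nat) : Bool := invChk p3 p3 306936 i
def fc4 (i : Nat) : Bool := invChk p4 p4 306936 i
def fc5 (i : Nat) : Bool := invChk p5 p5 306936 i
def fc6 (i : Nat) : Bool := invChk p6 p6 306936 i
def fc7 (i : Nat) : Bool := invChk p7 p7 306936 i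
def fc8 (i : Nat) : Bool := invChk p8 p8 306936 i
def fc9 (i : Nat) : Bool := invChk p9 p9 306936 i
def fc10 (i : Nat) : Bool := invChk p10 p10 306936 i
def fc11 (i : Nat) : Bool := invChk p11 p11 306936 i
def ft (i : Nat) : Bool := treeStep pt tp 16 12 i
def Ws : List (List Nat) := [[0], [1], [2], [3], [4], [5], [6], [7], [8], [9], [10], [11], [5, 4, 3, 2, 1, 0, 5, 6, 7, 8, 9, 5, 10, 11], [10, 7, 6, 5, 4, 3, 2]]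

end

end Cfsg.Agent.Lib.Helper35.Fi24b
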