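import Cfsg.Agent.Lib.Helper35.Fi24b.PChk0
import Cfsg.Agent.Lib.Helper35.Fi24b.PChk1
import Cfsg.Agent.Lib.Helper35.Fi24b.PChk2
import Cfsg.Agent.Lib.Helper35.Fi24b.PChk3
import Cfsg.Agent.Lib.Helper35.Fi24b.PChk4
import Cfsg.Agent.Lib.Helper35.Fi24b.PChk5
import Cfsg.Agent.Lib.Helper35.Fi24b.PChk6
import Cfsg.Agent.Lib.Helper35.Fi24b.PChk7
import Cfsg.Agent.Lib.Helper35.Fi24b.PChk8
import Cfsg.Agent.Lib.Helper35.Fi24b.PChk9
import Cfsg.Agent.Lib.Helper35.Fi24b.PChk10
import Cfsg.Agent.Lib.Helper35.Fi24b.PChk11
import Cfsg.Agent.Lib.Helper35.Fi24b.PChk12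
import Cfsg.Agent.Lib.Helper35.Fi24b.PChk13
import Cfsg.Agent.Lib.Helper35.Fi24b.PChk14
import Cfsg.Agent.Lib.Helper35.Fi24b.PChk15
import Cfsg.Agent.Lib.Helper35.Fi24b.PChk16
import Cfsg.Agent.Lib.Helper35.Fi24b.PChk17
import Cfsg.Agent.Lib.Helper35.Fi24b.PChk18
import Cfsg.Agent.Lib.Helper35.Fi24b.PChk19
import Cfsg.Agent.Lib.Helper35.Fi24b.PChk20
import Cfsg.Agent.Lib.Helper35.Fi24b.PChk21
import Cfsg.Agent.Lib.Helper35.Fi24b.PChk22
import Cfsg.Agent.Lib.Helper35.Fi24b.PChk23
import Cfsg.Agent.Lib.Helper35.Fi24b.PChk24
import Cfsg.Agent.Lib.Helper35.Fi24b.PChk25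
import Cfsg.Agent.Lib.Helper35.Fi24b.PChk26
import Cfsg.Agent.Lib.Helper35.Fi24b.PChk27
import Cfsg.Agent.Lib.Helper35.Fi24b.PChk28
import Cfsg.Agent.Lib.Helper35.Fi24b.PChk29
import Cfsg.Agent.Lib.Helper35.Fi24b.PChk30
import Cfsg.Agent.Lib.Helper35.Fi24b.PChk31
import Cfsg.Agent.Lib.Helper35.Fi24b.PChk32
import Cfsg.Agent.Lib.Helper35.Fi24b.PChk33

namespace Cfsg.Agent.Lib.Helper35.Fi24b

open Cfsg.Agent.Lib.Helper35

set_option maxRecDepth 100000

theorem tu0 : ∀ v, 1 ≤ v → v ≤ 15713 → ft v = true := slots_step ft 0 15713 15713 (slots_zero ft) tc0 rfl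
theorem tu1 : ∀ v, 1 ≤ v → v ≤ 31426 → ft v = true := slots_step ft 15713 15713 31426 tu0 tc1 rfl
theorem tu2 : ∀ v, 1 ≤ v → v ≤ 47139 → ft v = true := slots_step ft 31426 15713 47139 tu1 tc2 rfl
theorem tu3 : ∀ v, 1 ≤ v → v ≤ 62852 → ft v = true := slots_step ft 47139 15713 62852 tu2 tc3 rfl
theorem tu4 : ∀ v, 1 ≤ v → v ≤ 78565 → ft v = true := slots_step ft 62852 15713 78565 tu3 tc4 rfl
theorem tu5 : ∀ v, 1 ≤ v → v ≤ 94278 → ft v = true := slots_step ft 78565 15713 94278 tu4 tc5 rfl
theorem tu6 : ∀ v, 1 ≤ v → v ≤ 109991 → ft v = true := slots_step ft 94278 15713 109991 tu5 tc6 rfl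
theorem tu7 : ∀ v, 1 ≤ v → v ≤ 125704 → ft v = true := slots_step ft 109991 15713 125704 tu6 tc7 rfl
theorem tu8 : ∀ v, 1 ≤ v → v ≤ 141417 → ft v = true := slots_step ft 125704 15713 141417 tu7 tc8 rfl
theorem tu9 : ∀ v, 1 ≤ v → v ≤ 157130 → ft v = true := slots_step ft 141417 15713 157130 tu8 tc9 rfl
theorem tu10 : ∀ v, 1 ≤ v → v ≤ 172843 → ft v = true := slots_step ft 157130 15713 172843 tu9 tc10 rfl
theorem tu11 : ∀ v, 1 ≤ v → v ≤ 188556 → ft v = true := slots_step ft 172843 15713 188556 tu10 tc11 rfl
theorem tu12 : ∀ v, 1 ≤ v → v ≤ 204269 → ft v = true := slots_step ft 188556 15713 204269 tu11 tc12 rfl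
theorem tu13 : ∀ v, 1 ≤ v → v ≤ 219982 → ft v = true := slots_step ft 204269 15713 219982 tu12 tc13 rfl
theorem tu14 : ∀ v, 1 ≤ v → v ≤ 235695 → ft v = true := slots_step ft 219982 15713 235695 tu13 tc14 rfl
theorem tu15 : ∀ v, 1 ≤ v → v ≤ 251408 → ft v = true := slots_step ft 235695 15713 251408 tu14 tc15 rfl
theorem tu16 : ∀ v, 1 ≤ v → v ≤ 267121 → ft v = true := slots_step ft 251408 15713 267121 tu15 tc16 rfl
theorem tu17 : ∀ v, 1 ≤ v → v ≤ 282834 → ft v = true := slots_step ft 267121 15713 282834 tu16 tc17 rfl
theorem tu18 : ∀ v, 1 ≤ v → v ≤ 298547 → ft v = true := slots_step ft 282834 15713 298547 tu17 tc18 rfl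
theorem tu19 : ∀ v, 1 ≤ v → v ≤ 306935 → ft v = true := slots_step ft 298547 8388 306935 tu18 tc19 rfl
theorem c0u0 : ∀ i, i < 39283 → fc0 i = true := below_step fc0 0 39283 39283 (below_zero fc0) c0c0 rfl
theorem c0u1 : ∀ i, i < 78566 → fc0 i = true := below_step fc0 39283 39283 78566 c0u0 c0c1 rfl
theorem c0u2 : ∀ i, i < 117849 → fc0 i = true := below_step fc0 78566 39283 117849 c0u1 c0c2 rfl
theorem c0u3 : ∀ i, i < 157132 → fc0 i = true := below_step fc0 117849 39283 157132 c0u2 c0c3 rfl
theorem c0u4 : ∀ i, i < 196415 → fc0 i = true := below_step fc0 157132 39283 196415 c0u3 c0c4 rfl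
theorem c0u5 : ∀ i, i < 235698 → fc0 i = true := below_step fc0 196415 39283 235698 c0u4 c0c5 rfl
theorem c0u6 : ∀ i, i < 274981 → fc0 i = true := below_step fc0 235698 39283 274981 c0u5 c0c6 rfl
theorem c0u7 : ∀ i, i < 306936 → fc0 i = true := below_step fc0 274981 31955 306936 c0u6 c0c7 rfl
theorem c1u0 : ∀ i, i < 39283 → fc1 i = true := below_step fc1 0 39283 39283 (below_zero fc1) c1c0 rfl
theorem c1u1 : ∀ i, i < 78566 → fc1 i = true := below_step fc1 39283 39283 78566 c1u0 c1c1 rfl
theorem c1u2 : ∀ i, i < 117849 → fc1 i = true := below_step fc1 78566 39283 117849 c1u1 c1c2 rfl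
theorem c1u3 : ∀ i, i < 157132 → fc1 i = true := below_step fc1 117849 39283 157132 c1u2 c1c3 rfl
theorem c1u4 : ∀ i, i < 196415 → fc1 i = true := below_step fc1 157132 39283 196415 c1u3 c1c4 rfl
theorem c1u5 : ∀ i, i < 235698 → fc1 i = true := below_step fc1 196415 39283 235698 c1u4 c1c5 rfl
theorem c1u6 : ∀ i, i < 274981 → fc1 i = true := below_step fc1 235698 39283 274981 c1u5 c1c6 rfl
theorem c1u7 : ∀ i, i < 306936 → fc1 i = true := below_step fc1 274981 31955 306936 c1u6 c1c7 rfl
theorem c2u0 : ∀ i, i < 39283 → fc2 i = true := below_step fc2 0 39283 39283 (below_zero fc2) c2c0 rfl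
theorem c2u1 : ∀ i, i < 78566 → fc2 i = true := below_step fc2 39283 39283 78566 c2u0 c2c1 rfl
theorem c2u2 : ∀ i, i < 117849 → fc2 i = true := below_step fc2 78566 39283 117849 c2u1 c2c2 rfl
theorem c2u3 : ∀ i, i < 157132 → fc2 i = true := below_step fc2 117849 39283 157132 c2u2 c2c3 rfl
theorem c2u4 : ∀ i, i < 196415 → fc2 i = true := below_step fc2 157132 39283 196415 c2u3 c2c4 rfl
theorem c2u5 : ∀ i, i < 235698 → fc2 i = true := below_step fc2 196415 39283 235698 c2u4 c2c5 rfl
theorem c2u6 : ∀ i, i < 274981 → fc2 i = true := below_step fc2 235698 39283 274981 c2u5 c2c6 rfl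
theorem c2u7 : ∀ i, i < 306936 → fc2 i = true := below_step fc2 274981 31955 306936 c2u6 c2c7 rfl
theorem c3u0 : ∀ i, i < 39283 → fc3 i = true := below_step fc3 0 39283 39283 (below_zero fc3) c3c0 rfl
theorem c3u1 : ∀ i, i < 78566 → fc3 i = true := below_step fc3 39283 39283 78566 c3u0 c3c1 rfl
theorem c3u2 : ∀ i, i < 117849 → fc3 i = true := below_step fc3 78566 39283 117849 c3u1 c3c2 rfl
theorem c3u3 : ∀ i, i < 157132 → fc3 i = true := below_step fc3 117849 39283 157132 c3u2 c3c3 rfl
theorem c3u4 : ∀ i, i < 196415 → fc3 i = true := below_step fc3 157132 39283 196415 c3u3 c3c4 rfl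
theorem c3u5 : ∀ i, i < 235698 → fc3 i = true := below_step fc3 196415 39283 235698 c3u4 c3c5 rfl
theorem c3u6 : ∀ i, i < 274981 → fc3 i = true := below_step fc3 235698 39283 274981 c3u5 c3c6 rfl
theorem c3u7 : ∀ i, i < 306936 → fc3 i = true := below_step fc3 274981 31955 306936 c3u6 c3c7 rfl
theorem c4u0 : ∀ i, i < 39283 → fc4 i = true := below_step fc4 0 39283 39283 (below_zero fc4) c4c0 rfl
theorem c4u1 : ∀ i, i < 78566 → fc4 i = true := below_step fc4 39283 39283 78566 c4u0 c4c1 rfl
theorem c4u2 : ∀ i, i < 117849 → fc4 i = true := below_step fc4 78566 39283 117849 c4u1 c4c2 rfl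
theorem c4u3 : ∀ i, i < 157132 → fc4 i = true := below_step fc4 117849 39283 157132 c4u2 c4c3 rfl
theorem c4u4 : ∀ i, i < 196415 → fc4 i = true := below_step fc4 157132 39283 196415 c4u3 c4c4 rfl
theorem c4u5 : ∀ i, i < 235698 → fc4 i = true := below_step fc4 196415 39283 235698 c4u4 c4c5 rfl
theorem c4u6 : ∀ i, i < 274981 → fc4 i = true := below_step fc4 235698 39283 274981 c4u5 c4c6 rfl
theorem c4u7 : ∀ i, i < 306936 → fc4 i = true := below_step fc4 274981 31955 306936 c4u6 c4c7 rfl
theorem c5u0 : ∀ i, i < 39283 → fc5 i = true := below_step fc5 0 39283 39283 (below_zero fc5) c5c0 rfl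
theorem c5u1 : ∀ i, i < 78566 → fc5 i = true := below_step fc5 39283 39283 78566 c5u0 c5c1 rfl
theorem c5u2 : ∀ i, i < 117849 → fc5 i = true := below_step fc5 78566 39283 117849 c5u1 c5c2 rfl
theorem c5u3 : ∀ i, i < 157132 → fc5 i = true := below_step fc5 117849 39283 157132 c5u2 c5c3 rfl
theorem c5u4 : ∀ i, i < 196415 → fc5 i = true := below_step fc5 157132 39283 196415 c5u3 c5c4 rfl
theorem c5u5 : ∀ i, i < 235698 → fc5 i = true := below_step fc5 196415 39283 235698 c5u4 c5c5 rfl
theorem c5u6 : ∀ i, i < 274981 → fc5 i = true := below_step fc5 235698 39283 274981 c5u5 c5c6 rfl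
theorem c5u7 : ∀ i, i < 306936 → fc5 i = true := below_step fc5 274981 31955 306936 c5u6 c5c7 rfl
theorem c6u0 : ∀ i, i < 39283 → fc6 i = true := below_step fc6 0 39283 39283 (below_zero fc6) c6c0 rfl
theorem c6u1 : ∀ i, i < 78566 → fc6 i = true := below_step fc6 39283 39283 78566 c6u0 c6c1 rfl
theorem c6u2 : ∀ i, i < 117849 → fc6 i = true := below_step fc6 78566 39283 117849 c6u1 c6c2 rfl
theorem c6u3 : ∀ i, i < 157132 → fc6 i = true := below_step fc6 117849 39283 157132 c6u2 c6c3 rfl
theorem c6u4 : ∀ i, i < 196415 → fc6 i = true := below_step fc6 157132 39283 196415 c6u3 c6c4 rfl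
theorem c6u5 : ∀ i, i < 235698 → fc6 i = true := below_step fc6 196415 39283 235698 c6u4 c6c5 rfl
theorem c6u6 : ∀ i, i < 274981 → fc6 i = true := below_step fc6 235698 39283 274981 c6u5 c6c6 rfl
theorem c6u7 : ∀ i, i < 306936 → fc6 i = true := below_step fc6 274981 31955 306936 c6u6 c6c7 rfl
theorem c7u0 : ∀ i, i < 39283 → fc7 i = true := below_step fc7 0 39283 39283 (below_zero fc7) c7c0 rfl
theorem c7u1 : ∀ i, i < 78566 → fc7 i = true := below_step fc7 39283 39283 78566 c7u0 c7c1 rfl
theorem c7u2 : ∀ i, i < 117849 → fc7 i = true := below_step fc7 78566 39283 117849 c7u1 c7c2 rfl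
theorem c7u3 : ∀ i, i < 157132 → fc7 i = true := below_step fc7 117849 39283 157132 c7u2 c7c3 rfl
theorem c7u4 : ∀ i, i < 196415 → fc7 i = true := below_step fc7 157132 39283 196415 c7u3 c7c4 rfl
theorem c7u5 : ∀ i, i < 235698 → fc7 i = true := below_step fc7 196415 39283 235698 c7u4 c7c5 rfl
theorem c7u6 : ∀ i, i < 274981 → fc7 i = true := below_step fc7 235698 39283 274981 c7u5 c7c6 rfl
theorem c7u7 : ∀ i, i < 306936 → fc7 i = true := below_step fc7 274981 31955 306936 c7u6 c7c7 rfl
theorem c8u0 : ∀ i, i < 39283 → fc8 i = true := below_step fc8 0 39283 39283 (below_zero fc8) c8c0 rfl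
theorem c8u1 : ∀ i, i < 78566 → fc8 i = true := below_step fc8 39283 39283 78566 c8u0 c8c1 rfl
theorem c8u2 : ∀ i, i < 117849 → fc8 i = true := below_step fc8 78566 39283 117849 c8u1 c8c2 rfl
theorem c8u3 : ∀ i, i < 157132 → fc8 i = true := below_step fc8 117849 39283 157132 c8u2 c8c3 rfl
theorem c8u4 : ∀ i, i < 196415 → fc8 i = true := below_step fc8 157132 39283 196415 c8u3 c8c4 rfl
theorem c8u5 : ∀ i, i < 235698 → fc8 i = true := below_step fc8 196415 39283 235698 c8u4 c8c5 rfl
theorem c8u6 : ∀ i, i < 274981 → fc8 i = true := below_step fc8 235698 39283 274981 c8u5 c8c6 rfl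
theorem c8u7 : ∀ i, i < 306936 → fc8 i = true := below_step fc8 274981 31955 306936 c8u6 c8c7 rfl
theorem c9u0 : ∀ i, i < 39283 → fc9 i = true := below_step fc9 0 39283 39283 (below_zero fc9) c9c0 rfl
theorem c9u1 : ∀ i, i < 78566 → fc9 i = true := below_step fc9 39283 39283 78566 c9u0 c9c1 rfl
theorem c9u2 : ∀ i, i < 117849 → fc9 i = true := below_step fc9 78566 39283 117849 c9u1 c9c2 rfl
theorem c9u3 : ∀ i, i < 157132 → fc9 i = true := below_step fc9 117849 39283 157132 c9u2 c9c3 rfl
theorem c9u4 : ∀ i, i < 196415 → fc9 i = true := below_step fc9 157132 39283 196415 c9u3 c9c4 rfl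
theorem c9u5 : ∀ i, i < 235698 → fc9 i = true := below_step fc9 196415 39283 235698 c9u4 c9c5 rfl
theorem c9u6 : ∀ i, i < 274981 → fc9 i = true := below_step fc9 235698 39283 274981 c9u5 c9c6 rfl
theorem c9u7 : ∀ i, i < 306936 → fc9 i = true := below_step fc9 274981 31955 306936 c9u6 c9c7 rfl
theorem c10u0 : ∀ i, i < 39283 → fc10 i = true := below_step fc10 0 39283 39283 (below_zero fc10) c10c0 rfl
theorem c10u1 : ∀ i, i < 78566 → fc10 i = true := below_step fc10 39283 39283 78566 c10u0 c10c1 rfl
theorem c10u2 : ∀ i, i < 117849 → fc10 i = true := below_step fc10 78566 39283 117849 c10u1 c10c2 rfl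
theorem c10u3 : ∀ i, i < 157132 → fc10 i = true := below_step fc10 117849 39283 157132 c10u2 c10c3 rfl
theorem c10u4 : ∀ i, i < 196415 → fc10 i = true := below_step fc10 157132 39283 196415 c10u3 c10c4 rfl
theorem c10u5 : ∀ i, i < 235698 → fc10 i = true := below_step fc10 196415 39283 235698 c10u4 c10c5 rfl
theorem c10u6 : ∀ i, i < 274981 → fc10 i = true := below_step fc10 235698 39283 274981 c10u5 c10c6 rfl
theorem c10u7 : ∀ i, i < 306936 → fc10 i = true := below_step fc10 274981 31955 306936 c10u6 c10c7 rfl
theorem c11u0 : ∀ i, i < 39283 → fc11 i = true := below_step fc11 0 39283 39283 (below_zero fc11) c11c0 rfl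
theorem c11u1 : ∀ i, i < 78566 → fc11 i = true := below_step fc11 39283 39283 78566 c11u0 c11c1 rfl
theorem c11u2 : ∀ i, i < 117849 → fc11 i = true := below_step fc11 78566 39283 117849 c11u1 c11c2 rfl
theorem c11u3 : ∀ i, i < 157132 → fc11 i = true := below_step fc11 117849 39283 157132 c11u2 c11c3 rfl
theorem c11u4 : ∀ i, i < 196415 → fc11 i = true := below_step fc11 157132 39283 196415 c11u3 c11c4 rfl
theorem c11u5 : ∀ i, i < 235698 → fc11 i = true := below_step fc11 196415 39283 235698 c11u4 c11c5 rfl
theorem c11u6 : ∀ i, i < 274981 → fc11 i = true := below_step fc11 235698 39283 274981 c11u5 c11c6 rfl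
theorem c11u7 : ∀ i, i < 306936 → fc11 i = true := below_step fc11 274981 31955 306936 c11u6 c11c7 rfl
theorem eUu0 : ∀ i, i < 5237 → feU i = true := below_step feU 0 5237 5237 (below_zero feU) eUc0 rfl
theorem eUu1 : ∀ i, i < 10474 → feU i = true := below_step feU 5237 5237 10474 eUu0 eUc1 rfl
theorem eUu2 : ∀ i, i < 15711 → feU i = true := below_step feU 10474 5237 15711 eUu1 eUc2 rfl
theorem eUu3 : ∀ i, i < 20948 → feU i = true := below_step feU 15711 5237 20948 eUu2 eUc3 rfl
theorem eUu4 : ∀ i, i < 26185 → feU i = true := below_step feU 20948 5237 26185 eUu3 eUc4 rfl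
theorem eUu5 : ∀ i, i < 31422 → feU i = true := below_step feU 26185 5237 31422 eUu4 eUc5 rfl
theorem eUu6 : ∀ i, i < 36659 → feU i = true := below_step feU 31422 5237 36659 eUu5 eUc6 rfl
theorem eUu7 : ∀ i, i < 41896 → feU i = true := below_step feU 36659 5237 41896 eUu6 eUc7 rfl
theorem eUu8 : ∀ i, i < 47133 → feU i = true := below_step feU 41896 5237 47133 eUu7 eUc8 rfl
theorem eUu9 : ∀ i, i < 52370 → feU i = true := below_step feU 47133 5237 52370 eUu8 eUc9 rfl
theorem eUu10 : ∀ i, i < 57607 → feU i = true := below_step feU 52370 5237 57607 eUu9 eUc10 rfl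
theorem eUu11 : ∀ i, i < 62844 → feU i = true := below_step feU 57607 5237 62844 eUu10 eUc11 rfl
theorem eUu12 : ∀ i, i < 68081 → feU i = true := below_step feU 62844 5237 68081 eUu11 eUc12 rfl
theorem eUu13 : ∀ i, i < 73318 → feU i = true := below_step feU 68081 5237 73318 eUu12 eUc13 rfl
theorem eUu14 : ∀ i, i < 78555 → feU i = true := below_step feU 73318 5237 78555 eUu13 eUc14 rfl
theorem eUu15 : ∀ i, i < 83792 → feU i = true := below_step feU 78555 5237 83792 eUu14 eUc15 rfl
theorem eUu16 : ∀ i, i < 89029 → feU i = true := below_step feU 83792 5237 89029 eUu15 eUc16 rfl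
theorem eUu17 : ∀ i, i < 94266 → feU i = true := below_step feU 89029 5237 94266 eUu16 eUc17 rfl
theorem eUu18 : ∀ i, i < 99503 → feU i = true := below_step feU 94266 5237 99503 eUu17 eUc18 rfl
theorem eUu19 : ∀ i, i < 104740 → feU i = true := below_step feU 99503 5237 104740 eUu18 eUc19 rfl
theorem eUu20 : ∀ i, i < 109977 → feU i = true := below_step feU 104740 5237 109977 eUu19 eUc20 rfl
theorem eUu21 : ∀ i, i < 115214 → feU i = true := below_step feU 109977 5237 115214 eUu20 eUc21 rfl
theorem eUu22 : ∀ i, i < 120451 → feU i = true := below_step feU 115214 5237 120451 eUu21 eUc22 rfl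
theorem eUu23 : ∀ i, i < 125688 → feU i = true := below_step feU 120451 5237 125688 eUu22 eUc23 rfl
theorem eUu24 : ∀ i, i < 130925 → feU i = true := below_step feU 125688 5237 130925 eUu23 eUc24 rfl
theorem eUu25 : ∀ i, i < 136162 → feU i = true := below_step feU 130925 5237 136162 eUu24 eUc25 rfl
theorem eUu26 : ∀ i, i < 141399 → feU i = true := below_step feU 136162 5237 141399 eUu25 eUc26 rfl
theorem eUu27 : ∀ i, i < 146636 → feU i = true := below_step feU 141399 5237 146636 eUu26 eUc27 rfl
theorem eUu28 : ∀ i, i < 151873 → feU i = true := below_step feU 146636 5237 151873 eUu27 eUc28 rfl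
theorem eUu29 : ∀ i, i < 157110 → feU i = true := below_step feU 151873 5237 157110 eUu28 eUc29 rfl
theorem eUu30 : ∀ i, i < 162347 → feU i = true := below_step feU 157110 5237 162347 eUu29 eUc30 rfl
theorem eUu31 : ∀ i, i < 167584 → feU i = true := below_step feU 162347 5237 167584 eUu30 eUc31 rfl
theorem eUu32 : ∀ i, i < 172821 → feU i = true := below_step feU 167584 5237 172821 eUu31 eUc32 rfl
theorem eUu33 : ∀ i, i < 178058 → feU i = true := below_step feU 172821 5237 178058 eUu32 eUc33 rfl
theorem eUu34 : ∀ i, i < 183295 → feU i = true := below_step feU 178058 5237 183295 eUu33 eUc34 rfl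
theorem eUu35 : ∀ i, i < 188532 → feU i = true := below_step feU 183295 5237 188532 eUu34 eUc35 rfl
theorem eUu36 : ∀ i, i < 193769 → feU i = true := below_step feU 188532 5237 193769 eUu35 eUc36 rfl
theorem eUu37 : ∀ i, i < 199006 → feU i = true := below_step feU 193769 5237 199006 eUu36 eUc37 rfl
theorem eUu38 : ∀ i, i < 204243 → feU i = true := below_step feU 199006 5237 204243 eUu37 eUc38 rfl
theorem eUu39 : ∀ i, i < 209480 → feU i = true := below_step feU 204243 5237 209480 eUu38 eUc39 rfl
theorem eUu40 : ∀ i, i < 214717 → feU i = true := below_step feU 209480 5237 214717 eUu39 eUc40 rfl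
theorem eUu41 : ∀ i, i < 219954 → feU i = true := below_step feU 214717 5237 219954 eUu40 eUc41 rfl
theorem eUu42 : ∀ i, i < 225191 → feU i = true := below_step feU 219954 5237 225191 eUu41 eUc42 rfl
theorem eUu43 : ∀ i, i < 230428 → feU i = true := below_step feU 225191 5237 230428 eUu42 eUc43 rfl
theorem eUu44 : ∀ i, i < 235665 → feU i = true := below_step feU 230428 5237 235665 eUu43 eUc44 rfl
theorem eUu45 : ∀ i, i < 240902 → feU i = true := below_step feU 235665 5237 240902 eUu44 eUc45 rfl
theorem eUu46 : ∀ i, i < 246139 → feU i = true := below_step feU 240902 5237 246139 eUu45 eUc46 rfl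
theorem eUu47 : ∀ i, i < 251376 → feU i = true := below_step feU 246139 5237 251376 eUu46 eUc47 rfl
theorem eUu48 : ∀ i, i < 256613 → feU i = true := below_step feU 251376 5237 256613 eUu47 eUc48 rfl
theorem eUu49 : ∀ i, i < 261850 → feU i = true := below_step feU 256613 5237 261850 eUu48 eUc49 rfl
theorem eUu50 : ∀ i, i < 267087 → feU i = true := below_step feU 261850 5237 267087 eUu49 eUc50 rfl
theorem eUu51 : ∀ i, i < 272324 → feU i = true := below_step feU 267087 5237 272324 eUu50 eUc51 rfl
theorem eUu52 : ∀ i, i < 277561 → feU i = true := below_step feU 272324 5237 277561 eUu51 eUc52 rfl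
theorem eUu53 : ∀ i, i < 282798 → feU i = true := below_step feU 277561 5237 282798 eUu52 eUc53 rfl
theorem eUu54 : ∀ i, i < 288035 → feU i = true := below_step feU 282798 5237 288035 eUu53 eUc54 rfl
theorem eUu55 : ∀ i, i < 293272 → feU i = true := below_step feU 288035 5237 293272 eUu54 eUc55 rfl
theorem eUu56 : ∀ i, i < 298509 → feU i = true := below_step feU 293272 5237 298509 eUu55 eUc56 rfl
theorem eUu57 : ∀ i, i < 303746 → feU i = true := below_step feU 298509 5237 303746 eUu56 eUc57 rfl
theorem eUu58 : ∀ i, i < 306936 → feU i = true := below_step feU 303746 3190 306936 eUu57 eUc58 rfl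
theorem eVu0 : ∀ i, i < 9820 → feV i = true := below_step feV 0 9820 9820 (below_zero feV) eVc0 rfl
theorem eVu1 : ∀ i, i < 19640 → feV i = true := below_step feV 9820 9820 19640 eVu0 eVc1 rfl
theorem eVu2 : ∀ i, i < 29460 → feV i = true := below_step feV 19640 9820 29460 eVu1 eVc2 rfl
theorem eVu3 : ∀ i, i < 39280 → feV i = true := below_step feV 29460 9820 39280 eVu2 eVc3 rfl
theorem eVu4 : ∀ i, i < 49100 → feV i = true := below_step feV 39280 9820 49100 eVu3 eVc4 rfl
theorem eVu5 : ∀ i, i < 58920 → feV i = true := below_step feV 49100 9820 58920 eVu4 eVc5 rfl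
theorem eVu6 : ∀ i, i < 68740 → feV i = true := below_step feV 58920 9820 68740 eVu5 eVc6 rfl
theorem eVu7 : ∀ i, i < 78560 → feV i = true := below_step feV 68740 9820 78560 eVu6 eVc7 rfl
theorem eVu8 : ∀ i, i < 88380 → feV i = true := below_step feV 78560 9820 88380 eVu7 eVc8 rfl
theorem eVu9 : ∀ i, i < 98200 → feV i = true := below_step feV 88380 9820 98200 eVu8 eVc9 rfl
theorem eVu10 : ∀ i, i < 108020 → feV i = true := below_step feV 98200 9820 108020 eVu9 eVc10 rfl
theorem eVu11 : ∀ i, i < 117840 → feV i = true := below_step feV 108020 9820 117840 eVu10 eVc11 rfl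
theorem eVu12 : ∀ i, i < 127660 → feV i = true := below_step feV 117840 9820 127660 eVu11 eVc12 rfl
theorem eVu13 : ∀ i, i < 137480 → feV i = true := below_step feV 127660 9820 137480 eVu12 eVc13 rfl
theorem eVu14 : ∀ i, i < 147300 → feV i = true := below_step feV 137480 9820 147300 eVu13 eVc14 rfl
theorem eVu15 : ∀ i, i < 157120 → feV i = true := below_step feV 147300 9820 157120 eVu14 eVc15 rfl
theorem eVu16 : ∀ i, i < 166940 → feV i = true := below_step feV 157120 9820 166940 eVu15 eVc16 rfl
theorem eVu17 : ∀ i, i < 176760 → feV i = true := below_step feV 166940 9820 176760 eVu16 eVc17 rfl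
theorem eVu18 : ∀ i, i < 186580 → feV i = true := below_step feV 176760 9820 186580 eVu17 eVc18 rfl
theorem eVu19 : ∀ i, i < 196400 → feV i = true := below_step feV 186580 9820 196400 eVu18 eVc19 rfl
theorem eVu20 : ∀ i, i < 206220 → feV i = true := below_step feV 196400 9820 206220 eVu19 eVc20 rfl
theorem eVu21 : ∀ i, i < 216040 → feV i = true := below_step feV 206220 9820 216040 eVu20 eVc21 rfl
theorem eVu22 : ∀ i, i < 225860 → feV i = true := below_step feV 216040 9820 225860 eVu21 eVc22 rfl
theorem eVu23 : ∀ i, i < 235680 → feV i = true := below_step feV 225860 9820 235680 eVu22 eVc23 rfl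
theorem eVu24 : ∀ i, i < 245500 → feV i = true := below_step feV 235680 9820 245500 eVu23 eVc24 rfl
theorem eVu25 : ∀ i, i < 255320 → feV i = true := below_step feV 245500 9820 255320 eVu24 eVc25 rfl
theorem eVu26 : ∀ i, i < 265140 → feV i = true := below_step feV 255320 9820 265140 eVu25 eVc26 rfl
theorem eVu27 : ∀ i, i < 274960 → feV i = true := below_step feV 265140 9820 274960 eVu26 eVc27 rfl
theorem eVu28 : ∀ i, i < 284780 → feV i = true := below_step feV 274960 9820 284780 eVu27 eVc28 rfl
theorem eVu29 : ∀ i, i < 294600 → feV i = true := below_step feV 284780 9820 294600 eVu28 eVc29 rfl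
theorem eVu30 : ∀ i, i < 304420 → feV i = true := below_step feV 294600 9820 304420 eVu29 eVc30 rfl
theorem eVu31 : ∀ i, i < 306936 → feV i = true := below_step feV 304420 2516 306936 eVu30 eVc31 rfl
theorem qu0 : ∀ i, i < 2909 → fq i = true := below_step fq 0 2909 2909 (below_zero fq) qc0 rfl
theorem qu1 : ∀ i, i < 5818 → fq i = true := below_step fq 2909 2909 5818 qu0 qc1 rfl
theorem qu2 : ∀ i, i < 8727 → fq i = true := below_step fq 5818 2909 8727 qu1 qc2 rfl
theorem qu3 : ∀ i, i < 11636 → fq i = true := below_step fq 8727 2909 11636 qu2 qc3 rfl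
theorem qu4 : ∀ i, i < 14545 → fq i = true := below_step fq 11636 2909 14545 qu3 qc4 rfl
theorem qu5 : ∀ i, i < 17454 → fq i = true := below_step fq 14545 2909 17454 qu4 qc5 rfl
theorem qu6 : ∀ i, i < 20363 → fq i = true := below_step fq 17454 2909 20363 qu5 qc6 rfl
theorem qu7 : ∀ i, i < 23272 → fq i = true := below_step fq 20363 2909 23272 qu6 qc7 rfl
theorem qu8 : ∀ i, i < 26181 → fq i = true := below_step fq 23272 2909 26181 qu7 qc8 rfl
theorem qu9 : ∀ i, i < 29090 → fq i = true := below_step fq 26181 2909 29090 qu8 qc9 rfl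
theorem qu10 : ∀ i, i < 31999 → fq i = true := below_step fq 29090 2909 31999 qu9 qc10 rfl
theorem qu11 : ∀ i, i < 34908 → fq i = true := below_step fq 31999 2909 34908 qu10 qc11 rfl
theorem qu12 : ∀ i, i < 37817 → fq i = true := below_step fq 34908 2909 37817 qu11 qc12 rfl
theorem qu13 : ∀ i, i < 40726 → fq i = true := below_step fq 37817 2909 40726 qu12 qc13 rfl
theorem qu14 : ∀ i, i < 43635 → fq i = true := below_step fq 40726 2909 43635 qu13 qc14 rfl
theorem qu15 : ∀ i, i < 46544 → fq i = true := below_step fq 43635 2909 46544 qu14 qc15 rfl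
theorem qu16 : ∀ i, i < 49453 → fq i = true := below_step fq 46544 2909 49453 qu15 qc16 rfl
theorem qu17 : ∀ i, i < 52362 → fq i = true := below_step fq 49453 2909 52362 qu16 qc17 rfl
theorem qu18 : ∀ i, i < 55271 → fq i = true := below_step fq 52362 2909 55271 qu17 qc18 rfl
theorem qu19 : ∀ i, i < 58180 → fq i = true := below_step fq 55271 2909 58180 qu18 qc19 rfl
theorem qu20 : ∀ i, i < 61089 → fq i = true := below_step fq 58180 2909 61089 qu19 qc20 rfl
theorem qu21 : ∀ i, i < 63998 → fq i = true := below_step fq 61089 2909 63998 qu20 qc21 rfl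
theorem qu22 : ∀ i, i < 66907 → fq i = true := below_step fq 63998 2909 66907 qu21 qc22 rfl
theorem qu23 : ∀ i, i < 69816 → fq i = true := below_step fq 66907 2909 69816 qu22 qc23 rfl
theorem qu24 : ∀ i, i < 72725 → fq i = true := below_step fq 69816 2909 72725 qu23 qc24 rfl
theorem qu25 : ∀ i, i < 75634 → fq i = true := below_step fq 72725 2909 75634 qu24 qc25 rfl
theorem qu26 : ∀ i, i < 78543 → fq i = true := below_step fq 75634 2909 78543 qu25 qc26 rfl
theorem qu27 : ∀ i, i < 81452 → fq i = true := below_step fq 78543 2909 81452 qu26 qc27 rfl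
theorem qu28 : ∀ i, i < 84361 → fq i = true := below_step fq 81452 2909 84361 qu27 qc28 rfl
theorem qu29 : ∀ i, i < 87270 → fq i = true := below_step fq 84361 2909 87270 qu28 qc29 rfl
theorem qu30 : ∀ i, i < 90179 → fq i = true := below_step fq 87270 2909 90179 qu29 qc30 rfl
theorem qu31 : ∀ i, i < 93088 → fq i = true := below_step fq 90179 2909 93088 qu30 qc31 rfl
theorem qu32 : ∀ i, i < 95997 → fq i = true := below_step fq 93088 2909 95997 qu31 qc32 rfl
theorem qu33 : ∀ i, i < 98906 → fq i = true := below_step fq 95997 2909 98906 qu32 qc33 rfl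
theorem qu34 : ∀ i, i < 101815 → fq i = true := below_step fq 98906 2909 101815 qu33 qc34 rfl
theorem qu35 : ∀ i, i < 104724 → fq i = true := below_step fq 101815 2909 104724 qu34 qc35 rfl
theorem qu36 : ∀ i, i < 107633 → fq i = true := below_step fq 104724 2909 107633 qu35 qc36 rfl
theorem qu37 : ∀ i, i < 110542 → fq i = true := below_step fq 107633 2909 110542 qu36 qc37 rfl
theorem qu38 : ∀ i, i < 113451 → fq i = true := below_step fq 110542 2909 113451 qu37 qc38 rfl
theorem qu39 : ∀ i, i < 116360 → fq i = true := below_step fq 113451 2909 116360 qu38 qc39 rfl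
theorem qu40 : ∀ i, i < 119269 → fq i = true := below_step fq 116360 2909 119269 qu39 qc40 rfl
theorem qu41 : ∀ i, i < 122178 → fq i = true := below_step fq 119269 2909 122178 qu40 qc41 rfl
theorem qu42 : ∀ i, i < 125087 → fq i = true := below_step fq 122178 2909 125087 qu41 qc42 rfl
theorem qu43 : ∀ i, i < 127996 → fq i = true := below_step fq 125087 2909 127996 qu42 qc43 rfl
theorem qu44 : ∀ i, i < 130905 → fq i = true := below_step fq 127996 2909 130905 qu43 qc44 rfl
theorem qu45 : ∀ i, i < 133814 → fq i = true := below_step fq 130905 2909 133814 qu44 qc45 rfl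
theorem qu46 : ∀ i, i < 136723 → fq i = true := below_step fq 133814 2909 136723 qu45 qc46 rfl
theorem qu47 : ∀ i, i < 139632 → fq i = true := below_step fq 136723 2909 139632 qu46 qc47 rfl
theorem qu48 : ∀ i, i < 142541 → fq i = true := below_step fq 139632 2909 142541 qu47 qc48 rfl
theorem qu49 : ∀ i, i < 145450 → fq i = true := below_step fq 142541 2909 145450 qu48 qc49 rfl
theorem qu50 : ∀ i, i < 148359 → fq i = true := below_step fq 145450 2909 148359 qu49 qc50 rfl
theorem qu51 : ∀ i, i < 151268 → fq i = true := below_step fq 148359 2909 151268 qu50 qc51 rfl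
theorem qu52 : ∀ i, i < 154177 → fq i = true := below_step fq 151268 2909 154177 qu51 qc52 rfl
theorem qu53 : ∀ i, i < 157086 → fq i = true := below_step fq 154177 2909 157086 qu52 qc53 rfl
theorem qu54 : ∀ i, i < 159995 → fq i = true := below_step fq 157086 2909 159995 qu53 qc54 rfl
theorem qu55 : ∀ i, i < 162904 → fq i = true := below_step fq 159995 2909 162904 qu54 qc55 rfl
theorem qu56 : ∀ i, i < 165813 → fq i = true := below_step fq 162904 2909 165813 qu55 qc56 rfl
theorem qu57 : ∀ i, i < 168722 → fq i = true := below_step fq 165813 2909 168722 qu56 qc57 rfl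
theorem qu58 : ∀ i, i < 171631 → fq i = true := below_step fq 168722 2909 171631 qu57 qc58 rfl
theorem qu59 : ∀ i, i < 174540 → fq i = true := below_step fq 171631 2909 174540 qu58 qc59 rfl
theorem qu60 : ∀ i, i < 177449 → fq i = true := below_step fq 174540 2909 177449 qu59 qc60 rfl
theorem qu61 : ∀ i, i < 180358 → fq i = true := below_step fq 177449 2909 180358 qu60 qc61 rfl
theorem qu62 : ∀ i, i < 183267 → fq i = true := below_step fq 180358 2909 183267 qu61 qc62 rfl
theorem qu63 : ∀ i, i < 186176 → fq i = true := below_step fq 183267 2909 186176 qu62 qc63 rfl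
theorem qu64 : ∀ i, i < 189085 → fq i = true := below_step fq 186176 2909 189085 qu63 qc64 rfl
theorem qu65 : ∀ i, i < 191994 → fq i = true := below_step fq 189085 2909 191994 qu64 qc65 rfl
theorem qu66 : ∀ i, i < 194903 → fq i = true := below_step fq 191994 2909 194903 qu65 qc66 rfl
theorem qu67 : ∀ i, i < 197812 → fq i = true := below_step fq 194903 2909 197812 qu66 qc67 rfl
theorem qu68 : ∀ i, i < 200721 → fq i = true := below_step fq 197812 2909 200721 qu67 qc68 rfl
theorem qu69 : ∀ i, i < 203630 → fq i = true := below_step fq 200721 2909 203630 qu68 qc69 rfl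
theorem qu70 : ∀ i, i < 206539 → fq i = true := below_step fq 203630 2909 206539 qu69 qc70 rfl
theorem qu71 : ∀ i, i < 209448 → fq i = true := below_step fq 206539 2909 209448 qu70 qc71 rfl
theorem qu72 : ∀ i, i < 212357 → fq i = true := below_step fq 209448 2909 212357 qu71 qc72 rfl
theorem qu73 : ∀ i, i < 215266 → fq i = true := below_step fq 212357 2909 215266 qu72 qc73 rfl
theorem qu74 : ∀ i, i < 218175 → fq i = true := below_step fq 215266 2909 218175 qu73 qc74 rfl
theorem qu75 : ∀ i, i < 221084 → fq i = true := below_step fq 218175 2909 221084 qu74 qc75 rfl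
theorem qu76 : ∀ i, i < 223993 → fq i = true := below_step fq 221084 2909 223993 qu75 qc76 rfl
theorem qu77 : ∀ i, i < 226902 → fq i = true := below_step fq 223993 2909 226902 qu76 qc77 rfl
theorem qu78 : ∀ i, i < 229811 → fq i = true := below_step fq 226902 2909 229811 qu77 qc78 rfl
theorem qu79 : ∀ i, i < 232720 → fq i = true := below_step fq 229811 2909 232720 qu78 qc79 rfl
theorem qu80 : ∀ i, i < 235629 → fq i = true := below_step fq 232720 2909 235629 qu79 qc80 rfl
theorem qu81 : ∀ i, i < 238538 → fq i = true := below_step fq 235629 2909 238538 qu80 qc81 rfl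
theorem qu82 : ∀ i, i < 241447 → fq i = true := below_step fq 238538 2909 241447 qu81 qc82 rfl
theorem qu83 : ∀ i, i < 244356 → fq i = true := below_step fq 241447 2909 244356 qu82 qc83 rfl
theorem qu84 : ∀ i, i < 247265 → fq i = true := below_step fq 244356 2909 247265 qu83 qc84 rfl
theorem qu85 : ∀ i, i < 250174 → fq i = true := below_step fq 247265 2909 250174 qu84 qc85 rfl
theorem qu86 : ∀ i, i < 253083 → fq i = true := below_step fq 250174 2909 253083 qu85 qc86 rfl
theorem qu87 : ∀ i, i < 255992 → fq i = true := below_step fq 253083 2909 255992 qu86 qc87 rfl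
theorem qu88 : ∀ i, i < 258901 → fq i = true := below_step fq 255992 2909 258901 qu87 qc88 rfl
theorem qu89 : ∀ i, i < 261810 → fq i = true := below_step fq 258901 2909 261810 qu88 qc89 rfl
theorem qu90 : ∀ i, i < 264719 → fq i = true := below_step fq 261810 2909 264719 qu89 qc90 rfl
theorem qu91 : ∀ i, i < 267628 → fq i = true := below_step fq 264719 2909 267628 qu90 qc91 rfl
theorem qu92 : ∀ i, i < 270537 → fq i = true := below_step fq 267628 2909 270537 qu91 qc92 rfl
theorem qu93 : ∀ i, i < 273446 → fq i = true := below_step fq 270537 2909 273446 qu92 qc93 rfl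
theorem qu94 : ∀ i, i < 276355 → fq i = true := below_step fq 273446 2909 276355 qu93 qc94 rfl
theorem qu95 : ∀ i, i < 279264 → fq i = true := below_step fq 276355 2909 279264 qu94 qc95 rfl
theorem qu96 : ∀ i, i < 282173 → fq i = true := below_step fq 279264 2909 282173 qu95 qc96 rfl
theorem qu97 : ∀ i, i < 285082 → fq i = true := below_step fq 282173 2909 285082 qu96 qc97 rfl
theorem qu98 : ∀ i, i < 287991 → fq i = true := below_step fq 285082 2909 287991 qu97 qc98 rfl
theorem qu99 : ∀ i, i < 290900 → fq i = true := below_step fq 287991 2909 290900 qu98 qc99 rfl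
theorem qu100 : ∀ i, i < 293809 → fq i = true := below_step fq 290900 2909 293809 qu99 qc100 rfl
theorem qu101 : ∀ i, i < 296718 → fq i = true := below_step fq 293809 2909 296718 qu100 qc101 rfl
theorem qu102 : ∀ i, i < 299627 → fq i = true := below_step fq 296718 2909 299627 qu101 qc102 rfl
theorem qu103 : ∀ i, i < 302536 → fq i = true := below_step fq 299627 2909 302536 qu102 qc103 rfl
theorem qu104 : ∀ i, i < 305445 → fq i = true := below_step fq 302536 2909 305445 qu103 qc104 rfl
theorem qu105 : ∀ i, i < 306936 → fq i = true := below_step fq 305445 1491 306936 qu104 qc105 rfl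
theorem ru0 : ∀ i, i < 274 → fr i = true := below_step fr 0 274 274 (below_zero fr) rc0 rfl
theorem ru1 : ∀ i, i < 548 → fr i = true := below_step fr 274 274 548 ru0 rc1 rfl
theorem ru2 : ∀ i, i < 822 → fr i = true := below_step fr 548 274 822 ru1 rc2 rfl
theorem ru3 : ∀ i, i < 1096 → fr i = true := below_step fr 822 274 1096 ru2 rc3 rfl
theorem ru4 : ∀ i, i < 1370 → fr i = true := below_step fr 1096 274 1370 ru3 rc4 rfl
theorem ru5 : ∀ i, i < 1644 → fr i = true := below_step fr 1370 274 1644 ru4 rc5 rfl
theorem ru6 : ∀ i, i < 1918 → fr i = true := below_step fr 1644 274 1918 ru5 rc6 rfl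
theorem ru7 : ∀ i, i < 2192 → fr i = true := below_step fr 1918 274 2192 ru6 rc7 rfl
theorem ru8 : ∀ i, i < 2466 → fr i = true := below_step fr 2192 274 2466 ru7 rc8 rfl
theorem ru9 : ∀ i, i < 2740 → fr i = true := below_step fr 2466 274 2740 ru8 rc9 rfl
theorem ru10 : ∀ i, i < 3014 → fr i = true := below_step fr 2740 274 3014 ru9 rc10 rfl
theorem ru11 : ∀ i, i < 3288 → fr i = true := below_step fr 3014 274 3288 ru10 rc11 rfl
theorem ru12 : ∀ i, i < 3562 → fr i = true := below_step fr 3288 274 3562 ru11 rc12 rfl
theorem ru13 : ∀ i, i < 3836 → fr i = true := below_step fr 3562 274 3836 ru12 rc13 rfl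
theorem ru14 : ∀ i, i < 4110 → fr i = true := below_step fr 3836 274 4110 ru13 rc14 rfl
theorem ru15 : ∀ i, i < 4384 → fr i = true := below_step fr 4110 274 4384 ru14 rc15 rfl
theorem ru16 : ∀ i, i < 4658 → fr i = true := below_step fr 4384 274 4658 ru15 rc16 rfl
theorem ru17 : ∀ i, i < 4932 → fr i = true := below_step fr 4658 274 4932 ru16 rc17 rfl
theorem ru18 : ∀ i, i < 5206 → fr i = true := below_step fr 4932 274 5206 ru17 rc18 rfl
theorem ru19 : ∀ i, i < 5480 → fr i = true := below_step fr 5206 274 5480 ru18 rc19 rfl
theorem ru20 : ∀ i, i < 5754 → fr i = true := below_step fr 5480 274 5754 ru19 rc20 rfl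
theorem ru21 : ∀ i, i < 6028 → fr i = true := below_step fr 5754 274 6028 ru20 rc21 rfl
theorem ru22 : ∀ i, i < 6302 → fr i = true := below_step fr 6028 274 6302 ru21 rc22 rfl
theorem ru23 : ∀ i, i < 6576 → fr i = true := below_step fr 6302 274 6576 ru22 rc23 rfl
theorem ru24 : ∀ i, i < 6850 → fr i = true := below_step fr 6576 274 6850 ru23 rc24 rfl
theorem ru25 : ∀ i, i < 7124 → fr i = true := below_step fr 6850 274 7124 ru24 rc25 rfl
theorem ru26 : ∀ i, i < 7398 → fr i = true := below_step fr 7124 274 7398 ru25 rc26 rfl
theorem ru27 : ∀ i, i < 7672 → fr i = true := below_step fr 7398 274 7672 ru26 rc27 rfl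
theorem ru28 : ∀ i, i < 7946 → fr i = true := below_step fr 7672 274 7946 ru27 rc28 rfl
theorem ru29 : ∀ i, i < 8220 → fr i = true := below_step fr 7946 274 8220 ru28 rc29 rfl
theorem ru30 : ∀ i, i < 8494 → fr i = true := below_step fr 8220 274 8494 ru29 rc30 rfl
theorem ru31 : ∀ i, i < 8768 → fr i = true := below_step fr 8494 274 8768 ru30 rc31 rfl
theorem ru32 : ∀ i, i < 9042 → fr i = true := below_step fr 8768 274 9042 ru31 rc32 rfl
theorem ru33 : ∀ i, i < 9316 → fr i = true := below_step fr 9042 274 9316 ru32 rc33 rfl
theorem ru34 : ∀ i, i < 9590 → fr i = true := below_step fr 9316 274 9590 ru33 rc34 rfl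
theorem ru35 : ∀ i, i < 9864 → fr i = true := below_step fr 9590 274 9864 ru34 rc35 rfl
theorem ru36 : ∀ i, i < 10138 → fr i = true := below_step fr 9864 274 10138 ru35 rc36 rfl
theorem ru37 : ∀ i, i < 10412 → fr i = true := below_step fr 10138 274 10412 ru36 rc37 rfl
theorem ru38 : ∀ i, i < 10686 → fr i = true := below_step fr 10412 274 10686 ru37 rc38 rfl
theorem ru39 : ∀ i, i < 10960 → fr i = true := below_step fr 10686 274 10960 ru38 rc39 rfl
theorem ru40 : ∀ i, i < 11234 → fr i = true := below_step fr 10960 274 11234 ru39 rc40 rfl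
theorem ru41 : ∀ i, i < 11508 → fr i = true := below_step fr 11234 274 11508 ru40 rc41 rfl
theorem ru42 : ∀ i, i < 11782 → fr i = true := below_step fr 11508 274 11782 ru41 rc42 rfl
theorem ru43 : ∀ i, i < 12056 → fr i = true := below_step fr 11782 274 12056 ru42 rc43 rfl
theorem ru44 : ∀ i, i < 12330 → fr i = true := below_step fr 12056 274 12330 ru43 rc44 rfl
theorem ru45 : ∀ i, i < 12604 → fr i = true := below_step fr 12330 274 12604 ru44 rc45 rfl
theorem ru46 : ∀ i, i < 12878 → fr i = true := below_step fr 12604 274 12878 ru45 rc46 rfl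
theorem ru47 : ∀ i, i < 13152 → fr i = true := below_step fr 12878 274 13152 ru46 rc47 rfl
theorem ru48 : ∀ i, i < 13426 → fr i = true := below_step fr 13152 274 13426 ru47 rc48 rfl
theorem ru49 : ∀ i, i < 13700 → fr i = true := below_step fr 13426 274 13700 ru48 rc49 rfl
theorem ru50 : ∀ i, i < 13974 → fr i = true := below_step fr 13700 274 13974 ru49 rc50 rfl
theorem ru51 : ∀ i, i < 14248 → fr i = true := below_step fr 13974 274 14248 ru50 rc51 rfl
theorem ru52 : ∀ i, i < 14522 → fr i = true := below_step fr 14248 274 14522 ru51 rc52 rfl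
theorem ru53 : ∀ i, i < 14796 → fr i = true := below_step fr 14522 274 14796 ru52 rc53 rfl
theorem ru54 : ∀ i, i < 15070 → fr i = true := below_step fr 14796 274 15070 ru53 rc54 rfl
theorem ru55 : ∀ i, i < 15344 → fr i = true := below_step fr 15070 274 15344 ru54 rc55 rfl
theorem ru56 : ∀ i, i < 15618 → fr i = true := below_step fr 15344 274 15618 ru55 rc56 rfl
theorem ru57 : ∀ i, i < 15892 → fr i = true := below_step fr 15618 274 15892 ru56 rc57 rfl
theorem ru58 : ∀ i, i < 16166 → fr i = true := below_step fr 15892 274 16166 ru57 rc58 rfl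
theorem ru59 : ∀ i, i < 16440 → fr i = true := below_step fr 16166 274 16440 ru58 rc59 rfl
theorem ru60 : ∀ i, i < 16714 → fr i = true := below_step fr 16440 274 16714 ru59 rc60 rfl
theorem ru61 : ∀ i, i < 16988 → fr i = true := below_step fr 16714 274 16988 ru60 rc61 rfl
theorem ru62 : ∀ i, i < 17262 → fr i = true := below_step fr 16988 274 17262 ru61 rc62 rfl
theorem ru63 : ∀ i, i < 17536 → fr i = true := below_step fr 17262 274 17536 ru62 rc63 rfl
theorem ru64 : ∀ i, i < 17810 → fr i = true := below_step fr 17536 274 17810 ru63 rc64 rfl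
theorem ru65 : ∀ i, i < 18084 → fr i = true := below_step fr 17810 274 18084 ru64 rc65 rfl
theorem ru66 : ∀ i, i < 18358 → fr i = true := below_step fr 18084 274 18358 ru65 rc66 rfl
theorem ru67 : ∀ i, i < 18632 → fr i = true := below_step fr 18358 274 18632 ru66 rc67 rfl
theorem ru68 : ∀ i, i < 18906 → fr i = true := below_step fr 18632 274 18906 ru67 rc68 rfl
theorem ru69 : ∀ i, i < 19180 → fr i = true := below_step fr 18906 274 19180 ru68 rc69 rfl
theorem ru70 : ∀ i, i < 19454 → fr i = true := below_step fr 19180 274 19454 ru69 rc70 rfl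
theorem ru71 : ∀ i, i < 19728 → fr i = true := below_step fr 19454 274 19728 ru70 rc71 rfl
theorem ru72 : ∀ i, i < 20002 → fr i = true := below_step fr 19728 274 20002 ru71 rc72 rfl
theorem ru73 : ∀ i, i < 20276 → fr i = true := below_step fr 20002 274 20276 ru72 rc73 rfl
theorem ru74 : ∀ i, i < 20550 → fr i = true := below_step fr 20276 274 20550 ru73 rc74 rfl
theorem ru75 : ∀ i, i < 20824 → fr i = true := below_step fr 20550 274 20824 ru74 rc75 rfl
theorem ru76 : ∀ i, i < 21098 → fr i = true := below_step fr 20824 274 21098 ru75 rc76 rfl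
theorem ru77 : ∀ i, i < 21372 → fr i = true := below_step fr 21098 274 21372 ru76 rc77 rfl
theorem ru78 : ∀ i, i < 21646 → fr i = true := below_step fr 21372 274 21646 ru77 rc78 rfl
theorem ru79 : ∀ i, i < 21920 → fr i = true := below_step fr 21646 274 21920 ru78 rc79 rfl
theorem ru80 : ∀ i, i < 22194 → fr i = true := below_step fr 21920 274 22194 ru79 rc80 rfl
theorem ru81 : ∀ i, i < 22468 → fr i = true := below_step fr 22194 274 22468 ru80 rc81 rfl
theorem ru82 : ∀ i, i < 22742 → fr i = true := below_step fr 22468 274 22742 ru81 rc82 rfl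
theorem ru83 : ∀ i, i < 23016 → fr i = true := below_step fr 22742 274 23016 ru82 rc83 rfl
theorem ru84 : ∀ i, i < 23290 → fr i = true := below_step fr 23016 274 23290 ru83 rc84 rfl
theorem ru85 : ∀ i, i < 23564 → fr i = true := below_step fr 23290 274 23564 ru84 rc85 rfl
theorem ru86 : ∀ i, i < 23838 → fr i = true := below_step fr 23564 274 23838 ru85 rc86 rfl
theorem ru87 : ∀ i, i < 24112 → fr i = true := below_step fr 23838 274 24112 ru86 rc87 rfl
theorem ru88 : ∀ i, i < 24386 → fr i = true := below_step fr 24112 274 24386 ru87 rc88 rfl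
theorem ru89 : ∀ i, i < 24660 → fr i = true := below_step fr 24386 274 24660 ru88 rc89 rfl
theorem ru90 : ∀ i, i < 24934 → fr i = true := below_step fr 24660 274 24934 ru89 rc90 rfl
theorem ru91 : ∀ i, i < 25208 → fr i = true := below_step fr 24934 274 25208 ru90 rc91 rfl
theorem ru92 : ∀ i, i < 25482 → fr i = true := below_step fr 25208 274 25482 ru91 rc92 rfl
theorem ru93 : ∀ i, i < 25756 → fr i = true := below_step fr 25482 274 25756 ru92 rc93 rfl
theorem ru94 : ∀ i, i < 26030 → fr i = true := below_step fr 25756 274 26030 ru93 rc94 rfl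
theorem ru95 : ∀ i, i < 26304 → fr i = true := below_step fr 26030 274 26304 ru94 rc95 rfl
theorem ru96 : ∀ i, i < 26578 → fr i = true := below_step fr 26304 274 26578 ru95 rc96 rfl
theorem ru97 : ∀ i, i < 26852 → fr i = true := below_step fr 26578 274 26852 ru96 rc97 rfl
theorem ru98 : ∀ i, i < 27126 → fr i = true := below_step fr 26852 274 27126 ru97 rc98 rfl
theorem ru99 : ∀ i, i < 27400 → fr i = true := below_step fr 27126 274 27400 ru98 rc99 rfl
theorem ru100 : ∀ i, i < 27674 → fr i = true := below_step fr 27400 274 27674 ru99 rc100 rfl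
theorem ru101 : ∀ i, i < 27948 → fr i = true := below_step fr 27674 274 27948 ru100 rc101 rfl
theorem ru102 : ∀ i, i < 28222 → fr i = true := below_step fr 27948 274 28222 ru101 rc102 rfl
theorem ru103 : ∀ i, i < 28496 → fr i = true := below_step fr 28222 274 28496 ru102 rc103 rfl
theorem ru104 : ∀ i, i < 28770 → fr i = true := below_step fr 28496 274 28770 ru103 rc104 rfl
theorem ru105 : ∀ i, i < 29044 → fr i = true := below_step fr 28770 274 29044 ru104 rc105 rfl
theorem ru106 : ∀ i, i < 29318 → fr i = true := below_step fr 29044 274 29318 ru105 rc106 rfl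
theorem ru107 : ∀ i, i < 29592 → fr i = true := below_step fr 29318 274 29592 ru106 rc107 rfl
theorem ru108 : ∀ i, i < 29866 → fr i = true := below_step fr 29592 274 29866 ru107 rc108 rfl
theorem ru109 : ∀ i, i < 30140 → fr i = true := below_step fr 29866 274 30140 ru108 rc109 rfl
theorem ru110 : ∀ i, i < 30414 → fr i = true := below_step fr 30140 274 30414 ru109 rc110 rfl
theorem ru111 : ∀ i, i < 30688 → fr i = true := below_step fr 30414 274 30688 ru110 rc111 rfl
theorem ru112 : ∀ i, i < 30962 → fr i = true := below_step fr 30688 274 30962 ru111 rc112 rfl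
theorem ru113 : ∀ i, i < 31236 → fr i = true := below_step fr 30962 274 31236 ru112 rc113 rfl
theorem ru114 : ∀ i, i < 31510 → fr i = true := below_step fr 31236 274 31510 ru113 rc114 rfl
theorem ru115 : ∀ i, i < 31784 → fr i = true := below_step fr 31510 274 31784 ru114 rc115 rfl
theorem ru116 : ∀ i, i < 32058 → fr i = true := below_step fr 31784 274 32058 ru115 rc116 rfl
theorem ru117 : ∀ i, i < 32332 → fr i = true := below_step fr 32058 274 32332 ru116 rc117 rfl
theorem ru118 : ∀ i, i < 32606 → fr i = true := below_step fr 32332 274 32606 ru117 rc118 rfl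
theorem ru119 : ∀ i, i < 32880 → fr i = true := below_step fr 32606 274 32880 ru118 rc119 rfl
theorem ru120 : ∀ i, i < 33154 → fr i = true := below_step fr 32880 274 33154 ru119 rc120 rfl
theorem ru121 : ∀ i, i < 33428 → fr i = true := below_step fr 33154 274 33428 ru120 rc121 rfl
theorem ru122 : ∀ i, i < 33702 → fr i = true := below_step fr 33428 274 33702 ru121 rc122 rfl
theorem ru123 : ∀ i, i < 33976 → fr i = true := below_step fr 33702 274 33976 ru122 rc123 rfl
theorem ru124 : ∀ i, i < 34250 → fr i = true := below_step fr 33976 274 34250 ru123 rc124 rfl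
theorem ru125 : ∀ i, i < 34524 → fr i = true := below_step fr 34250 274 34524 ru124 rc125 rfl
theorem ru126 : ∀ i, i < 34798 → fr i = true := below_step fr 34524 274 34798 ru125 rc126 rfl
theorem ru127 : ∀ i, i < 35072 → fr i = true := below_step fr 34798 274 35072 ru126 rc127 rfl
theorem ru128 : ∀ i, i < 35346 → fr i = true := below_step fr 35072 274 35346 ru127 rc128 rfl
theorem ru129 : ∀ i, i < 35620 → fr i = true := below_step fr 35346 274 35620 ru128 rc129 rfl
theorem ru130 : ∀ i, i < 35894 → fr i = true := below_step fr 35620 274 35894 ru129 rc130 rfl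
theorem ru131 : ∀ i, i < 36168 → fr i = true := below_step fr 35894 274 36168 ru130 rc131 rfl
theorem ru132 : ∀ i, i < 36442 → fr i = true := below_step fr 36168 274 36442 ru131 rc132 rfl
theorem ru133 : ∀ i, i < 36716 → fr i = true := below_step fr 36442 274 36716 ru132 rc133 rfl
theorem ru134 : ∀ i, i < 36990 → fr i = true := below_step fr 36716 274 36990 ru133 rc134 rfl
theorem ru135 : ∀ i, i < 37264 → fr i = true := below_step fr 36990 274 37264 ru134 rc135 rfl
theorem ru136 : ∀ i, i < 37538 → fr i = true := below_step fr 37264 274 37538 ru135 rc136 rfl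
theorem ru137 : ∀ i, i < 37812 → fr i = true := below_step fr 37538 274 37812 ru136 rc137 rfl
theorem ru138 : ∀ i, i < 38086 → fr i = true := below_step fr 37812 274 38086 ru137 rc138 rfl
theorem ru139 : ∀ i, i < 38360 → fr i = true := below_step fr 38086 274 38360 ru138 rc139 rfl
theorem ru140 : ∀ i, i < 38634 → fr i = true := below_step fr 38360 274 38634 ru139 rc140 rfl
theorem ru141 : ∀ i, i < 38908 → fr i = true := below_step fr 38634 274 38908 ru140 rc141 rfl
theorem ru142 : ∀ i, i < 39182 → fr i = true := below_step fr 38908 274 39182 ru141 rc142 rfl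
theorem ru143 : ∀ i, i < 39456 → fr i = true := below_step fr 39182 274 39456 ru142 rc143 rfl
theorem ru144 : ∀ i, i < 39730 → fr i = true := below_step fr 39456 274 39730 ru143 rc144 rfl
theorem ru145 : ∀ i, i < 40004 → fr i = true := below_step fr 39730 274 40004 ru144 rc145 rfl
theorem ru146 : ∀ i, i < 40278 → fr i = true := below_step fr 40004 274 40278 ru145 rc146 rfl
theorem ru147 : ∀ i, i < 40552 → fr i = true := below_step fr 40278 274 40552 ru146 rc147 rfl
theorem ru148 : ∀ i, i < 40826 → fr i = true := below_step fr 40552 274 40826 ru147 rc148 rfl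
theorem ru149 : ∀ i, i < 41100 → fr i = true := below_step fr 40826 274 41100 ru148 rc149 rfl
theorem ru150 : ∀ i, i < 41374 → fr i = true := below_step fr 41100 274 41374 ru149 rc150 rfl
theorem ru151 : ∀ i, i < 41648 → fr i = true := below_step fr 41374 274 41648 ru150 rc151 rfl
theorem ru152 : ∀ i, i < 41922 → fr i = true := below_step fr 41648 274 41922 ru151 rc152 rfl
theorem ru153 : ∀ i, i < 42196 → fr i = true := below_step fr 41922 274 42196 ru152 rc153 rfl
theorem ru154 : ∀ i, i < 42470 → fr i = true := below_step fr 42196 274 42470 ru153 rc154 rfl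
theorem ru155 : ∀ i, i < 42744 → fr i = true := below_step fr 42470 274 42744 ru154 rc155 rfl
theorem ru156 : ∀ i, i < 43018 → fr i = true := below_step fr 42744 274 43018 ru155 rc156 rfl
theorem ru157 : ∀ i, i < 43292 → fr i = true := below_step fr 43018 274 43292 ru156 rc157 rfl
theorem ru158 : ∀ i, i < 43566 → fr i = true := below_step fr 43292 274 43566 ru157 rc158 rfl
theorem ru159 : ∀ i, i < 43840 → fr i = true := below_step fr 43566 274 43840 ru158 rc159 rfl
theorem ru160 : ∀ i, i < 44114 → fr i = true := below_step fr 43840 274 44114 ru159 rc160 rfl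
theorem ru161 : ∀ i, i < 44388 → fr i = true := below_step fr 44114 274 44388 ru160 rc161 rfl
theorem ru162 : ∀ i, i < 44662 → fr i = true := below_step fr 44388 274 44662 ru161 rc162 rfl
theorem ru163 : ∀ i, i < 44936 → fr i = true := below_step fr 44662 274 44936 ru162 rc163 rfl
theorem ru164 : ∀ i, i < 45210 → fr i = true := below_step fr 44936 274 45210 ru163 rc164 rfl
theorem ru165 : ∀ i, i < 45484 → fr i = true := below_step fr 45210 274 45484 ru164 rc165 rfl
theorem ru166 : ∀ i, i < 45758 → fr i = true := below_step fr 45484 274 45758 ru165 rc166 rfl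
theorem ru167 : ∀ i, i < 46032 → fr i = true := below_step fr 45758 274 46032 ru166 rc167 rfl
theorem ru168 : ∀ i, i < 46306 → fr i = true := below_step fr 46032 274 46306 ru167 rc168 rfl
theorem ru169 : ∀ i, i < 46580 → fr i = true := below_step fr 46306 274 46580 ru168 rc169 rfl
theorem ru170 : ∀ i, i < 46854 → fr i = true := below_step fr 46580 274 46854 ru169 rc170 rfl
theorem ru171 : ∀ i, i < 47128 → fr i = true := below_step fr 46854 274 47128 ru170 rc171 rfl
theorem ru172 : ∀ i, i < 47402 → fr i = true := below_step fr 47128 274 47402 ru171 rc172 rfl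
theorem ru173 : ∀ i, i < 47676 → fr i = true := below_step fr 47402 274 47676 ru172 rc173 rfl
theorem ru174 : ∀ i, i < 47950 → fr i = true := below_step fr 47676 274 47950 ru173 rc174 rfl
theorem ru175 : ∀ i, i < 48224 → fr i = true := below_step fr 47950 274 48224 ru174 rc175 rfl
theorem ru176 : ∀ i, i < 48498 → fr i = true := below_step fr 48224 274 48498 ru175 rc176 rfl
theorem ru177 : ∀ i, i < 48772 → fr i = true := below_step fr 48498 274 48772 ru176 rc177 rfl
theorem ru178 : ∀ i, i < 49046 → fr i = true := below_step fr 48772 274 49046 ru177 rc178 rfl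
theorem ru179 : ∀ i, i < 49320 → fr i = true := below_step fr 49046 274 49320 ru178 rc179 rfl
theorem ru180 : ∀ i, i < 49594 → fr i = true := below_step fr 49320 274 49594 ru179 rc180 rfl
theorem ru181 : ∀ i, i < 49868 → fr i = true := below_step fr 49594 274 49868 ru180 rc181 rfl
theorem ru182 : ∀ i, i < 50142 → fr i = true := below_step fr 49868 274 50142 ru181 rc182 rfl
theorem ru183 : ∀ i, i < 50416 → fr i = true := below_step fr 50142 274 50416 ru182 rc183 rfl
theorem ru184 : ∀ i, i < 50690 → fr i = true := below_step fr 50416 274 50690 ru183 rc184 rfl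
theorem ru185 : ∀ i, i < 50964 → fr i = true := below_step fr 50690 274 50964 ru184 rc185 rfl
theorem ru186 : ∀ i, i < 51238 → fr i = true := below_step fr 50964 274 51238 ru185 rc186 rfl
theorem ru187 : ∀ i, i < 51512 → fr i = true := below_step fr 51238 274 51512 ru186 rc187 rfl
theorem ru188 : ∀ i, i < 51786 → fr i = true := below_step fr 51512 274 51786 ru187 rc188 rfl
theorem ru189 : ∀ i, i < 52060 → fr i = true := below_step fr 51786 274 52060 ru188 rc189 rfl
theorem ru190 : ∀ i, i < 52334 → fr i = true := below_step fr 52060 274 52334 ru189 rc190 rfl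
theorem ru191 : ∀ i, i < 52608 → fr i = true := below_step fr 52334 274 52608 ru190 rc191 rfl
theorem ru192 : ∀ i, i < 52882 → fr i = true := below_step fr 52608 274 52882 ru191 rc192 rfl
theorem ru193 : ∀ i, i < 53156 → fr i = true := below_step fr 52882 274 53156 ru192 rc193 rfl
theorem ru194 : ∀ i, i < 53430 → fr i = true := below_step fr 53156 274 53430 ru193 rc194 rfl
theorem ru195 : ∀ i, i < 53704 → fr i = true := below_step fr 53430 274 53704 ru194 rc195 rfl
theorem ru196 : ∀ i, i < 53978 → fr i = true := below_step fr 53704 274 53978 ru195 rc196 rfl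
theorem ru197 : ∀ i, i < 54252 → fr i = true := below_step fr 53978 274 54252 ru196 rc197 rfl
theorem ru198 : ∀ i, i < 54526 → fr i = true := below_step fr 54252 274 54526 ru197 rc198 rfl
theorem ru199 : ∀ i, i < 54800 → fr i = true := below_step fr 54526 274 54800 ru198 rc199 rfl
theorem ru200 : ∀ i, i < 55074 → fr i = true := below_step fr 54800 274 55074 ru199 rc200 rfl
theorem ru201 : ∀ i, i < 55348 → fr i = true := below_step fr 55074 274 55348 ru200 rc201 rfl
theorem ru202 : ∀ i, i < 55622 → fr i = true := below_step fr 55348 274 55622 ru201 rc202 rfl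
theorem ru203 : ∀ i, i < 55896 → fr i = true := below_step fr 55622 274 55896 ru202 rc203 rfl
theorem ru204 : ∀ i, i < 56170 → fr i = true := below_step fr 55896 274 56170 ru203 rc204 rfl
theorem ru205 : ∀ i, i < 56444 → fr i = true := below_step fr 56170 274 56444 ru204 rc205 rfl
theorem ru206 : ∀ i, i < 56718 → fr i = true := below_step fr 56444 274 56718 ru205 rc206 rfl
theorem ru207 : ∀ i, i < 56992 → fr i = true := below_step fr 56718 274 56992 ru206 rc207 rfl
theorem ru208 : ∀ i, i < 57266 → fr i = true := below_step fr 56992 274 57266 ru207 rc208 rfl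
theorem ru209 : ∀ i, i < 57540 → fr i = true := below_step fr 57266 274 57540 ru208 rc209 rfl
theorem ru210 : ∀ i, i < 57814 → fr i = true := below_step fr 57540 274 57814 ru209 rc210 rfl
theorem ru211 : ∀ i, i < 58088 → fr i = true := below_step fr 57814 274 58088 ru210 rc211 rfl
theorem ru212 : ∀ i, i < 58362 → fr i = true := below_step fr 58088 274 58362 ru211 rc212 rfl
theorem ru213 : ∀ i, i < 58636 → fr i = true := below_step fr 58362 274 58636 ru212 rc213 rfl
theorem ru214 : ∀ i, i < 58910 → fr i = true := below_step fr 58636 274 58910 ru213 rc214 rfl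
theorem ru215 : ∀ i, i < 59184 → fr i = true := below_step fr 58910 274 59184 ru214 rc215 rfl
theorem ru216 : ∀ i, i < 59458 → fr i = true := below_step fr 59184 274 59458 ru215 rc216 rfl
theorem ru217 : ∀ i, i < 59732 → fr i = true := below_step fr 59458 274 59732 ru216 rc217 rfl
theorem ru218 : ∀ i, i < 60006 → fr i = true := below_step fr 59732 274 60006 ru217 rc218 rfl
theorem ru219 : ∀ i, i < 60280 → fr i = true := below_step fr 60006 274 60280 ru218 rc219 rfl
theorem ru220 : ∀ i, i < 60554 → fr i = true := below_step fr 60280 274 60554 ru219 rc220 rfl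
theorem ru221 : ∀ i, i < 60828 → fr i = true := below_step fr 60554 274 60828 ru220 rc221 rfl
theorem ru222 : ∀ i, i < 61102 → fr i = true := below_step fr 60828 274 61102 ru221 rc222 rfl
theorem ru223 : ∀ i, i < 61376 → fr i = true := below_step fr 61102 274 61376 ru222 rc223 rfl
theorem ru224 : ∀ i, i < 61650 → fr i = true := below_step fr 61376 274 61650 ru223 rc224 rfl
theorem ru225 : ∀ i, i < 61924 → fr i = true := below_step fr 61650 274 61924 ru224 rc225 rfl
theorem ru226 : ∀ i, i < 62198 → fr i = true := below_step fr 61924 274 62198 ru225 rc226 rfl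
theorem ru227 : ∀ i, i < 62472 → fr i = true := below_step fr 62198 274 62472 ru226 rc227 rfl
theorem ru228 : ∀ i, i < 62746 → fr i = true := below_step fr 62472 274 62746 ru227 rc228 rfl
theorem ru229 : ∀ i, i < 63020 → fr i = true := below_step fr 62746 274 63020 ru228 rc229 rfl
theorem ru230 : ∀ i, i < 63294 → fr i = true := below_step fr 63020 274 63294 ru229 rc230 rfl
theorem ru231 : ∀ i, i < 63568 → fr i = true := below_step fr 63294 274 63568 ru230 rc231 rfl
theorem ru232 : ∀ i, i < 63842 → fr i = true := below_step fr 63568 274 63842 ru231 rc232 rfl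
theorem ru233 : ∀ i, i < 64116 → fr i = true := below_step fr 63842 274 64116 ru232 rc233 rfl
theorem ru234 : ∀ i, i < 64390 → fr i = true := below_step fr 64116 274 64390 ru233 rc234 rfl
theorem ru235 : ∀ i, i < 64664 → fr i = true := below_step fr 64390 274 64664 ru234 rc235 rfl
theorem ru236 : ∀ i, i < 64938 → fr i = true := below_step fr 64664 274 64938 ru235 rc236 rfl
theorem ru237 : ∀ i, i < 65212 → fr i = true := below_step fr 64938 274 65212 ru236 rc237 rfl
theorem ru238 : ∀ i, i < 65486 → fr i = true := below_step fr 65212 274 65486 ru237 rc238 rfl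
theorem ru239 : ∀ i, i < 65760 → fr i = true := below_step fr 65486 274 65760 ru238 rc239 rfl
theorem ru240 : ∀ i, i < 66034 → fr i = true := below_step fr 65760 274 66034 ru239 rc240 rfl
theorem ru241 : ∀ i, i < 66308 → fr i = true := below_step fr 66034 274 66308 ru240 rc241 rfl
theorem ru242 : ∀ i, i < 66582 → fr i = true := below_step fr 66308 274 66582 ru241 rc242 rfl
theorem ru243 : ∀ i, i < 66856 → fr i = true := below_step fr 66582 274 66856 ru242 rc243 rfl
theorem ru244 : ∀ i, i < 67130 → fr i = true := below_step fr 66856 274 67130 ru243 rc244 rfl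
theorem ru245 : ∀ i, i < 67404 → fr i = true := below_step fr 67130 274 67404 ru244 rc245 rfl
theorem ru246 : ∀ i, i < 67678 → fr i = true := below_step fr 67404 274 67678 ru245 rc246 rfl
theorem ru247 : ∀ i, i < 67952 → fr i = true := below_step fr 67678 274 67952 ru246 rc247 rfl
theorem ru248 : ∀ i, i < 68226 → fr i = true := below_step fr 67952 274 68226 ru247 rc248 rfl
theorem ru249 : ∀ i, i < 68500 → fr i = true := below_step fr 68226 274 68500 ru248 rc249 rfl
theorem ru250 : ∀ i, i < 68774 → fr i = true := below_step fr 68500 274 68774 ru249 rc250 rfl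
theorem ru251 : ∀ i, i < 69048 → fr i = true := below_step fr 68774 274 69048 ru250 rc251 rfl
theorem ru252 : ∀ i, i < 69322 → fr i = true := below_step fr 69048 274 69322 ru251 rc252 rfl
theorem ru253 : ∀ i, i < 69596 → fr i = true := below_step fr 69322 274 69596 ru252 rc253 rfl
theorem ru254 : ∀ i, i < 69870 → fr i = true := below_step fr 69596 274 69870 ru253 rc254 rfl
theorem ru255 : ∀ i, i < 70144 → fr i = true := below_step fr 69870 274 70144 ru254 rc255 rfl
theorem ru256 : ∀ i, i < 70418 → fr i = true := below_step fr 70144 274 70418 ru255 rc256 rfl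
theorem ru257 : ∀ i, i < 70692 → fr i = true := below_step fr 70418 274 70692 ru256 rc257 rfl
theorem ru258 : ∀ i, i < 70966 → fr i = true := below_step fr 70692 274 70966 ru257 rc258 rfl
theorem ru259 : ∀ i, i < 71240 → fr i = true := below_step fr 70966 274 71240 ru258 rc259 rfl
theorem ru260 : ∀ i, i < 71514 → fr i = true := below_step fr 71240 274 71514 ru259 rc260 rfl
theorem ru261 : ∀ i, i < 71788 → fr i = true := below_step fr 71514 274 71788 ru260 rc261 rfl
theorem ru262 : ∀ i, i < 72062 → fr i = true := below_step fr 71788 274 72062 ru261 rc262 rfl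
theorem ru263 : ∀ i, i < 72336 → fr i = true := below_step fr 72062 274 72336 ru262 rc263 rfl
theorem ru264 : ∀ i, i < 72610 → fr i = true := below_step fr 72336 274 72610 ru263 rc264 rfl
theorem ru265 : ∀ i, i < 72884 → fr i = true := below_step fr 72610 274 72884 ru264 rc265 rfl
theorem ru266 : ∀ i, i < 73158 → fr i = true := below_step fr 72884 274 73158 ru265 rc266 rfl
theorem ru267 : ∀ i, i < 73432 → fr i = true := below_step fr 73158 274 73432 ru266 rc267 rfl
theorem ru268 : ∀ i, i < 73706 → fr i = true := below_step fr 73432 274 73706 ru267 rc268 rfl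
theorem ru269 : ∀ i, i < 73980 → fr i = true := below_step fr 73706 274 73980 ru268 rc269 rfl
theorem ru270 : ∀ i, i < 74254 → fr i = true := below_step fr 73980 274 74254 ru269 rc270 rfl
theorem ru271 : ∀ i, i < 74528 → fr i = true := below_step fr 74254 274 74528 ru270 rc271 rfl
theorem ru272 : ∀ i, i < 74802 → fr i = true := below_step fr 74528 274 74802 ru271 rc272 rfl
theorem ru273 : ∀ i, i < 75076 → fr i = true := below_step fr 74802 274 75076 ru272 rc273 rfl
theorem ru274 : ∀ i, i < 75350 → fr i = true := below_step fr 75076 274 75350 ru273 rc274 rfl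
theorem ru275 : ∀ i, i < 75624 → fr i = true := below_step fr 75350 274 75624 ru274 rc275 rfl
theorem ru276 : ∀ i, i < 75898 → fr i = true := below_step fr 75624 274 75898 ru275 rc276 rfl
theorem ru277 : ∀ i, i < 76172 → fr i = true := below_step fr 75898 274 76172 ru276 rc277 rfl
theorem ru278 : ∀ i, i < 76446 → fr i = true := below_step fr 76172 274 76446 ru277 rc278 rfl
theorem ru279 : ∀ i, i < 76720 → fr i = true := below_step fr 76446 274 76720 ru278 rc279 rfl
theorem ru280 : ∀ i, i < 76994 → fr i = true := below_step fr 76720 274 76994 ru279 rc280 rfl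
theorem ru281 : ∀ i, i < 77268 → fr i = true := below_step fr 76994 274 77268 ru280 rc281 rfl
theorem ru282 : ∀ i, i < 77542 → fr i = true := below_step fr 77268 274 77542 ru281 rc282 rfl
theorem ru283 : ∀ i, i < 77816 → fr i = true := below_step fr 77542 274 77816 ru282 rc283 rfl
theorem ru284 : ∀ i, i < 78090 → fr i = true := below_step fr 77816 274 78090 ru283 rc284 rfl
theorem ru285 : ∀ i, i < 78364 → fr i = true := below_step fr 78090 274 78364 ru284 rc285 rfl
theorem ru286 : ∀ i, i < 78638 → fr i = true := below_step fr 78364 274 78638 ru285 rc286 rfl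
theorem ru287 : ∀ i, i < 78912 → fr i = true := below_step fr 78638 274 78912 ru286 rc287 rfl
theorem ru288 : ∀ i, i < 79186 → fr i = true := below_step fr 78912 274 79186 ru287 rc288 rfl
theorem ru289 : ∀ i, i < 79460 → fr i = true := below_step fr 79186 274 79460 ru288 rc289 rfl
theorem ru290 : ∀ i, i < 79734 → fr i = true := below_step fr 79460 274 79734 ru289 rc290 rfl
theorem ru291 : ∀ i, i < 80008 → fr i = true := below_step fr 79734 274 80008 ru290 rc291 rfl
theorem ru292 : ∀ i, i < 80282 → fr i = true := below_step fr 80008 274 80282 ru291 rc292 rfl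
theorem ru293 : ∀ i, i < 80556 → fr i = true := below_step fr 80282 274 80556 ru292 rc293 rfl
theorem ru294 : ∀ i, i < 80830 → fr i = true := below_step fr 80556 274 80830 ru293 rc294 rfl
theorem ru295 : ∀ i, i < 81104 → fr i = true := below_step fr 80830 274 81104 ru294 rc295 rfl
theorem ru296 : ∀ i, i < 81378 → fr i = true := below_step fr 81104 274 81378 ru295 rc296 rfl
theorem ru297 : ∀ i, i < 81652 → fr i = true := below_step fr 81378 274 81652 ru296 rc297 rfl
theorem ru298 : ∀ i, i < 81926 → fr i = true := below_step fr 81652 274 81926 ru297 rc298 rfl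
theorem ru299 : ∀ i, i < 82200 → fr i = true := below_step fr 81926 274 82200 ru298 rc299 rfl
theorem ru300 : ∀ i, i < 82474 → fr i = true := below_step fr 82200 274 82474 ru299 rc300 rfl
theorem ru301 : ∀ i, i < 82748 → fr i = true := below_step fr 82474 274 82748 ru300 rc301 rfl
theorem ru302 : ∀ i, i < 83022 → fr i = true := below_step fr 82748 274 83022 ru301 rc302 rfl
theorem ru303 : ∀ i, i < 83296 → fr i = true := below_step fr 83022 274 83296 ru302 rc303 rfl
theorem ru304 : ∀ i, i < 83570 → fr i = true := below_step fr 83296 274 83570 ru303 rc304 rfl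
theorem ru305 : ∀ i, i < 83844 → fr i = true := below_step fr 83570 274 83844 ru304 rc305 rfl
theorem ru306 : ∀ i, i < 84118 → fr i = true := below_step fr 83844 274 84118 ru305 rc306 rfl
theorem ru307 : ∀ i, i < 84392 → fr i = true := below_step fr 84118 274 84392 ru306 rc307 rfl
theorem ru308 : ∀ i, i < 84666 → fr i = true := below_step fr 84392 274 84666 ru307 rc308 rfl
theorem ru309 : ∀ i, i < 84940 → fr i = true := below_step fr 84666 274 84940 ru308 rc309 rfl
theorem ru310 : ∀ i, i < 85214 → fr i = true := below_step fr 84940 274 85214 ru309 rc310 rfl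
theorem ru311 : ∀ i, i < 85488 → fr i = true := below_step fr 85214 274 85488 ru310 rc311 rfl
theorem ru312 : ∀ i, i < 85762 → fr i = true := below_step fr 85488 274 85762 ru311 rc312 rfl
theorem ru313 : ∀ i, i < 86036 → fr i = true := below_step fr 85762 274 86036 ru312 rc313 rfl
theorem ru314 : ∀ i, i < 86310 → fr i = true := below_step fr 86036 274 86310 ru313 rc314 rfl
theorem ru315 : ∀ i, i < 86584 → fr i = true := below_step fr 86310 274 86584 ru314 rc315 rfl
theorem ru316 : ∀ i, i < 86858 → fr i = true := below_step fr 86584 274 86858 ru315 rc316 rfl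
theorem ru317 : ∀ i, i < 87132 → fr i = true := below_step fr 86858 274 87132 ru316 rc317 rfl
theorem ru318 : ∀ i, i < 87406 → fr i = true := below_step fr 87132 274 87406 ru317 rc318 rfl
theorem ru319 : ∀ i, i < 87680 → fr i = true := below_step fr 87406 274 87680 ru318 rc319 rfl
theorem ru320 : ∀ i, i < 87954 → fr i = true := below_step fr 87680 274 87954 ru319 rc320 rfl
theorem ru321 : ∀ i, i < 88228 → fr i = true := below_step fr 87954 274 88228 ru320 rc321 rfl
theorem ru322 : ∀ i, i < 88502 → fr i = true := below_step fr 88228 274 88502 ru321 rc322 rfl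
theorem ru323 : ∀ i, i < 88776 → fr i = true := below_step fr 88502 274 88776 ru322 rc323 rfl
theorem ru324 : ∀ i, i < 89050 → fr i = true := below_step fr 88776 274 89050 ru323 rc324 rfl
theorem ru325 : ∀ i, i < 89324 → fr i = true := below_step fr 89050 274 89324 ru324 rc325 rfl
theorem ru326 : ∀ i, i < 89598 → fr i = true := below_step fr 89324 274 89598 ru325 rc326 rfl
theorem ru327 : ∀ i, i < 89872 → fr i = true := below_step fr 89598 274 89872 ru326 rc327 rfl
theorem ru328 : ∀ i, i < 90146 → fr i = true := below_step fr 89872 274 90146 ru327 rc328 rfl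
theorem ru329 : ∀ i, i < 90420 → fr i = true := below_step fr 90146 274 90420 ru328 rc329 rfl
theorem ru330 : ∀ i, i < 90694 → fr i = true := below_step fr 90420 274 90694 ru329 rc330 rfl
theorem ru331 : ∀ i, i < 90968 → fr i = true := below_step fr 90694 274 90968 ru330 rc331 rfl
theorem ru332 : ∀ i, i < 91242 → fr i = true := below_step fr 90968 274 91242 ru331 rc332 rfl
theorem ru333 : ∀ i, i < 91516 → fr i = true := below_step fr 91242 274 91516 ru332 rc333 rfl
theorem ru334 : ∀ i, i < 91790 → fr i = true := below_step fr 91516 274 91790 ru333 rc334 rfl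
theorem ru335 : ∀ i, i < 92064 → fr i = true := below_step fr 91790 274 92064 ru334 rc335 rfl
theorem ru336 : ∀ i, i < 92338 → fr i = true := below_step fr 92064 274 92338 ru335 rc336 rfl
theorem ru337 : ∀ i, i < 92612 → fr i = true := below_step fr 92338 274 92612 ru336 rc337 rfl
theorem ru338 : ∀ i, i < 92886 → fr i = true := below_step fr 92612 274 92886 ru337 rc338 rfl
theorem ru339 : ∀ i, i < 93160 → fr i = true := below_step fr 92886 274 93160 ru338 rc339 rfl
theorem ru340 : ∀ i, i < 93434 → fr i = true := below_step fr 93160 274 93434 ru339 rc340 rfl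
theorem ru341 : ∀ i, i < 93708 → fr i = true := below_step fr 93434 274 93708 ru340 rc341 rfl
theorem ru342 : ∀ i, i < 93982 → fr i = true := below_step fr 93708 274 93982 ru341 rc342 rfl
theorem ru343 : ∀ i, i < 94256 → fr i = true := below_step fr 93982 274 94256 ru342 rc343 rfl
theorem ru344 : ∀ i, i < 94530 → fr i = true := below_step fr 94256 274 94530 ru343 rc344 rfl
theorem ru345 : ∀ i, i < 94804 → fr i = true := below_step fr 94530 274 94804 ru344 rc345 rfl
theorem ru346 : ∀ i, i < 95078 → fr i = true := below_step fr 94804 274 95078 ru345 rc346 rfl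
theorem ru347 : ∀ i, i < 95352 → fr i = true := below_step fr 95078 274 95352 ru346 rc347 rfl
theorem ru348 : ∀ i, i < 95626 → fr i = true := below_step fr 95352 274 95626 ru347 rc348 rfl
theorem ru349 : ∀ i, i < 95900 → fr i = true := below_step fr 95626 274 95900 ru348 rc349 rfl
theorem ru350 : ∀ i, i < 96174 → fr i = true := below_step fr 95900 274 96174 ru349 rc350 rfl
theorem ru351 : ∀ i, i < 96448 → fr i = true := below_step fr 96174 274 96448 ru350 rc351 rfl
theorem ru352 : ∀ i, i < 96722 → fr i = true := below_step fr 96448 274 96722 ru351 rc352 rfl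
theorem ru353 : ∀ i, i < 96996 → fr i = true := below_step fr 96722 274 96996 ru352 rc353 rfl
theorem ru354 : ∀ i, i < 97270 → fr i = true := below_step fr 96996 274 97270 ru353 rc354 rfl
theorem ru355 : ∀ i, i < 97544 → fr i = true := below_step fr 97270 274 97544 ru354 rc355 rfl
theorem ru356 : ∀ i, i < 97818 → fr i = true := below_step fr 97544 274 97818 ru355 rc356 rfl
theorem ru357 : ∀ i, i < 98092 → fr i = true := below_step fr 97818 274 98092 ru356 rc357 rfl
theorem ru358 : ∀ i, i < 98366 → fr i = true := below_step fr 98092 274 98366 ru357 rc358 rfl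
theorem ru359 : ∀ i, i < 98640 → fr i = true := below_step fr 98366 274 98640 ru358 rc359 rfl
theorem ru360 : ∀ i, i < 98914 → fr i = true := below_step fr 98640 274 98914 ru359 rc360 rfl
theorem ru361 : ∀ i, i < 99188 → fr i = true := below_step fr 98914 274 99188 ru360 rc361 rfl
theorem ru362 : ∀ i, i < 99462 → fr i = true := below_step fr 99188 274 99462 ru361 rc362 rfl
theorem ru363 : ∀ i, i < 99736 → fr i = true := below_step fr 99462 274 99736 ru362 rc363 rfl
theorem ru364 : ∀ i, i < 100010 → fr i = true := below_step fr 99736 274 100010 ru363 rc364 rfl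
theorem ru365 : ∀ i, i < 100284 → fr i = true := below_step fr 100010 274 100284 ru364 rc365 rfl
theorem ru366 : ∀ i, i < 100558 → fr i = true := below_step fr 100284 274 100558 ru365 rc366 rfl
theorem ru367 : ∀ i, i < 100832 → fr i = true := below_step fr 100558 274 100832 ru366 rc367 rfl
theorem ru368 : ∀ i, i < 101106 → fr i = true := below_step fr 100832 274 101106 ru367 rc368 rfl
theorem ru369 : ∀ i, i < 101380 → fr i = true := below_step fr 101106 274 101380 ru368 rc369 rfl
theorem ru370 : ∀ i, i < 101654 → fr i = true := below_step fr 101380 274 101654 ru369 rc370 rfl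
theorem ru371 : ∀ i, i < 101928 → fr i = true := below_step fr 101654 274 101928 ru370 rc371 rfl
theorem ru372 : ∀ i, i < 102202 → fr i = true := below_step fr 101928 274 102202 ru371 rc372 rfl
theorem ru373 : ∀ i, i < 102476 → fr i = true := below_step fr 102202 274 102476 ru372 rc373 rfl
theorem ru374 : ∀ i, i < 102750 → fr i = true := below_step fr 102476 274 102750 ru373 rc374 rfl
theorem ru375 : ∀ i, i < 103024 → fr i = true := below_step fr 102750 274 103024 ru374 rc375 rfl
theorem ru376 : ∀ i, i < 103298 → fr i = true := below_step fr 103024 274 103298 ru375 rc376 rfl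
theorem ru377 : ∀ i, i < 103572 → fr i = true := below_step fr 103298 274 103572 ru376 rc377 rfl
theorem ru378 : ∀ i, i < 103846 → fr i = true := below_step fr 103572 274 103846 ru377 rc378 rfl
theorem ru379 : ∀ i, i < 104120 → fr i = true := below_step fr 103846 274 104120 ru378 rc379 rfl
theorem ru380 : ∀ i, i < 104394 → fr i = true := below_step fr 104120 274 104394 ru379 rc380 rfl
theorem ru381 : ∀ i, i < 104668 → fr i = true := below_step fr 104394 274 104668 ru380 rc381 rfl
theorem ru382 : ∀ i, i < 104942 → fr i = true := below_step fr 104668 274 104942 ru381 rc382 rfl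
theorem ru383 : ∀ i, i < 105216 → fr i = true := below_step fr 104942 274 105216 ru382 rc383 rfl
theorem ru384 : ∀ i, i < 105490 → fr i = true := below_step fr 105216 274 105490 ru383 rc384 rfl
theorem ru385 : ∀ i, i < 105764 → fr i = true := below_step fr 105490 274 105764 ru384 rc385 rfl
theorem ru386 : ∀ i, i < 106038 → fr i = true := below_step fr 105764 274 106038 ru385 rc386 rfl
theorem ru387 : ∀ i, i < 106312 → fr i = true := below_step fr 106038 274 106312 ru386 rc387 rfl
theorem ru388 : ∀ i, i < 106586 → fr i = true := below_step fr 106312 274 106586 ru387 rc388 rfl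
theorem ru389 : ∀ i, i < 106860 → fr i = true := below_step fr 106586 274 106860 ru388 rc389 rfl
theorem ru390 : ∀ i, i < 107134 → fr i = true := below_step fr 106860 274 107134 ru389 rc390 rfl
theorem ru391 : ∀ i, i < 107408 → fr i = true := below_step fr 107134 274 107408 ru390 rc391 rfl
theorem ru392 : ∀ i, i < 107682 → fr i = true := below_step fr 107408 274 107682 ru391 rc392 rfl
theorem ru393 : ∀ i, i < 107956 → fr i = true := below_step fr 107682 274 107956 ru392 rc393 rfl
theorem ru394 : ∀ i, i < 108230 → fr i = true := below_step fr 107956 274 108230 ru393 rc394 rfl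
theorem ru395 : ∀ i, i < 108504 → fr i = true := below_step fr 108230 274 108504 ru394 rc395 rfl
theorem ru396 : ∀ i, i < 108778 → fr i = true := below_step fr 108504 274 108778 ru395 rc396 rfl
theorem ru397 : ∀ i, i < 109052 → fr i = true := below_step fr 108778 274 109052 ru396 rc397 rfl
theorem ru398 : ∀ i, i < 109326 → fr i = true := below_step fr 109052 274 109326 ru397 rc398 rfl
theorem ru399 : ∀ i, i < 109600 → fr i = true := below_step fr 109326 274 109600 ru398 rc399 rfl
theorem ru400 : ∀ i, i < 109874 → fr i = true := below_step fr 109600 274 109874 ru399 rc400 rfl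
theorem ru401 : ∀ i, i < 110148 → fr i = true := below_step fr 109874 274 110148 ru400 rc401 rfl
theorem ru402 : ∀ i, i < 110422 → fr i = true := below_step fr 110148 274 110422 ru401 rc402 rfl
theorem ru403 : ∀ i, i < 110696 → fr i = true := below_step fr 110422 274 110696 ru402 rc403 rfl
theorem ru404 : ∀ i, i < 110970 → fr i = true := below_step fr 110696 274 110970 ru403 rc404 rfl
theorem ru405 : ∀ i, i < 111244 → fr i = true := below_step fr 110970 274 111244 ru404 rc405 rfl
theorem ru406 : ∀ i, i < 111518 → fr i = true := below_step fr 111244 274 111518 ru405 rc406 rfl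
theorem ru407 : ∀ i, i < 111792 → fr i = true := below_step fr 111518 274 111792 ru406 rc407 rfl
theorem ru408 : ∀ i, i < 112066 → fr i = true := below_step fr 111792 274 112066 ru407 rc408 rfl
theorem ru409 : ∀ i, i < 112340 → fr i = true := below_step fr 112066 274 112340 ru408 rc409 rfl
theorem ru410 : ∀ i, i < 112614 → fr i = true := below_step fr 112340 274 112614 ru409 rc410 rfl
theorem ru411 : ∀ i, i < 112888 → fr i = true := below_step fr 112614 274 112888 ru410 rc411 rfl
theorem ru412 : ∀ i, i < 113162 → fr i = true := below_step fr 112888 274 113162 ru411 rc412 rfl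
theorem ru413 : ∀ i, i < 113436 → fr i = true := below_step fr 113162 274 113436 ru412 rc413 rfl
theorem ru414 : ∀ i, i < 113710 → fr i = true := below_step fr 113436 274 113710 ru413 rc414 rfl
theorem ru415 : ∀ i, i < 113984 → fr i = true := below_step fr 113710 274 113984 ru414 rc415 rfl
theorem ru416 : ∀ i, i < 114258 → fr i = true := below_step fr 113984 274 114258 ru415 rc416 rfl
theorem ru417 : ∀ i, i < 114532 → fr i = true := below_step fr 114258 274 114532 ru416 rc417 rfl
theorem ru418 : ∀ i, i < 114806 → fr i = true := below_step fr 114532 274 114806 ru417 rc418 rfl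
theorem ru419 : ∀ i, i < 115080 → fr i = true := below_step fr 114806 274 115080 ru418 rc419 rfl
theorem ru420 : ∀ i, i < 115354 → fr i = true := below_step fr 115080 274 115354 ru419 rc420 rfl
theorem ru421 : ∀ i, i < 115628 → fr i = true := below_step fr 115354 274 115628 ru420 rc421 rfl
theorem ru422 : ∀ i, i < 115902 → fr i = true := below_step fr 115628 274 115902 ru421 rc422 rfl
theorem ru423 : ∀ i, i < 116176 → fr i = true := below_step fr 115902 274 116176 ru422 rc423 rfl
theorem ru424 : ∀ i, i < 116450 → fr i = true := below_step fr 116176 274 116450 ru423 rc424 rfl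
theorem ru425 : ∀ i, i < 116724 → fr i = true := below_step fr 116450 274 116724 ru424 rc425 rfl
theorem ru426 : ∀ i, i < 116998 → fr i = true := below_step fr 116724 274 116998 ru425 rc426 rfl
theorem ru427 : ∀ i, i < 117272 → fr i = true := below_step fr 116998 274 117272 ru426 rc427 rfl
theorem ru428 : ∀ i, i < 117546 → fr i = true := below_step fr 117272 274 117546 ru427 rc428 rfl
theorem ru429 : ∀ i, i < 117820 → fr i = true := below_step fr 117546 274 117820 ru428 rc429 rfl
theorem ru430 : ∀ i, i < 118094 → fr i = true := below_step fr 117820 274 118094 ru429 rc430 rfl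
theorem ru431 : ∀ i, i < 118368 → fr i = true := below_step fr 118094 274 118368 ru430 rc431 rfl
theorem ru432 : ∀ i, i < 118642 → fr i = true := below_step fr 118368 274 118642 ru431 rc432 rfl
theorem ru433 : ∀ i, i < 118916 → fr i = true := below_step fr 118642 274 118916 ru432 rc433 rfl
theorem ru434 : ∀ i, i < 119190 → fr i = true := below_step fr 118916 274 119190 ru433 rc434 rfl
theorem ru435 : ∀ i, i < 119464 → fr i = true := below_step fr 119190 274 119464 ru434 rc435 rfl
theorem ru436 : ∀ i, i < 119738 → fr i = true := below_step fr 119464 274 119738 ru435 rc436 rfl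
theorem ru437 : ∀ i, i < 120012 → fr i = true := below_step fr 119738 274 120012 ru436 rc437 rfl
theorem ru438 : ∀ i, i < 120286 → fr i = true := below_step fr 120012 274 120286 ru437 rc438 rfl
theorem ru439 : ∀ i, i < 120560 → fr i = true := below_step fr 120286 274 120560 ru438 rc439 rfl
theorem ru440 : ∀ i, i < 120834 → fr i = true := below_step fr 120560 274 120834 ru439 rc440 rfl
theorem ru441 : ∀ i, i < 121108 → fr i = true := below_step fr 120834 274 121108 ru440 rc441 rfl
theorem ru442 : ∀ i, i < 121382 → fr i = true := below_step fr 121108 274 121382 ru441 rc442 rfl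
theorem ru443 : ∀ i, i < 121656 → fr i = true := below_step fr 121382 274 121656 ru442 rc443 rfl
theorem ru444 : ∀ i, i < 121930 → fr i = true := below_step fr 121656 274 121930 ru443 rc444 rfl
theorem ru445 : ∀ i, i < 122204 → fr i = true := below_step fr 121930 274 122204 ru444 rc445 rfl
theorem ru446 : ∀ i, i < 122478 → fr i = true := below_step fr 122204 274 122478 ru445 rc446 rfl
theorem ru447 : ∀ i, i < 122752 → fr i = true := below_step fr 122478 274 122752 ru446 rc447 rfl
theorem ru448 : ∀ i, i < 123026 → fr i = true := below_step fr 122752 274 123026 ru447 rc448 rfl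
theorem ru449 : ∀ i, i < 123300 → fr i = true := below_step fr 123026 274 123300 ru448 rc449 rfl
theorem ru450 : ∀ i, i < 123574 → fr i = true := below_step fr 123300 274 123574 ru449 rc450 rfl
theorem ru451 : ∀ i, i < 123848 → fr i = true := below_step fr 123574 274 123848 ru450 rc451 rfl
theorem ru452 : ∀ i, i < 124122 → fr i = true := below_step fr 123848 274 124122 ru451 rc452 rfl
theorem ru453 : ∀ i, i < 124396 → fr i = true := below_step fr 124122 274 124396 ru452 rc453 rfl
theorem ru454 : ∀ i, i < 124670 → fr i = true := below_step fr 124396 274 124670 ru453 rc454 rfl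
theorem ru455 : ∀ i, i < 124944 → fr i = true := below_step fr 124670 274 124944 ru454 rc455 rfl
theorem ru456 : ∀ i, i < 125218 → fr i = true := below_step fr 124944 274 125218 ru455 rc456 rfl
theorem ru457 : ∀ i, i < 125492 → fr i = true := below_step fr 125218 274 125492 ru456 rc457 rfl
theorem ru458 : ∀ i, i < 125766 → fr i = true := below_step fr 125492 274 125766 ru457 rc458 rfl
theorem ru459 : ∀ i, i < 126040 → fr i = true := below_step fr 125766 274 126040 ru458 rc459 rfl
theorem ru460 : ∀ i, i < 126314 → fr i = true := below_step fr 126040 274 126314 ru459 rc460 rfl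
theorem ru461 : ∀ i, i < 126588 → fr i = true := below_step fr 126314 274 126588 ru460 rc461 rfl
theorem ru462 : ∀ i, i < 126862 → fr i = true := below_step fr 126588 274 126862 ru461 rc462 rfl
theorem ru463 : ∀ i, i < 127136 → fr i = true := below_step fr 126862 274 127136 ru462 rc463 rfl
theorem ru464 : ∀ i, i < 127410 → fr i = true := below_step fr 127136 274 127410 ru463 rc464 rfl
theorem ru465 : ∀ i, i < 127684 → fr i = true := below_step fr 127410 274 127684 ru464 rc465 rfl
theorem ru466 : ∀ i, i < 127958 → fr i = true := below_step fr 127684 274 127958 ru465 rc466 rfl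
theorem ru467 : ∀ i, i < 128232 → fr i = true := below_step fr 127958 274 128232 ru466 rc467 rfl
theorem ru468 : ∀ i, i < 128506 → fr i = true := below_step fr 128232 274 128506 ru467 rc468 rfl
theorem ru469 : ∀ i, i < 128780 → fr i = true := below_step fr 128506 274 128780 ru468 rc469 rfl
theorem ru470 : ∀ i, i < 129054 → fr i = true := below_step fr 128780 274 129054 ru469 rc470 rfl
theorem ru471 : ∀ i, i < 129328 → fr i = true := below_step fr 129054 274 129328 ru470 rc471 rfl
theorem ru472 : ∀ i, i < 129602 → fr i = true := below_step fr 129328 274 129602 ru471 rc472 rfl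
theorem ru473 : ∀ i, i < 129876 → fr i = true := below_step fr 129602 274 129876 ru472 rc473 rfl
theorem ru474 : ∀ i, i < 130150 → fr i = true := below_step fr 129876 274 130150 ru473 rc474 rfl
theorem ru475 : ∀ i, i < 130424 → fr i = true := below_step fr 130150 274 130424 ru474 rc475 rfl
theorem ru476 : ∀ i, i < 130698 → fr i = true := below_step fr 130424 274 130698 ru475 rc476 rfl
theorem ru477 : ∀ i, i < 130972 → fr i = true := below_step fr 130698 274 130972 ru476 rc477 rfl
theorem ru478 : ∀ i, i < 131246 → fr i = true := below_step fr 130972 274 131246 ru477 rc478 rfl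
theorem ru479 : ∀ i, i < 131520 → fr i = true := below_step fr 131246 274 131520 ru478 rc479 rfl
theorem ru480 : ∀ i, i < 131794 → fr i = true := below_step fr 131520 274 131794 ru479 rc480 rfl
theorem ru481 : ∀ i, i < 132068 → fr i = true := below_step fr 131794 274 132068 ru480 rc481 rfl
theorem ru482 : ∀ i, i < 132342 → fr i = true := below_step fr 132068 274 132342 ru481 rc482 rfl
theorem ru483 : ∀ i, i < 132616 → fr i = true := below_step fr 132342 274 132616 ru482 rc483 rfl
theorem ru484 : ∀ i, i < 132890 → fr i = true := below_step fr 132616 274 132890 ru483 rc484 rfl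
theorem ru485 : ∀ i, i < 133164 → fr i = true := below_step fr 132890 274 133164 ru484 rc485 rfl
theorem ru486 : ∀ i, i < 133438 → fr i = true := below_step fr 133164 274 133438 ru485 rc486 rfl
theorem ru487 : ∀ i, i < 133712 → fr i = true := below_step fr 133438 274 133712 ru486 rc487 rfl
theorem ru488 : ∀ i, i < 133986 → fr i = true := below_step fr 133712 274 133986 ru487 rc488 rfl
theorem ru489 : ∀ i, i < 134260 → fr i = true := below_step fr 133986 274 134260 ru488 rc489 rfl
theorem ru490 : ∀ i, i < 134534 → fr i = true := below_step fr 134260 274 134534 ru489 rc490 rfl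
theorem ru491 : ∀ i, i < 134808 → fr i = true := below_step fr 134534 274 134808 ru490 rc491 rfl
theorem ru492 : ∀ i, i < 135082 → fr i = true := below_step fr 134808 274 135082 ru491 rc492 rfl
theorem ru493 : ∀ i, i < 135356 → fr i = true := below_step fr 135082 274 135356 ru492 rc493 rfl
theorem ru494 : ∀ i, i < 135630 → fr i = true := below_step fr 135356 274 135630 ru493 rc494 rfl
theorem ru495 : ∀ i, i < 135904 → fr i = true := below_step fr 135630 274 135904 ru494 rc495 rfl
theorem ru496 : ∀ i, i < 136178 → fr i = true := below_step fr 135904 274 136178 ru495 rc496 rfl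
theorem ru497 : ∀ i, i < 136452 → fr i = true := below_step fr 136178 274 136452 ru496 rc497 rfl
theorem ru498 : ∀ i, i < 136726 → fr i = true := below_step fr 136452 274 136726 ru497 rc498 rfl
theorem ru499 : ∀ i, i < 137000 → fr i = true := below_step fr 136726 274 137000 ru498 rc499 rfl
theorem ru500 : ∀ i, i < 137274 → fr i = true := below_step fr 137000 274 137274 ru499 rc500 rfl
theorem ru501 : ∀ i, i < 137548 → fr i = true := below_step fr 137274 274 137548 ru500 rc501 rfl
theorem ru502 : ∀ i, i < 137822 → fr i = true := below_step fr 137548 274 137822 ru501 rc502 rfl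
theorem ru503 : ∀ i, i < 138096 → fr i = true := below_step fr 137822 274 138096 ru502 rc503 rfl
theorem ru504 : ∀ i, i < 138370 → fr i = true := below_step fr 138096 274 138370 ru503 rc504 rfl
theorem ru505 : ∀ i, i < 138644 → fr i = true := below_step fr 138370 274 138644 ru504 rc505 rfl
theorem ru506 : ∀ i, i < 138918 → fr i = true := below_step fr 138644 274 138918 ru505 rc506 rfl
theorem ru507 : ∀ i, i < 139192 → fr i = true := below_step fr 138918 274 139192 ru506 rc507 rfl
theorem ru508 : ∀ i, i < 139466 → fr i = true := below_step fr 139192 274 139466 ru507 rc508 rfl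
theorem ru509 : ∀ i, i < 139740 → fr i = true := below_step fr 139466 274 139740 ru508 rc509 rfl
theorem ru510 : ∀ i, i < 140014 → fr i = true := below_step fr 139740 274 140014 ru509 rc510 rfl
theorem ru511 : ∀ i, i < 140288 → fr i = true := below_step fr 140014 274 140288 ru510 rc511 rfl
theorem ru512 : ∀ i, i < 140562 → fr i = true := below_step fr 140288 274 140562 ru511 rc512 rfl
theorem ru513 : ∀ i, i < 140836 → fr i = true := below_step fr 140562 274 140836 ru512 rc513 rfl
theorem ru514 : ∀ i, i < 141110 → fr i = true := below_step fr 140836 274 141110 ru513 rc514 rfl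
theorem ru515 : ∀ i, i < 141384 → fr i = true := below_step fr 141110 274 141384 ru514 rc515 rfl
theorem ru516 : ∀ i, i < 141658 → fr i = true := below_step fr 141384 274 141658 ru515 rc516 rfl
theorem ru517 : ∀ i, i < 141932 → fr i = true := below_step fr 141658 274 141932 ru516 rc517 rfl
theorem ru518 : ∀ i, i < 142206 → fr i = true := below_step fr 141932 274 142206 ru517 rc518 rfl
theorem ru519 : ∀ i, i < 142480 → fr i = true := below_step fr 142206 274 142480 ru518 rc519 rfl
theorem ru520 : ∀ i, i < 142754 → fr i = true := below_step fr 142480 274 142754 ru519 rc520 rfl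
theorem ru521 : ∀ i, i < 143028 → fr i = true := below_step fr 142754 274 143028 ru520 rc521 rfl
theorem ru522 : ∀ i, i < 143302 → fr i = true := below_step fr 143028 274 143302 ru521 rc522 rfl
theorem ru523 : ∀ i, i < 143576 → fr i = true := below_step fr 143302 274 143576 ru522 rc523 rfl
theorem ru524 : ∀ i, i < 143850 → fr i = true := below_step fr 143576 274 143850 ru523 rc524 rfl
theorem ru525 : ∀ i, i < 144124 → fr i = true := below_step fr 143850 274 144124 ru524 rc525 rfl
theorem ru526 : ∀ i, i < 144398 → fr i = true := below_step fr 144124 274 144398 ru525 rc526 rfl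
theorem ru527 : ∀ i, i < 144672 → fr i = true := below_step fr 144398 274 144672 ru526 rc527 rfl
theorem ru528 : ∀ i, i < 144946 → fr i = true := below_step fr 144672 274 144946 ru527 rc528 rfl
theorem ru529 : ∀ i, i < 145220 → fr i = true := below_step fr 144946 274 145220 ru528 rc529 rfl
theorem ru530 : ∀ i, i < 145494 → fr i = true := below_step fr 145220 274 145494 ru529 rc530 rfl
theorem ru531 : ∀ i, i < 145768 → fr i = true := below_step fr 145494 274 145768 ru530 rc531 rfl
theorem ru532 : ∀ i, i < 146042 → fr i = true := below_step fr 145768 274 146042 ru531 rc532 rfl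
theorem ru533 : ∀ i, i < 146316 → fr i = true := below_step fr 146042 274 146316 ru532 rc533 rfl
theorem ru534 : ∀ i, i < 146590 → fr i = true := below_step fr 146316 274 146590 ru533 rc534 rfl
theorem ru535 : ∀ i, i < 146864 → fr i = true := below_step fr 146590 274 146864 ru534 rc535 rfl
theorem ru536 : ∀ i, i < 147138 → fr i = true := below_step fr 146864 274 147138 ru535 rc536 rfl
theorem ru537 : ∀ i, i < 147412 → fr i = true := below_step fr 147138 274 147412 ru536 rc537 rfl
theorem ru538 : ∀ i, i < 147686 → fr i = true := below_step fr 147412 274 147686 ru537 rc538 rfl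
theorem ru539 : ∀ i, i < 147960 → fr i = true := below_step fr 147686 274 147960 ru538 rc539 rfl
theorem ru540 : ∀ i, i < 148234 → fr i = true := below_step fr 147960 274 148234 ru539 rc540 rfl
theorem ru541 : ∀ i, i < 148508 → fr i = true := below_step fr 148234 274 148508 ru540 rc541 rfl
theorem ru542 : ∀ i, i < 148782 → fr i = true := below_step fr 148508 274 148782 ru541 rc542 rfl
theorem ru543 : ∀ i, i < 149056 → fr i = true := below_step fr 148782 274 149056 ru542 rc543 rfl
theorem ru544 : ∀ i, i < 149330 → fr i = true := below_step fr 149056 274 149330 ru543 rc544 rfl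
theorem ru545 : ∀ i, i < 149604 → fr i = true := below_step fr 149330 274 149604 ru544 rc545 rfl
theorem ru546 : ∀ i, i < 149878 → fr i = true := below_step fr 149604 274 149878 ru545 rc546 rfl
theorem ru547 : ∀ i, i < 150152 → fr i = true := below_step fr 149878 274 150152 ru546 rc547 rfl
theorem ru548 : ∀ i, i < 150426 → fr i = true := below_step fr 150152 274 150426 ru547 rc548 rfl
theorem ru549 : ∀ i, i < 150700 → fr i = true := below_step fr 150426 274 150700 ru548 rc549 rfl
theorem ru550 : ∀ i, i < 150974 → fr i = true := below_step fr 150700 274 150974 ru549 rc550 rfl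
theorem ru551 : ∀ i, i < 151248 → fr i = true := below_step fr 150974 274 151248 ru550 rc551 rfl
theorem ru552 : ∀ i, i < 151522 → fr i = true := below_step fr 151248 274 151522 ru551 rc552 rfl
theorem ru553 : ∀ i, i < 151796 → fr i = true := below_step fr 151522 274 151796 ru552 rc553 rfl
theorem ru554 : ∀ i, i < 152070 → fr i = true := below_step fr 151796 274 152070 ru553 rc554 rfl
theorem ru555 : ∀ i, i < 152344 → fr i = true := below_step fr 152070 274 152344 ru554 rc555 rfl
theorem ru556 : ∀ i, i < 152618 → fr i = true := below_step fr 152344 274 152618 ru555 rc556 rfl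
theorem ru557 : ∀ i, i < 152892 → fr i = true := below_step fr 152618 274 152892 ru556 rc557 rfl
theorem ru558 : ∀ i, i < 153166 → fr i = true := below_step fr 152892 274 153166 ru557 rc558 rfl
theorem ru559 : ∀ i, i < 153440 → fr i = true := below_step fr 153166 274 153440 ru558 rc559 rfl
theorem ru560 : ∀ i, i < 153714 → fr i = true := below_step fr 153440 274 153714 ru559 rc560 rfl
theorem ru561 : ∀ i, i < 153988 → fr i = true := below_step fr 153714 274 153988 ru560 rc561 rfl
theorem ru562 : ∀ i, i < 154262 → fr i = true := below_step fr 153988 274 154262 ru561 rc562 rfl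
theorem ru563 : ∀ i, i < 154536 → fr i = true := below_step fr 154262 274 154536 ru562 rc563 rfl
theorem ru564 : ∀ i, i < 154810 → fr i = true := below_step fr 154536 274 154810 ru563 rc564 rfl
theorem ru565 : ∀ i, i < 155084 → fr i = true := below_step fr 154810 274 155084 ru564 rc565 rfl
theorem ru566 : ∀ i, i < 155358 → fr i = true := below_step fr 155084 274 155358 ru565 rc566 rfl
theorem ru567 : ∀ i, i < 155632 → fr i = true := below_step fr 155358 274 155632 ru566 rc567 rfl
theorem ru568 : ∀ i, i < 155906 → fr i = true := below_step fr 155632 274 155906 ru567 rc568 rfl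
theorem ru569 : ∀ i, i < 156180 → fr i = true := below_step fr 155906 274 156180 ru568 rc569 rfl
theorem ru570 : ∀ i, i < 156454 → fr i = true := below_step fr 156180 274 156454 ru569 rc570 rfl
theorem ru571 : ∀ i, i < 156728 → fr i = true := below_step fr 156454 274 156728 ru570 rc571 rfl
theorem ru572 : ∀ i, i < 157002 → fr i = true := below_step fr 156728 274 157002 ru571 rc572 rfl
theorem ru573 : ∀ i, i < 157276 → fr i = true := below_step fr 157002 274 157276 ru572 rc573 rfl
theorem ru574 : ∀ i, i < 157550 → fr i = true := below_step fr 157276 274 157550 ru573 rc574 rfl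
theorem ru575 : ∀ i, i < 157824 → fr i = true := below_step fr 157550 274 157824 ru574 rc575 rfl
theorem ru576 : ∀ i, i < 158098 → fr i = true := below_step fr 157824 274 158098 ru575 rc576 rfl
theorem ru577 : ∀ i, i < 158372 → fr i = true := below_step fr 158098 274 158372 ru576 rc577 rfl
theorem ru578 : ∀ i, i < 158646 → fr i = true := below_step fr 158372 274 158646 ru577 rc578 rfl
theorem ru579 : ∀ i, i < 158920 → fr i = true := below_step fr 158646 274 158920 ru578 rc579 rfl
theorem ru580 : ∀ i, i < 159194 → fr i = true := below_step fr 158920 274 159194 ru579 rc580 rfl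
theorem ru581 : ∀ i, i < 159468 → fr i = true := below_step fr 159194 274 159468 ru580 rc581 rfl
theorem ru582 : ∀ i, i < 159742 → fr i = true := below_step fr 159468 274 159742 ru581 rc582 rfl
theorem ru583 : ∀ i, i < 160016 → fr i = true := below_step fr 159742 274 160016 ru582 rc583 rfl
theorem ru584 : ∀ i, i < 160290 → fr i = true := below_step fr 160016 274 160290 ru583 rc584 rfl
theorem ru585 : ∀ i, i < 160564 → fr i = true := below_step fr 160290 274 160564 ru584 rc585 rfl
theorem ru586 : ∀ i, i < 160838 → fr i = true := below_step fr 160564 274 160838 ru585 rc586 rfl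
theorem ru587 : ∀ i, i < 161112 → fr i = true := below_step fr 160838 274 161112 ru586 rc587 rfl
theorem ru588 : ∀ i, i < 161386 → fr i = true := below_step fr 161112 274 161386 ru587 rc588 rfl
theorem ru589 : ∀ i, i < 161660 → fr i = true := below_step fr 161386 274 161660 ru588 rc589 rfl
theorem ru590 : ∀ i, i < 161934 → fr i = true := below_step fr 161660 274 161934 ru589 rc590 rfl
theorem ru591 : ∀ i, i < 162208 → fr i = true := below_step fr 161934 274 162208 ru590 rc591 rfl
theorem ru592 : ∀ i, i < 162482 → fr i = true := below_step fr 162208 274 162482 ru591 rc592 rfl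
theorem ru593 : ∀ i, i < 162756 → fr i = true := below_step fr 162482 274 162756 ru592 rc593 rfl
theorem ru594 : ∀ i, i < 163030 → fr i = true := below_step fr 162756 274 163030 ru593 rc594 rfl
theorem ru595 : ∀ i, i < 163304 → fr i = true := below_step fr 163030 274 163304 ru594 rc595 rfl
theorem ru596 : ∀ i, i < 163578 → fr i = true := below_step fr 163304 274 163578 ru595 rc596 rfl
theorem ru597 : ∀ i, i < 163852 → fr i = true := below_step fr 163578 274 163852 ru596 rc597 rfl
theorem ru598 : ∀ i, i < 164126 → fr i = true := below_step fr 163852 274 164126 ru597 rc598 rfl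
theorem ru599 : ∀ i, i < 164400 → fr i = true := below_step fr 164126 274 164400 ru598 rc599 rfl
theorem ru600 : ∀ i, i < 164674 → fr i = true := below_step fr 164400 274 164674 ru599 rc600 rfl
theorem ru601 : ∀ i, i < 164948 → fr i = true := below_step fr 164674 274 164948 ru600 rc601 rfl
theorem ru602 : ∀ i, i < 165222 → fr i = true := below_step fr 164948 274 165222 ru601 rc602 rfl
theorem ru603 : ∀ i, i < 165496 → fr i = true := below_step fr 165222 274 165496 ru602 rc603 rfl
theorem ru604 : ∀ i, i < 165770 → fr i = true := below_step fr 165496 274 165770 ru603 rc604 rfl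
theorem ru605 : ∀ i, i < 166044 → fr i = true := below_step fr 165770 274 166044 ru604 rc605 rfl
theorem ru606 : ∀ i, i < 166318 → fr i = true := below_step fr 166044 274 166318 ru605 rc606 rfl
theorem ru607 : ∀ i, i < 166592 → fr i = true := below_step fr 166318 274 166592 ru606 rc607 rfl
theorem ru608 : ∀ i, i < 166866 → fr i = true := below_step fr 166592 274 166866 ru607 rc608 rfl
theorem ru609 : ∀ i, i < 167140 → fr i = true := below_step fr 166866 274 167140 ru608 rc609 rfl
theorem ru610 : ∀ i, i < 167414 → fr i = true := below_step fr 167140 274 167414 ru609 rc610 rfl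
theorem ru611 : ∀ i, i < 167688 → fr i = true := below_step fr 167414 274 167688 ru610 rc611 rfl
theorem ru612 : ∀ i, i < 167962 → fr i = true := below_step fr 167688 274 167962 ru611 rc612 rfl
theorem ru613 : ∀ i, i < 168236 → fr i = true := below_step fr 167962 274 168236 ru612 rc613 rfl
theorem ru614 : ∀ i, i < 168510 → fr i = true := below_step fr 168236 274 168510 ru613 rc614 rfl
theorem ru615 : ∀ i, i < 168784 → fr i = true := below_step fr 168510 274 168784 ru614 rc615 rfl
theorem ru616 : ∀ i, i < 169058 → fr i = true := below_step fr 168784 274 169058 ru615 rc616 rfl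
theorem ru617 : ∀ i, i < 169332 → fr i = true := below_step fr 169058 274 169332 ru616 rc617 rfl
theorem ru618 : ∀ i, i < 169606 → fr i = true := below_step fr 169332 274 169606 ru617 rc618 rfl
theorem ru619 : ∀ i, i < 169880 → fr i = true := below_step fr 169606 274 169880 ru618 rc619 rfl
theorem ru620 : ∀ i, i < 170154 → fr i = true := below_step fr 169880 274 170154 ru619 rc620 rfl
theorem ru621 : ∀ i, i < 170428 → fr i = true := below_step fr 170154 274 170428 ru620 rc621 rfl
theorem ru622 : ∀ i, i < 170702 → fr i = true := below_step fr 170428 274 170702 ru621 rc622 rfl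
theorem ru623 : ∀ i, i < 170976 → fr i = true := below_step fr 170702 274 170976 ru622 rc623 rfl
theorem ru624 : ∀ i, i < 171250 → fr i = true := below_step fr 170976 274 171250 ru623 rc624 rfl
theorem ru625 : ∀ i, i < 171524 → fr i = true := below_step fr 171250 274 171524 ru624 rc625 rfl
theorem ru626 : ∀ i, i < 171798 → fr i = true := below_step fr 171524 274 171798 ru625 rc626 rfl
theorem ru627 : ∀ i, i < 172072 → fr i = true := below_step fr 171798 274 172072 ru626 rc627 rfl
theorem ru628 : ∀ i, i < 172346 → fr i = true := below_step fr 172072 274 172346 ru627 rc628 rfl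
theorem ru629 : ∀ i, i < 172620 → fr i = true := below_step fr 172346 274 172620 ru628 rc629 rfl
theorem ru630 : ∀ i, i < 172894 → fr i = true := below_step fr 172620 274 172894 ru629 rc630 rfl
theorem ru631 : ∀ i, i < 173168 → fr i = true := below_step fr 172894 274 173168 ru630 rc631 rfl
theorem ru632 : ∀ i, i < 173442 → fr i = true := below_step fr 173168 274 173442 ru631 rc632 rfl
theorem ru633 : ∀ i, i < 173716 → fr i = true := below_step fr 173442 274 173716 ru632 rc633 rfl
theorem ru634 : ∀ i, i < 173990 → fr i = true := below_step fr 173716 274 173990 ru633 rc634 rfl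
theorem ru635 : ∀ i, i < 174264 → fr i = true := below_step fr 173990 274 174264 ru634 rc635 rfl
theorem ru636 : ∀ i, i < 174538 → fr i = true := below_step fr 174264 274 174538 ru635 rc636 rfl
theorem ru637 : ∀ i, i < 174812 → fr i = true := below_step fr 174538 274 174812 ru636 rc637 rfl
theorem ru638 : ∀ i, i < 175086 → fr i = true := below_step fr 174812 274 175086 ru637 rc638 rfl
theorem ru639 : ∀ i, i < 175360 → fr i = true := below_step fr 175086 274 175360 ru638 rc639 rfl
theorem ru640 : ∀ i, i < 175634 → fr i = true := below_step fr 175360 274 175634 ru639 rc640 rfl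
theorem ru641 : ∀ i, i < 175908 → fr i = true := below_step fr 175634 274 175908 ru640 rc641 rfl
theorem ru642 : ∀ i, i < 176182 → fr i = true := below_step fr 175908 274 176182 ru641 rc642 rfl
theorem ru643 : ∀ i, i < 176456 → fr i = true := below_step fr 176182 274 176456 ru642 rc643 rfl
theorem ru644 : ∀ i, i < 176730 → fr i = true := below_step fr 176456 274 176730 ru643 rc644 rfl
theorem ru645 : ∀ i, i < 177004 → fr i = true := below_step fr 176730 274 177004 ru644 rc645 rfl
theorem ru646 : ∀ i, i < 177278 → fr i = true := below_step fr 177004 274 177278 ru645 rc646 rfl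
theorem ru647 : ∀ i, i < 177552 → fr i = true := below_step fr 177278 274 177552 ru646 rc647 rfl
theorem ru648 : ∀ i, i < 177826 → fr i = true := below_step fr 177552 274 177826 ru647 rc648 rfl
theorem ru649 : ∀ i, i < 178100 → fr i = true := below_step fr 177826 274 178100 ru648 rc649 rfl
theorem ru650 : ∀ i, i < 178374 → fr i = true := below_step fr 178100 274 178374 ru649 rc650 rfl
theorem ru651 : ∀ i, i < 178648 → fr i = true := below_step fr 178374 274 178648 ru650 rc651 rfl
theorem ru652 : ∀ i, i < 178922 → fr i = true := below_step fr 178648 274 178922 ru651 rc652 rfl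
theorem ru653 : ∀ i, i < 179196 → fr i = true := below_step fr 178922 274 179196 ru652 rc653 rfl
theorem ru654 : ∀ i, i < 179470 → fr i = true := below_step fr 179196 274 179470 ru653 rc654 rfl
theorem ru655 : ∀ i, i < 179744 → fr i = true := below_step fr 179470 274 179744 ru654 rc655 rfl
theorem ru656 : ∀ i, i < 180018 → fr i = true := below_step fr 179744 274 180018 ru655 rc656 rfl
theorem ru657 : ∀ i, i < 180292 → fr i = true := below_step fr 180018 274 180292 ru656 rc657 rfl
theorem ru658 : ∀ i, i < 180566 → fr i = true := below_step fr 180292 274 180566 ru657 rc658 rfl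
theorem ru659 : ∀ i, i < 180840 → fr i = true := below_step fr 180566 274 180840 ru658 rc659 rfl
theorem ru660 : ∀ i, i < 181114 → fr i = true := below_step fr 180840 274 181114 ru659 rc660 rfl
theorem ru661 : ∀ i, i < 181388 → fr i = true := below_step fr 181114 274 181388 ru660 rc661 rfl
theorem ru662 : ∀ i, i < 181662 → fr i = true := below_step fr 181388 274 181662 ru661 rc662 rfl
theorem ru663 : ∀ i, i < 181936 → fr i = true := below_step fr 181662 274 181936 ru662 rc663 rfl
theorem ru664 : ∀ i, i < 182210 → fr i = true := below_step fr 181936 274 182210 ru663 rc664 rfl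
theorem ru665 : ∀ i, i < 182484 → fr i = true := below_step fr 182210 274 182484 ru664 rc665 rfl
theorem ru666 : ∀ i, i < 182758 → fr i = true := below_step fr 182484 274 182758 ru665 rc666 rfl
theorem ru667 : ∀ i, i < 183032 → fr i = true := below_step fr 182758 274 183032 ru666 rc667 rfl
theorem ru668 : ∀ i, i < 183306 → fr i = true := below_step fr 183032 274 183306 ru667 rc668 rfl
theorem ru669 : ∀ i, i < 183580 → fr i = true := below_step fr 183306 274 183580 ru668 rc669 rfl
theorem ru670 : ∀ i, i < 183854 → fr i = true := below_step fr 183580 274 183854 ru669 rc670 rfl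
theorem ru671 : ∀ i, i < 184128 → fr i = true := below_step fr 183854 274 184128 ru670 rc671 rfl
theorem ru672 : ∀ i, i < 184402 → fr i = true := below_step fr 184128 274 184402 ru671 rc672 rfl
theorem ru673 : ∀ i, i < 184676 → fr i = true := below_step fr 184402 274 184676 ru672 rc673 rfl
theorem ru674 : ∀ i, i < 184950 → fr i = true := below_step fr 184676 274 184950 ru673 rc674 rfl
theorem ru675 : ∀ i, i < 185224 → fr i = true := below_step fr 184950 274 185224 ru674 rc675 rfl
theorem ru676 : ∀ i, i < 185498 → fr i = true := below_step fr 185224 274 185498 ru675 rc676 rfl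
theorem ru677 : ∀ i, i < 185772 → fr i = true := below_step fr 185498 274 185772 ru676 rc677 rfl
theorem ru678 : ∀ i, i < 186046 → fr i = true := below_step fr 185772 274 186046 ru677 rc678 rfl
theorem ru679 : ∀ i, i < 186320 → fr i = true := below_step fr 186046 274 186320 ru678 rc679 rfl
theorem ru680 : ∀ i, i < 186594 → fr i = true := below_step fr 186320 274 186594 ru679 rc680 rfl
theorem ru681 : ∀ i, i < 186868 → fr i = true := below_step fr 186594 274 186868 ru680 rc681 rfl
theorem ru682 : ∀ i, i < 187142 → fr i = true := below_step fr 186868 274 187142 ru681 rc682 rfl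
theorem ru683 : ∀ i, i < 187416 → fr i = true := below_step fr 187142 274 187416 ru682 rc683 rfl
theorem ru684 : ∀ i, i < 187690 → fr i = true := below_step fr 187416 274 187690 ru683 rc684 rfl
theorem ru685 : ∀ i, i < 187964 → fr i = true := below_step fr 187690 274 187964 ru684 rc685 rfl
theorem ru686 : ∀ i, i < 188238 → fr i = true := below_step fr 187964 274 188238 ru685 rc686 rfl
theorem ru687 : ∀ i, i < 188512 → fr i = true := below_step fr 188238 274 188512 ru686 rc687 rfl
theorem ru688 : ∀ i, i < 188786 → fr i = true := below_step fr 188512 274 188786 ru687 rc688 rfl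
theorem ru689 : ∀ i, i < 189060 → fr i = true := below_step fr 188786 274 189060 ru688 rc689 rfl
theorem ru690 : ∀ i, i < 189334 → fr i = true := below_step fr 189060 274 189334 ru689 rc690 rfl
theorem ru691 : ∀ i, i < 189608 → fr i = true := below_step fr 189334 274 189608 ru690 rc691 rfl
theorem ru692 : ∀ i, i < 189882 → fr i = true := below_step fr 189608 274 189882 ru691 rc692 rfl
theorem ru693 : ∀ i, i < 190156 → fr i = true := below_step fr 189882 274 190156 ru692 rc693 rfl
theorem ru694 : ∀ i, i < 190430 → fr i = true := below_step fr 190156 274 190430 ru693 rc694 rfl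
theorem ru695 : ∀ i, i < 190704 → fr i = true := below_step fr 190430 274 190704 ru694 rc695 rfl
theorem ru696 : ∀ i, i < 190978 → fr i = true := below_step fr 190704 274 190978 ru695 rc696 rfl
theorem ru697 : ∀ i, i < 191252 → fr i = true := below_step fr 190978 274 191252 ru696 rc697 rfl
theorem ru698 : ∀ i, i < 191526 → fr i = true := below_step fr 191252 274 191526 ru697 rc698 rfl
theorem ru699 : ∀ i, i < 191800 → fr i = true := below_step fr 191526 274 191800 ru698 rc699 rfl
theorem ru700 : ∀ i, i < 192074 → fr i = true := below_step fr 191800 274 192074 ru699 rc700 rfl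
theorem ru701 : ∀ i, i < 192348 → fr i = true := below_step fr 192074 274 192348 ru700 rc701 rfl
theorem ru702 : ∀ i, i < 192622 → fr i = true := below_step fr 192348 274 192622 ru701 rc702 rfl
theorem ru703 : ∀ i, i < 192896 → fr i = true := below_step fr 192622 274 192896 ru702 rc703 rfl
theorem ru704 : ∀ i, i < 193170 → fr i = true := below_step fr 192896 274 193170 ru703 rc704 rfl
theorem ru705 : ∀ i, i < 193444 → fr i = true := below_step fr 193170 274 193444 ru704 rc705 rfl
theorem ru706 : ∀ i, i < 193718 → fr i = true := below_step fr 193444 274 193718 ru705 rc706 rfl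
theorem ru707 : ∀ i, i < 193992 → fr i = true := below_step fr 193718 274 193992 ru706 rc707 rfl
theorem ru708 : ∀ i, i < 194266 → fr i = true := below_step fr 193992 274 194266 ru707 rc708 rfl
theorem ru709 : ∀ i, i < 194540 → fr i = true := below_step fr 194266 274 194540 ru708 rc709 rfl
theorem ru710 : ∀ i, i < 194814 → fr i = true := below_step fr 194540 274 194814 ru709 rc710 rfl
theorem ru711 : ∀ i, i < 195088 → fr i = true := below_step fr 194814 274 195088 ru710 rc711 rfl
theorem ru712 : ∀ i, i < 195362 → fr i = true := below_step fr 195088 274 195362 ru711 rc712 rfl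
theorem ru713 : ∀ i, i < 195636 → fr i = true := below_step fr 195362 274 195636 ru712 rc713 rfl
theorem ru714 : ∀ i, i < 195910 → fr i = true := below_step fr 195636 274 195910 ru713 rc714 rfl
theorem ru715 : ∀ i, i < 196184 → fr i = true := below_step fr 195910 274 196184 ru714 rc715 rfl
theorem ru716 : ∀ i, i < 196458 → fr i = true := below_step fr 196184 274 196458 ru715 rc716 rfl
theorem ru717 : ∀ i, i < 196732 → fr i = true := below_step fr 196458 274 196732 ru716 rc717 rfl
theorem ru718 : ∀ i, i < 197006 → fr i = true := below_step fr 196732 274 197006 ru717 rc718 rfl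
theorem ru719 : ∀ i, i < 197280 → fr i = true := below_step fr 197006 274 197280 ru718 rc719 rfl
theorem ru720 : ∀ i, i < 197554 → fr i = true := below_step fr 197280 274 197554 ru719 rc720 rfl
theorem ru721 : ∀ i, i < 197828 → fr i = true := below_step fr 197554 274 197828 ru720 rc721 rfl
theorem ru722 : ∀ i, i < 198102 → fr i = true := below_step fr 197828 274 198102 ru721 rc722 rfl
theorem ru723 : ∀ i, i < 198376 → fr i = true := below_step fr 198102 274 198376 ru722 rc723 rfl
theorem ru724 : ∀ i, i < 198650 → fr i = true := below_step fr 198376 274 198650 ru723 rc724 rfl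
theorem ru725 : ∀ i, i < 198924 → fr i = true := below_step fr 198650 274 198924 ru724 rc725 rfl
theorem ru726 : ∀ i, i < 199198 → fr i = true := below_step fr 198924 274 199198 ru725 rc726 rfl
theorem ru727 : ∀ i, i < 199472 → fr i = true := below_step fr 199198 274 199472 ru726 rc727 rfl
theorem ru728 : ∀ i, i < 199746 → fr i = true := below_step fr 199472 274 199746 ru727 rc728 rfl
theorem ru729 : ∀ i, i < 200020 → fr i = true := below_step fr 199746 274 200020 ru728 rc729 rfl
theorem ru730 : ∀ i, i < 200294 → fr i = true := below_step fr 200020 274 200294 ru729 rc730 rfl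
theorem ru731 : ∀ i, i < 200568 → fr i = true := below_step fr 200294 274 200568 ru730 rc731 rfl
theorem ru732 : ∀ i, i < 200842 → fr i = true := below_step fr 200568 274 200842 ru731 rc732 rfl
theorem ru733 : ∀ i, i < 201116 → fr i = true := below_step fr 200842 274 201116 ru732 rc733 rfl
theorem ru734 : ∀ i, i < 201390 → fr i = true := below_step fr 201116 274 201390 ru733 rc734 rfl
theorem ru735 : ∀ i, i < 201664 → fr i = true := below_step fr 201390 274 201664 ru734 rc735 rfl
theorem ru736 : ∀ i, i < 201938 → fr i = true := below_step fr 201664 274 201938 ru735 rc736 rfl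
theorem ru737 : ∀ i, i < 202212 → fr i = true := below_step fr 201938 274 202212 ru736 rc737 rfl
theorem ru738 : ∀ i, i < 202486 → fr i = true := below_step fr 202212 274 202486 ru737 rc738 rfl
theorem ru739 : ∀ i, i < 202760 → fr i = true := below_step fr 202486 274 202760 ru738 rc739 rfl
theorem ru740 : ∀ i, i < 203034 → fr i = true := below_step fr 202760 274 203034 ru739 rc740 rfl
theorem ru741 : ∀ i, i < 203308 → fr i = true := below_step fr 203034 274 203308 ru740 rc741 rfl
theorem ru742 : ∀ i, i < 203582 → fr i = true := below_step fr 203308 274 203582 ru741 rc742 rfl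
theorem ru743 : ∀ i, i < 203856 → fr i = true := below_step fr 203582 274 203856 ru742 rc743 rfl
theorem ru744 : ∀ i, i < 204130 → fr i = true := below_step fr 203856 274 204130 ru743 rc744 rfl
theorem ru745 : ∀ i, i < 204404 → fr i = true := below_step fr 204130 274 204404 ru744 rc745 rfl
theorem ru746 : ∀ i, i < 204678 → fr i = true := below_step fr 204404 274 204678 ru745 rc746 rfl
theorem ru747 : ∀ i, i < 204952 → fr i = true := below_step fr 204678 274 204952 ru746 rc747 rfl
theorem ru748 : ∀ i, i < 205226 → fr i = true := below_step fr 204952 274 205226 ru747 rc748 rfl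
theorem ru749 : ∀ i, i < 205500 → fr i = true := below_step fr 205226 274 205500 ru748 rc749 rfl
theorem ru750 : ∀ i, i < 205774 → fr i = true := below_step fr 205500 274 205774 ru749 rc750 rfl
theorem ru751 : ∀ i, i < 206048 → fr i = true := below_step fr 205774 274 206048 ru750 rc751 rfl
theorem ru752 : ∀ i, i < 206322 → fr i = true := below_step fr 206048 274 206322 ru751 rc752 rfl
theorem ru753 : ∀ i, i < 206596 → fr i = true := below_step fr 206322 274 206596 ru752 rc753 rfl
theorem ru754 : ∀ i, i < 206870 → fr i = true := below_step fr 206596 274 206870 ru753 rc754 rfl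
theorem ru755 : ∀ i, i < 207144 → fr i = true := below_step fr 206870 274 207144 ru754 rc755 rfl
theorem ru756 : ∀ i, i < 207418 → fr i = true := below_step fr 207144 274 207418 ru755 rc756 rfl
theorem ru757 : ∀ i, i < 207692 → fr i = true := below_step fr 207418 274 207692 ru756 rc757 rfl
theorem ru758 : ∀ i, i < 207966 → fr i = true := below_step fr 207692 274 207966 ru757 rc758 rfl
theorem ru759 : ∀ i, i < 208240 → fr i = true := below_step fr 207966 274 208240 ru758 rc759 rfl
theorem ru760 : ∀ i, i < 208514 → fr i = true := below_step fr 208240 274 208514 ru759 rc760 rfl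
theorem ru761 : ∀ i, i < 208788 → fr i = true := below_step fr 208514 274 208788 ru760 rc761 rfl
theorem ru762 : ∀ i, i < 209062 → fr i = true := below_step fr 208788 274 209062 ru761 rc762 rfl
theorem ru763 : ∀ i, i < 209336 → fr i = true := below_step fr 209062 274 209336 ru762 rc763 rfl
theorem ru764 : ∀ i, i < 209610 → fr i = true := below_step fr 209336 274 209610 ru763 rc764 rfl
theorem ru765 : ∀ i, i < 209884 → fr i = true := below_step fr 209610 274 209884 ru764 rc765 rfl
theorem ru766 : ∀ i, i < 210158 → fr i = true := below_step fr 209884 274 210158 ru765 rc766 rfl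
theorem ru767 : ∀ i, i < 210432 → fr i = true := below_step fr 210158 274 210432 ru766 rc767 rfl
theorem ru768 : ∀ i, i < 210706 → fr i = true := below_step fr 210432 274 210706 ru767 rc768 rfl
theorem ru769 : ∀ i, i < 210980 → fr i = true := below_step fr 210706 274 210980 ru768 rc769 rfl
theorem ru770 : ∀ i, i < 211254 → fr i = true := below_step fr 210980 274 211254 ru769 rc770 rfl
theorem ru771 : ∀ i, i < 211528 → fr i = true := below_step fr 211254 274 211528 ru770 rc771 rfl
theorem ru772 : ∀ i, i < 211802 → fr i = true := below_step fr 211528 274 211802 ru771 rc772 rfl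
theorem ru773 : ∀ i, i < 212076 → fr i = true := below_step fr 211802 274 212076 ru772 rc773 rfl
theorem ru774 : ∀ i, i < 212350 → fr i = true := below_step fr 212076 274 212350 ru773 rc774 rfl
theorem ru775 : ∀ i, i < 212624 → fr i = true := below_step fr 212350 274 212624 ru774 rc775 rfl
theorem ru776 : ∀ i, i < 212898 → fr i = true := below_step fr 212624 274 212898 ru775 rc776 rfl
theorem ru777 : ∀ i, i < 213172 → fr i = true := below_step fr 212898 274 213172 ru776 rc777 rfl
theorem ru778 : ∀ i, i < 213446 → fr i = true := below_step fr 213172 274 213446 ru777 rc778 rfl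
theorem ru779 : ∀ i, i < 213720 → fr i = true := below_step fr 213446 274 213720 ru778 rc779 rfl
theorem ru780 : ∀ i, i < 213994 → fr i = true := below_step fr 213720 274 213994 ru779 rc780 rfl
theorem ru781 : ∀ i, i < 214268 → fr i = true := below_step fr 213994 274 214268 ru780 rc781 rfl
theorem ru782 : ∀ i, i < 214542 → fr i = true := below_step fr 214268 274 214542 ru781 rc782 rfl
theorem ru783 : ∀ i, i < 214816 → fr i = true := below_step fr 214542 274 214816 ru782 rc783 rfl
theorem ru784 : ∀ i, i < 215090 → fr i = true := below_step fr 214816 274 215090 ru783 rc784 rfl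
theorem ru785 : ∀ i, i < 215364 → fr i = true := below_step fr 215090 274 215364 ru784 rc785 rfl
theorem ru786 : ∀ i, i < 215638 → fr i = true := below_step fr 215364 274 215638 ru785 rc786 rfl
theorem ru787 : ∀ i, i < 215912 → fr i = true := below_step fr 215638 274 215912 ru786 rc787 rfl
theorem ru788 : ∀ i, i < 216186 → fr i = true := below_step fr 215912 274 216186 ru787 rc788 rfl
theorem ru789 : ∀ i, i < 216460 → fr i = true := below_step fr 216186 274 216460 ru788 rc789 rfl
theorem ru790 : ∀ i, i < 216734 → fr i = true := below_step fr 216460 274 216734 ru789 rc790 rfl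
theorem ru791 : ∀ i, i < 217008 → fr i = true := below_step fr 216734 274 217008 ru790 rc791 rfl
theorem ru792 : ∀ i, i < 217282 → fr i = true := below_step fr 217008 274 217282 ru791 rc792 rfl
theorem ru793 : ∀ i, i < 217556 → fr i = true := below_step fr 217282 274 217556 ru792 rc793 rfl
theorem ru794 : ∀ i, i < 217830 → fr i = true := below_step fr 217556 274 217830 ru793 rc794 rfl
theorem ru795 : ∀ i, i < 218104 → fr i = true := below_step fr 217830 274 218104 ru794 rc795 rfl
theorem ru796 : ∀ i, i < 218378 → fr i = true := below_step fr 218104 274 218378 ru795 rc796 rfl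
theorem ru797 : ∀ i, i < 218652 → fr i = true := below_step fr 218378 274 218652 ru796 rc797 rfl
theorem ru798 : ∀ i, i < 218926 → fr i = true := below_step fr 218652 274 218926 ru797 rc798 rfl
theorem ru799 : ∀ i, i < 219200 → fr i = true := below_step fr 218926 274 219200 ru798 rc799 rfl
theorem ru800 : ∀ i, i < 219474 → fr i = true := below_step fr 219200 274 219474 ru799 rc800 rfl
theorem ru801 : ∀ i, i < 219748 → fr i = true := below_step fr 219474 274 219748 ru800 rc801 rfl
theorem ru802 : ∀ i, i < 220022 → fr i = true := below_step fr 219748 274 220022 ru801 rc802 rfl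
theorem ru803 : ∀ i, i < 220296 → fr i = true := below_step fr 220022 274 220296 ru802 rc803 rfl
theorem ru804 : ∀ i, i < 220570 → fr i = true := below_step fr 220296 274 220570 ru803 rc804 rfl
theorem ru805 : ∀ i, i < 220844 → fr i = true := below_step fr 220570 274 220844 ru804 rc805 rfl
theorem ru806 : ∀ i, i < 221118 → fr i = true := below_step fr 220844 274 221118 ru805 rc806 rfl
theorem ru807 : ∀ i, i < 221392 → fr i = true := below_step fr 221118 274 221392 ru806 rc807 rfl
theorem ru808 : ∀ i, i < 221666 → fr i = true := below_step fr 221392 274 221666 ru807 rc808 rfl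
theorem ru809 : ∀ i, i < 221940 → fr i = true := below_step fr 221666 274 221940 ru808 rc809 rfl
theorem ru810 : ∀ i, i < 222214 → fr i = true := below_step fr 221940 274 222214 ru809 rc810 rfl
theorem ru811 : ∀ i, i < 222488 → fr i = true := below_step fr 222214 274 222488 ru810 rc811 rfl
theorem ru812 : ∀ i, i < 222762 → fr i = true := below_step fr 222488 274 222762 ru811 rc812 rfl
theorem ru813 : ∀ i, i < 223036 → fr i = true := below_step fr 222762 274 223036 ru812 rc813 rfl
theorem ru814 : ∀ i, i < 223310 → fr i = true := below_step fr 223036 274 223310 ru813 rc814 rfl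
theorem ru815 : ∀ i, i < 223584 → fr i = true := below_step fr 223310 274 223584 ru814 rc815 rfl
theorem ru816 : ∀ i, i < 223858 → fr i = true := below_step fr 223584 274 223858 ru815 rc816 rfl
theorem ru817 : ∀ i, i < 224132 → fr i = true := below_step fr 223858 274 224132 ru816 rc817 rfl
theorem ru818 : ∀ i, i < 224406 → fr i = true := below_step fr 224132 274 224406 ru817 rc818 rfl
theorem ru819 : ∀ i, i < 224680 → fr i = true := below_step fr 224406 274 224680 ru818 rc819 rfl
theorem ru820 : ∀ i, i < 224954 → fr i = true := below_step fr 224680 274 224954 ru819 rc820 rfl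
theorem ru821 : ∀ i, i < 225228 → fr i = true := below_step fr 224954 274 225228 ru820 rc821 rfl
theorem ru822 : ∀ i, i < 225502 → fr i = true := below_step fr 225228 274 225502 ru821 rc822 rfl
theorem ru823 : ∀ i, i < 225776 → fr i = true := below_step fr 225502 274 225776 ru822 rc823 rfl
theorem ru824 : ∀ i, i < 226050 → fr i = true := below_step fr 225776 274 226050 ru823 rc824 rfl
theorem ru825 : ∀ i, i < 226324 → fr i = true := below_step fr 226050 274 226324 ru824 rc825 rfl
theorem ru826 : ∀ i, i < 226598 → fr i = true := below_step fr 226324 274 226598 ru825 rc826 rfl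
theorem ru827 : ∀ i, i < 226872 → fr i = true := below_step fr 226598 274 226872 ru826 rc827 rfl
theorem ru828 : ∀ i, i < 227146 → fr i = true := below_step fr 226872 274 227146 ru827 rc828 rfl
theorem ru829 : ∀ i, i < 227420 → fr i = true := below_step fr 227146 274 227420 ru828 rc829 rfl
theorem ru830 : ∀ i, i < 227694 → fr i = true := below_step fr 227420 274 227694 ru829 rc830 rfl
theorem ru831 : ∀ i, i < 227968 → fr i = true := below_step fr 227694 274 227968 ru830 rc831 rfl
theorem ru832 : ∀ i, i < 228242 → fr i = true := below_step fr 227968 274 228242 ru831 rc832 rfl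
theorem ru833 : ∀ i, i < 228516 → fr i = true := below_step fr 228242 274 228516 ru832 rc833 rfl
theorem ru834 : ∀ i, i < 228790 → fr i = true := below_step fr 228516 274 228790 ru833 rc834 rfl
theorem ru835 : ∀ i, i < 229064 → fr i = true := below_step fr 228790 274 229064 ru834 rc835 rfl
theorem ru836 : ∀ i, i < 229338 → fr i = true := below_step fr 229064 274 229338 ru835 rc836 rfl
theorem ru837 : ∀ i, i < 229612 → fr i = true := below_step fr 229338 274 229612 ru836 rc837 rfl
theorem ru838 : ∀ i, i < 229886 → fr i = true := below_step fr 229612 274 229886 ru837 rc838 rfl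
theorem ru839 : ∀ i, i < 230160 → fr i = true := below_step fr 229886 274 230160 ru838 rc839 rfl
theorem ru840 : ∀ i, i < 230434 → fr i = true := below_step fr 230160 274 230434 ru839 rc840 rfl
theorem ru841 : ∀ i, i < 230708 → fr i = true := below_step fr 230434 274 230708 ru840 rc841 rfl
theorem ru842 : ∀ i, i < 230982 → fr i = true := below_step fr 230708 274 230982 ru841 rc842 rfl
theorem ru843 : ∀ i, i < 231256 → fr i = true := below_step fr 230982 274 231256 ru842 rc843 rfl
theorem ru844 : ∀ i, i < 231530 → fr i = true := below_step fr 231256 274 231530 ru843 rc844 rfl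
theorem ru845 : ∀ i, i < 231804 → fr i = true := below_step fr 231530 274 231804 ru844 rc845 rfl
theorem ru846 : ∀ i, i < 232078 → fr i = true := below_step fr 231804 274 232078 ru845 rc846 rfl
theorem ru847 : ∀ i, i < 232352 → fr i = true := below_step fr 232078 274 232352 ru846 rc847 rfl
theorem ru848 : ∀ i, i < 232626 → fr i = true := below_step fr 232352 274 232626 ru847 rc848 rfl
theorem ru849 : ∀ i, i < 232900 → fr i = true := below_step fr 232626 274 232900 ru848 rc849 rfl
theorem ru850 : ∀ i, i < 233174 → fr i = true := below_step fr 232900 274 233174 ru849 rc850 rfl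
theorem ru851 : ∀ i, i < 233448 → fr i = true := below_step fr 233174 274 233448 ru850 rc851 rfl
theorem ru852 : ∀ i, i < 233722 → fr i = true := below_step fr 233448 274 233722 ru851 rc852 rfl
theorem ru853 : ∀ i, i < 233996 → fr i = true := below_step fr 233722 274 233996 ru852 rc853 rfl
theorem ru854 : ∀ i, i < 234270 → fr i = true := below_step fr 233996 274 234270 ru853 rc854 rfl
theorem ru855 : ∀ i, i < 234544 → fr i = true := below_step fr 234270 274 234544 ru854 rc855 rfl
theorem ru856 : ∀ i, i < 234818 → fr i = true := below_step fr 234544 274 234818 ru855 rc856 rfl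
theorem ru857 : ∀ i, i < 235092 → fr i = true := below_step fr 234818 274 235092 ru856 rc857 rfl
theorem ru858 : ∀ i, i < 235366 → fr i = true := below_step fr 235092 274 235366 ru857 rc858 rfl
theorem ru859 : ∀ i, i < 235640 → fr i = true := below_step fr 235366 274 235640 ru858 rc859 rfl
theorem ru860 : ∀ i, i < 235914 → fr i = true := below_step fr 235640 274 235914 ru859 rc860 rfl
theorem ru861 : ∀ i, i < 236188 → fr i = true := below_step fr 235914 274 236188 ru860 rc861 rfl
theorem ru862 : ∀ i, i < 236462 → fr i = true := below_step fr 236188 274 236462 ru861 rc862 rfl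
theorem ru863 : ∀ i, i < 236736 → fr i = true := below_step fr 236462 274 236736 ru862 rc863 rfl
theorem ru864 : ∀ i, i < 237010 → fr i = true := below_step fr 236736 274 237010 ru863 rc864 rfl
theorem ru865 : ∀ i, i < 237284 → fr i = true := below_step fr 237010 274 237284 ru864 rc865 rfl
theorem ru866 : ∀ i, i < 237558 → fr i = true := below_step fr 237284 274 237558 ru865 rc866 rfl
theorem ru867 : ∀ i, i < 237832 → fr i = true := below_step fr 237558 274 237832 ru866 rc867 rfl
theorem ru868 : ∀ i, i < 238106 → fr i = true := below_step fr 237832 274 238106 ru867 rc868 rfl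
theorem ru869 : ∀ i, i < 238380 → fr i = true := below_step fr 238106 274 238380 ru868 rc869 rfl
theorem ru870 : ∀ i, i < 238654 → fr i = true := below_step fr 238380 274 238654 ru869 rc870 rfl
theorem ru871 : ∀ i, i < 238928 → fr i = true := below_step fr 238654 274 238928 ru870 rc871 rfl
theorem ru872 : ∀ i, i < 239202 → fr i = true := below_step fr 238928 274 239202 ru871 rc872 rfl
theorem ru873 : ∀ i, i < 239476 → fr i = true := below_step fr 239202 274 239476 ru872 rc873 rfl
theorem ru874 : ∀ i, i < 239750 → fr i = true := below_step fr 239476 274 239750 ru873 rc874 rfl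
theorem ru875 : ∀ i, i < 240024 → fr i = true := below_step fr 239750 274 240024 ru874 rc875 rfl
theorem ru876 : ∀ i, i < 240298 → fr i = true := below_step fr 240024 274 240298 ru875 rc876 rfl
theorem ru877 : ∀ i, i < 240572 → fr i = true := below_step fr 240298 274 240572 ru876 rc877 rfl
theorem ru878 : ∀ i, i < 240846 → fr i = true := below_step fr 240572 274 240846 ru877 rc878 rfl
theorem ru879 : ∀ i, i < 241120 → fr i = true := below_step fr 240846 274 241120 ru878 rc879 rfl
theorem ru880 : ∀ i, i < 241394 → fr i = true := below_step fr 241120 274 241394 ru879 rc880 rfl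
theorem ru881 : ∀ i, i < 241668 → fr i = true := below_step fr 241394 274 241668 ru880 rc881 rfl
theorem ru882 : ∀ i, i < 241942 → fr i = true := below_step fr 241668 274 241942 ru881 rc882 rfl
theorem ru883 : ∀ i, i < 242216 → fr i = true := below_step fr 241942 274 242216 ru882 rc883 rfl
theorem ru884 : ∀ i, i < 242490 → fr i = true := below_step fr 242216 274 242490 ru883 rc884 rfl
theorem ru885 : ∀ i, i < 242764 → fr i = true := below_step fr 242490 274 242764 ru884 rc885 rfl
theorem ru886 : ∀ i, i < 243038 → fr i = true := below_step fr 242764 274 243038 ru885 rc886 rfl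
theorem ru887 : ∀ i, i < 243312 → fr i = true := below_step fr 243038 274 243312 ru886 rc887 rfl
theorem ru888 : ∀ i, i < 243586 → fr i = true := below_step fr 243312 274 243586 ru887 rc888 rfl
theorem ru889 : ∀ i, i < 243860 → fr i = true := below_step fr 243586 274 243860 ru888 rc889 rfl
theorem ru890 : ∀ i, i < 244134 → fr i = true := below_step fr 243860 274 244134 ru889 rc890 rfl
theorem ru891 : ∀ i, i < 244408 → fr i = true := below_step fr 244134 274 244408 ru890 rc891 rfl
theorem ru892 : ∀ i, i < 244682 → fr i = true := below_step fr 244408 274 244682 ru891 rc892 rfl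
theorem ru893 : ∀ i, i < 244956 → fr i = true := below_step fr 244682 274 244956 ru892 rc893 rfl
theorem ru894 : ∀ i, i < 245230 → fr i = true := below_step fr 244956 274 245230 ru893 rc894 rfl
theorem ru895 : ∀ i, i < 245504 → fr i = true := below_step fr 245230 274 245504 ru894 rc895 rfl
theorem ru896 : ∀ i, i < 245778 → fr i = true := below_step fr 245504 274 245778 ru895 rc896 rfl
theorem ru897 : ∀ i, i < 246052 → fr i = true := below_step fr 245778 274 246052 ru896 rc897 rfl
theorem ru898 : ∀ i, i < 246326 → fr i = true := below_step fr 246052 274 246326 ru897 rc898 rfl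
theorem ru899 : ∀ i, i < 246600 → fr i = true := below_step fr 246326 274 246600 ru898 rc899 rfl
theorem ru900 : ∀ i, i < 246874 → fr i = true := below_step fr 246600 274 246874 ru899 rc900 rfl
theorem ru901 : ∀ i, i < 247148 → fr i = true := below_step fr 246874 274 247148 ru900 rc901 rfl
theorem ru902 : ∀ i, i < 247422 → fr i = true := below_step fr 247148 274 247422 ru901 rc902 rfl
theorem ru903 : ∀ i, i < 247696 → fr i = true := below_step fr 247422 274 247696 ru902 rc903 rfl
theorem ru904 : ∀ i, i < 247970 → fr i = true := below_step fr 247696 274 247970 ru903 rc904 rfl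
theorem ru905 : ∀ i, i < 248244 → fr i = true := below_step fr 247970 274 248244 ru904 rc905 rfl
theorem ru906 : ∀ i, i < 248518 → fr i = true := below_step fr 248244 274 248518 ru905 rc906 rfl
theorem ru907 : ∀ i, i < 248792 → fr i = true := below_step fr 248518 274 248792 ru906 rc907 rfl
theorem ru908 : ∀ i, i < 249066 → fr i = true := below_step fr 248792 274 249066 ru907 rc908 rfl
theorem ru909 : ∀ i, i < 249340 → fr i = true := below_step fr 249066 274 249340 ru908 rc909 rfl
theorem ru910 : ∀ i, i < 249614 → fr i = true := below_step fr 249340 274 249614 ru909 rc910 rfl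
theorem ru911 : ∀ i, i < 249888 → fr i = true := below_step fr 249614 274 249888 ru910 rc911 rfl
theorem ru912 : ∀ i, i < 250162 → fr i = true := below_step fr 249888 274 250162 ru911 rc912 rfl
theorem ru913 : ∀ i, i < 250436 → fr i = true := below_step fr 250162 274 250436 ru912 rc913 rfl
theorem ru914 : ∀ i, i < 250710 → fr i = true := below_step fr 250436 274 250710 ru913 rc914 rfl
theorem ru915 : ∀ i, i < 250984 → fr i = true := below_step fr 250710 274 250984 ru914 rc915 rfl
theorem ru916 : ∀ i, i < 251258 → fr i = true := below_step fr 250984 274 251258 ru915 rc916 rfl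
theorem ru917 : ∀ i, i < 251532 → fr i = true := below_step fr 251258 274 251532 ru916 rc917 rfl
theorem ru918 : ∀ i, i < 251806 → fr i = true := below_step fr 251532 274 251806 ru917 rc918 rfl
theorem ru919 : ∀ i, i < 252080 → fr i = true := below_step fr 251806 274 252080 ru918 rc919 rfl
theorem ru920 : ∀ i, i < 252354 → fr i = true := below_step fr 252080 274 252354 ru919 rc920 rfl
theorem ru921 : ∀ i, i < 252628 → fr i = true := below_step fr 252354 274 252628 ru920 rc921 rfl
theorem ru922 : ∀ i, i < 252902 → fr i = true := below_step fr 252628 274 252902 ru921 rc922 rfl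
theorem ru923 : ∀ i, i < 253176 → fr i = true := below_step fr 252902 274 253176 ru922 rc923 rfl
theorem ru924 : ∀ i, i < 253450 → fr i = true := below_step fr 253176 274 253450 ru923 rc924 rfl
theorem ru925 : ∀ i, i < 253724 → fr i = true := below_step fr 253450 274 253724 ru924 rc925 rfl
theorem ru926 : ∀ i, i < 253998 → fr i = true := below_step fr 253724 274 253998 ru925 rc926 rfl
theorem ru927 : ∀ i, i < 254272 → fr i = true := below_step fr 253998 274 254272 ru926 rc927 rfl
theorem ru928 : ∀ i, i < 254546 → fr i = true := below_step fr 254272 274 254546 ru927 rc928 rfl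
theorem ru929 : ∀ i, i < 254820 → fr i = true := below_step fr 254546 274 254820 ru928 rc929 rfl
theorem ru930 : ∀ i, i < 255094 → fr i = true := below_step fr 254820 274 255094 ru929 rc930 rfl
theorem ru931 : ∀ i, i < 255368 → fr i = true := below_step fr 255094 274 255368 ru930 rc931 rfl
theorem ru932 : ∀ i, i < 255642 → fr i = true := below_step fr 255368 274 255642 ru931 rc932 rfl
theorem ru933 : ∀ i, i < 255916 → fr i = true := below_step fr 255642 274 255916 ru932 rc933 rfl
theorem ru934 : ∀ i, i < 256190 → fr i = true := below_step fr 255916 274 256190 ru933 rc934 rfl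
theorem ru935 : ∀ i, i < 256464 → fr i = true := below_step fr 256190 274 256464 ru934 rc935 rfl
theorem ru936 : ∀ i, i < 256738 → fr i = true := below_step fr 256464 274 256738 ru935 rc936 rfl
theorem ru937 : ∀ i, i < 257012 → fr i = true := below_step fr 256738 274 257012 ru936 rc937 rfl
theorem ru938 : ∀ i, i < 257286 → fr i = true := below_step fr 257012 274 257286 ru937 rc938 rfl
theorem ru939 : ∀ i, i < 257560 → fr i = true := below_step fr 257286 274 257560 ru938 rc939 rfl
theorem ru940 : ∀ i, i < 257834 → fr i = true := below_step fr 257560 274 257834 ru939 rc940 rfl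
theorem ru941 : ∀ i, i < 258108 → fr i = true := below_step fr 257834 274 258108 ru940 rc941 rfl
theorem ru942 : ∀ i, i < 258382 → fr i = true := below_step fr 258108 274 258382 ru941 rc942 rfl
theorem ru943 : ∀ i, i < 258656 → fr i = true := below_step fr 258382 274 258656 ru942 rc943 rfl
theorem ru944 : ∀ i, i < 258930 → fr i = true := below_step fr 258656 274 258930 ru943 rc944 rfl
theorem ru945 : ∀ i, i < 259204 → fr i = true := below_step fr 258930 274 259204 ru944 rc945 rfl
theorem ru946 : ∀ i, i < 259478 → fr i = true := below_step fr 259204 274 259478 ru945 rc946 rfl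
theorem ru947 : ∀ i, i < 259752 → fr i = true := below_step fr 259478 274 259752 ru946 rc947 rfl
theorem ru948 : ∀ i, i < 260026 → fr i = true := below_step fr 259752 274 260026 ru947 rc948 rfl
theorem ru949 : ∀ i, i < 260300 → fr i = true := below_step fr 260026 274 260300 ru948 rc949 rfl
theorem ru950 : ∀ i, i < 260574 → fr i = true := below_step fr 260300 274 260574 ru949 rc950 rfl
theorem ru951 : ∀ i, i < 260848 → fr i = true := below_step fr 260574 274 260848 ru950 rc951 rfl
theorem ru952 : ∀ i, i < 261122 → fr i = true := below_step fr 260848 274 261122 ru951 rc952 rfl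
theorem ru953 : ∀ i, i < 261396 → fr i = true := below_step fr 261122 274 261396 ru952 rc953 rfl
theorem ru954 : ∀ i, i < 261670 → fr i = true := below_step fr 261396 274 261670 ru953 rc954 rfl
theorem ru955 : ∀ i, i < 261944 → fr i = true := below_step fr 261670 274 261944 ru954 rc955 rfl
theorem ru956 : ∀ i, i < 262218 → fr i = true := below_step fr 261944 274 262218 ru955 rc956 rfl
theorem ru957 : ∀ i, i < 262492 → fr i = true := below_step fr 262218 274 262492 ru956 rc957 rfl
theorem ru958 : ∀ i, i < 262766 → fr i = true := below_step fr 262492 274 262766 ru957 rc958 rfl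
theorem ru959 : ∀ i, i < 263040 → fr i = true := below_step fr 262766 274 263040 ru958 rc959 rfl
theorem ru960 : ∀ i, i < 263314 → fr i = true := below_step fr 263040 274 263314 ru959 rc960 rfl
theorem ru961 : ∀ i, i < 263588 → fr i = true := below_step fr 263314 274 263588 ru960 rc961 rfl
theorem ru962 : ∀ i, i < 263862 → fr i = true := below_step fr 263588 274 263862 ru961 rc962 rfl
theorem ru963 : ∀ i, i < 264136 → fr i = true := below_step fr 263862 274 264136 ru962 rc963 rfl
theorem ru964 : ∀ i, i < 264410 → fr i = true := below_step fr 264136 274 264410 ru963 rc964 rfl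
theorem ru965 : ∀ i, i < 264684 → fr i = true := below_step fr 264410 274 264684 ru964 rc965 rfl
theorem ru966 : ∀ i, i < 264958 → fr i = true := below_step fr 264684 274 264958 ru965 rc966 rfl
theorem ru967 : ∀ i, i < 265232 → fr i = true := below_step fr 264958 274 265232 ru966 rc967 rfl
theorem ru968 : ∀ i, i < 265506 → fr i = true := below_step fr 265232 274 265506 ru967 rc968 rfl
theorem ru969 : ∀ i, i < 265780 → fr i = true := below_step fr 265506 274 265780 ru968 rc969 rfl
theorem ru970 : ∀ i, i < 266054 → fr i = true := below_step fr 265780 274 266054 ru969 rc970 rfl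
theorem ru971 : ∀ i, i < 266328 → fr i = true := below_step fr 266054 274 266328 ru970 rc971 rfl
theorem ru972 : ∀ i, i < 266602 → fr i = true := below_step fr 266328 274 266602 ru971 rc972 rfl
theorem ru973 : ∀ i, i < 266876 → fr i = true := below_step fr 266602 274 266876 ru972 rc973 rfl
theorem ru974 : ∀ i, i < 267150 → fr i = true := below_step fr 266876 274 267150 ru973 rc974 rfl
theorem ru975 : ∀ i, i < 267424 → fr i = true := below_step fr 267150 274 267424 ru974 rc975 rfl
theorem ru976 : ∀ i, i < 267698 → fr i = true := below_step fr 267424 274 267698 ru975 rc976 rfl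
theorem ru977 : ∀ i, i < 267972 → fr i = true := below_step fr 267698 274 267972 ru976 rc977 rfl
theorem ru978 : ∀ i, i < 268246 → fr i = true := below_step fr 267972 274 268246 ru977 rc978 rfl
theorem ru979 : ∀ i, i < 268520 → fr i = true := below_step fr 268246 274 268520 ru978 rc979 rfl
theorem ru980 : ∀ i, i < 268794 → fr i = true := below_step fr 268520 274 268794 ru979 rc980 rfl
theorem ru981 : ∀ i, i < 269068 → fr i = true := below_step fr 268794 274 269068 ru980 rc981 rfl
theorem ru982 : ∀ i, i < 269342 → fr i = true := below_step fr 269068 274 269342 ru981 rc982 rfl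
theorem ru983 : ∀ i, i < 269616 → fr i = true := below_step fr 269342 274 269616 ru982 rc983 rfl
theorem ru984 : ∀ i, i < 269890 → fr i = true := below_step fr 269616 274 269890 ru983 rc984 rfl
theorem ru985 : ∀ i, i < 270164 → fr i = true := below_step fr 269890 274 270164 ru984 rc985 rfl
theorem ru986 : ∀ i, i < 270438 → fr i = true := below_step fr 270164 274 270438 ru985 rc986 rfl
theorem ru987 : ∀ i, i < 270712 → fr i = true := below_step fr 270438 274 270712 ru986 rc987 rfl
theorem ru988 : ∀ i, i < 270986 → fr i = true := below_step fr 270712 274 270986 ru987 rc988 rfl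
theorem ru989 : ∀ i, i < 271260 → fr i = true := below_step fr 270986 274 271260 ru988 rc989 rfl
theorem ru990 : ∀ i, i < 271534 → fr i = true := below_step fr 271260 274 271534 ru989 rc990 rfl
theorem ru991 : ∀ i, i < 271808 → fr i = true := below_step fr 271534 274 271808 ru990 rc991 rfl
theorem ru992 : ∀ i, i < 272082 → fr i = true := below_step fr 271808 274 272082 ru991 rc992 rfl
theorem ru993 : ∀ i, i < 272356 → fr i = true := below_step fr 272082 274 272356 ru992 rc993 rfl
theorem ru994 : ∀ i, i < 272630 → fr i = true := below_step fr 272356 274 272630 ru993 rc994 rfl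
theorem ru995 : ∀ i, i < 272904 → fr i = true := below_step fr 272630 274 272904 ru994 rc995 rfl
theorem ru996 : ∀ i, i < 273178 → fr i = true := below_step fr 272904 274 273178 ru995 rc996 rfl
theorem ru997 : ∀ i, i < 273452 → fr i = true := below_step fr 273178 274 273452 ru996 rc997 rfl
theorem ru998 : ∀ i, i < 273726 → fr i = true := below_step fr 273452 274 273726 ru997 rc998 rfl
theorem ru999 : ∀ i, i < 274000 → fr i = true := below_step fr 273726 274 274000 ru998 rc999 rfl
theorem ru1000 : ∀ i, i < 274274 → fr i = true := below_step fr 274000 274 274274 ru999 rc1000 rfl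
theorem ru1001 : ∀ i, i < 274548 → fr i = true := below_step fr 274274 274 274548 ru1000 rc1001 rfl
theorem ru1002 : ∀ i, i < 274822 → fr i = true := below_step fr 274548 274 274822 ru1001 rc1002 rfl
theorem ru1003 : ∀ i, i < 275096 → fr i = true := below_step fr 274822 274 275096 ru1002 rc1003 rfl
theorem ru1004 : ∀ i, i < 275370 → fr i = true := below_step fr 275096 274 275370 ru1003 rc1004 rfl
theorem ru1005 : ∀ i, i < 275644 → fr i = true := below_step fr 275370 274 275644 ru1004 rc1005 rfl
theorem ru1006 : ∀ i, i < 275918 → fr i = true := below_step fr 275644 274 275918 ru1005 rc1006 rfl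
theorem ru1007 : ∀ i, i < 276192 → fr i = true := below_step fr 275918 274 276192 ru1006 rc1007 rfl
theorem ru1008 : ∀ i, i < 276466 → fr i = true := below_step fr 276192 274 276466 ru1007 rc1008 rfl
theorem ru1009 : ∀ i, i < 276740 → fr i = true := below_step fr 276466 274 276740 ru1008 rc1009 rfl
theorem ru1010 : ∀ i, i < 277014 → fr i = true := below_step fr 276740 274 277014 ru1009 rc1010 rfl
theorem ru1011 : ∀ i, i < 277288 → fr i = true := below_step fr 277014 274 277288 ru1010 rc1011 rfl
theorem ru1012 : ∀ i, i < 277562 → fr i = true := below_step fr 277288 274 277562 ru1011 rc1012 rfl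
theorem ru1013 : ∀ i, i < 277836 → fr i = true := below_step fr 277562 274 277836 ru1012 rc1013 rfl
theorem ru1014 : ∀ i, i < 278110 → fr i = true := below_step fr 277836 274 278110 ru1013 rc1014 rfl
theorem ru1015 : ∀ i, i < 278384 → fr i = true := below_step fr 278110 274 278384 ru1014 rc1015 rfl
theorem ru1016 : ∀ i, i < 278658 → fr i = true := below_step fr 278384 274 278658 ru1015 rc1016 rfl
theorem ru1017 : ∀ i, i < 278932 → fr i = true := below_step fr 278658 274 278932 ru1016 rc1017 rfl
theorem ru1018 : ∀ i, i < 279206 → fr i = true := below_step fr 278932 274 279206 ru1017 rc1018 rfl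
theorem ru1019 : ∀ i, i < 279480 → fr i = true := below_step fr 279206 274 279480 ru1018 rc1019 rfl
theorem ru1020 : ∀ i, i < 279754 → fr i = true := below_step fr 279480 274 279754 ru1019 rc1020 rfl
theorem ru1021 : ∀ i, i < 280028 → fr i = true := below_step fr 279754 274 280028 ru1020 rc1021 rfl
theorem ru1022 : ∀ i, i < 280302 → fr i = true := below_step fr 280028 274 280302 ru1021 rc1022 rfl
theorem ru1023 : ∀ i, i < 280576 → fr i = true := below_step fr 280302 274 280576 ru1022 rc1023 rfl
theorem ru1024 : ∀ i, i < 280850 → fr i = true := below_step fr 280576 274 280850 ru1023 rc1024 rfl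
theorem ru1025 : ∀ i, i < 281124 → fr i = true := below_step fr 280850 274 281124 ru1024 rc1025 rfl
theorem ru1026 : ∀ i, i < 281398 → fr i = true := below_step fr 281124 274 281398 ru1025 rc1026 rfl
theorem ru1027 : ∀ i, i < 281672 → fr i = true := below_step fr 281398 274 281672 ru1026 rc1027 rfl
theorem ru1028 : ∀ i, i < 281946 → fr i = true := below_step fr 281672 274 281946 ru1027 rc1028 rfl
theorem ru1029 : ∀ i, i < 282220 → fr i = true := below_step fr 281946 274 282220 ru1028 rc1029 rfl
theorem ru1030 : ∀ i, i < 282494 → fr i = true := below_step fr 282220 274 282494 ru1029 rc1030 rfl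
theorem ru1031 : ∀ i, i < 282768 → fr i = true := below_step fr 282494 274 282768 ru1030 rc1031 rfl
theorem ru1032 : ∀ i, i < 283042 → fr i = true := below_step fr 282768 274 283042 ru1031 rc1032 rfl
theorem ru1033 : ∀ i, i < 283316 → fr i = true := below_step fr 283042 274 283316 ru1032 rc1033 rfl
theorem ru1034 : ∀ i, i < 283590 → fr i = true := below_step fr 283316 274 283590 ru1033 rc1034 rfl
theorem ru1035 : ∀ i, i < 283864 → fr i = true := below_step fr 283590 274 283864 ru1034 rc1035 rfl
theorem ru1036 : ∀ i, i < 284138 → fr i = true := below_step fr 283864 274 284138 ru1035 rc1036 rfl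
theorem ru1037 : ∀ i, i < 284412 → fr i = true := below_step fr 284138 274 284412 ru1036 rc1037 rfl
theorem ru1038 : ∀ i, i < 284686 → fr i = true := below_step fr 284412 274 284686 ru1037 rc1038 rfl
theorem ru1039 : ∀ i, i < 284960 → fr i = true := below_step fr 284686 274 284960 ru1038 rc1039 rfl
theorem ru1040 : ∀ i, i < 285234 → fr i = true := below_step fr 284960 274 285234 ru1039 rc1040 rfl
theorem ru1041 : ∀ i, i < 285508 → fr i = true := below_step fr 285234 274 285508 ru1040 rc1041 rfl
theorem ru1042 : ∀ i, i < 285782 → fr i = true := below_step fr 285508 274 285782 ru1041 rc1042 rfl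
theorem ru1043 : ∀ i, i < 286056 → fr i = true := below_step fr 285782 274 286056 ru1042 rc1043 rfl
theorem ru1044 : ∀ i, i < 286330 → fr i = true := below_step fr 286056 274 286330 ru1043 rc1044 rfl
theorem ru1045 : ∀ i, i < 286604 → fr i = true := below_step fr 286330 274 286604 ru1044 rc1045 rfl
theorem ru1046 : ∀ i, i < 286878 → fr i = true := below_step fr 286604 274 286878 ru1045 rc1046 rfl
theorem ru1047 : ∀ i, i < 287152 → fr i = true := below_step fr 286878 274 287152 ru1046 rc1047 rfl
theorem ru1048 : ∀ i, i < 287426 → fr i = true := below_step fr 287152 274 287426 ru1047 rc1048 rfl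
theorem ru1049 : ∀ i, i < 287700 → fr i = true := below_step fr 287426 274 287700 ru1048 rc1049 rfl
theorem ru1050 : ∀ i, i < 287974 → fr i = true := below_step fr 287700 274 287974 ru1049 rc1050 rfl
theorem ru1051 : ∀ i, i < 288248 → fr i = true := below_step fr 287974 274 288248 ru1050 rc1051 rfl
theorem ru1052 : ∀ i, i < 288522 → fr i = true := below_step fr 288248 274 288522 ru1051 rc1052 rfl
theorem ru1053 : ∀ i, i < 288796 → fr i = true := below_step fr 288522 274 288796 ru1052 rc1053 rfl
theorem ru1054 : ∀ i, i < 289070 → fr i = true := below_step fr 288796 274 289070 ru1053 rc1054 rfl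
theorem ru1055 : ∀ i, i < 289344 → fr i = true := below_step fr 289070 274 289344 ru1054 rc1055 rfl
theorem ru1056 : ∀ i, i < 289618 → fr i = true := below_step fr 289344 274 289618 ru1055 rc1056 rfl
theorem ru1057 : ∀ i, i < 289892 → fr i = true := below_step fr 289618 274 289892 ru1056 rc1057 rfl
theorem ru1058 : ∀ i, i < 290166 → fr i = true := below_step fr 289892 274 290166 ru1057 rc1058 rfl
theorem ru1059 : ∀ i, i < 290440 → fr i = true := below_step fr 290166 274 290440 ru1058 rc1059 rfl
theorem ru1060 : ∀ i, i < 290714 → fr i = true := below_step fr 290440 274 290714 ru1059 rc1060 rfl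
theorem ru1061 : ∀ i, i < 290988 → fr i = true := below_step fr 290714 274 290988 ru1060 rc1061 rfl
theorem ru1062 : ∀ i, i < 291262 → fr i = true := below_step fr 290988 274 291262 ru1061 rc1062 rfl
theorem ru1063 : ∀ i, i < 291536 → fr i = true := below_step fr 291262 274 291536 ru1062 rc1063 rfl
theorem ru1064 : ∀ i, i < 291810 → fr i = true := below_step fr 291536 274 291810 ru1063 rc1064 rfl
theorem ru1065 : ∀ i, i < 292084 → fr i = true := below_step fr 291810 274 292084 ru1064 rc1065 rfl
theorem ru1066 : ∀ i, i < 292358 → fr i = true := below_step fr 292084 274 292358 ru1065 rc1066 rfl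
theorem ru1067 : ∀ i, i < 292632 → fr i = true := below_step fr 292358 274 292632 ru1066 rc1067 rfl
theorem ru1068 : ∀ i, i < 292906 → fr i = true := below_step fr 292632 274 292906 ru1067 rc1068 rfl
theorem ru1069 : ∀ i, i < 293180 → fr i = true := below_step fr 292906 274 293180 ru1068 rc1069 rfl
theorem ru1070 : ∀ i, i < 293454 → fr i = true := below_step fr 293180 274 293454 ru1069 rc1070 rfl
theorem ru1071 : ∀ i, i < 293728 → fr i = true := below_step fr 293454 274 293728 ru1070 rc1071 rfl
theorem ru1072 : ∀ i, i < 294002 → fr i = true := below_step fr 293728 274 294002 ru1071 rc1072 rfl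
theorem ru1073 : ∀ i, i < 294276 → fr i = true := below_step fr 294002 274 294276 ru1072 rc1073 rfl
theorem ru1074 : ∀ i, i < 294550 → fr i = true := below_step fr 294276 274 294550 ru1073 rc1074 rfl
theorem ru1075 : ∀ i, i < 294824 → fr i = true := below_step fr 294550 274 294824 ru1074 rc1075 rfl
theorem ru1076 : ∀ i, i < 295098 → fr i = true := below_step fr 294824 274 295098 ru1075 rc1076 rfl
theorem ru1077 : ∀ i, i < 295372 → fr i = true := below_step fr 295098 274 295372 ru1076 rc1077 rfl
theorem ru1078 : ∀ i, i < 295646 → fr i = true := below_step fr 295372 274 295646 ru1077 rc1078 rfl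
theorem ru1079 : ∀ i, i < 295920 → fr i = true := below_step fr 295646 274 295920 ru1078 rc1079 rfl
theorem ru1080 : ∀ i, i < 296194 → fr i = true := below_step fr 295920 274 296194 ru1079 rc1080 rfl
theorem ru1081 : ∀ i, i < 296468 → fr i = true := below_step fr 296194 274 296468 ru1080 rc1081 rfl
theorem ru1082 : ∀ i, i < 296742 → fr i = true := below_step fr 296468 274 296742 ru1081 rc1082 rfl
theorem ru1083 : ∀ i, i < 297016 → fr i = true := below_step fr 296742 274 297016 ru1082 rc1083 rfl
theorem ru1084 : ∀ i, i < 297290 → fr i = true := below_step fr 297016 274 297290 ru1083 rc1084 rfl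
theorem ru1085 : ∀ i, i < 297564 → fr i = true := below_step fr 297290 274 297564 ru1084 rc1085 rfl
theorem ru1086 : ∀ i, i < 297838 → fr i = true := below_step fr 297564 274 297838 ru1085 rc1086 rfl
theorem ru1087 : ∀ i, i < 298112 → fr i = true := below_step fr 297838 274 298112 ru1086 rc1087 rfl
theorem ru1088 : ∀ i, i < 298386 → fr i = true := below_step fr 298112 274 298386 ru1087 rc1088 rfl
theorem ru1089 : ∀ i, i < 298660 → fr i = true := below_step fr 298386 274 298660 ru1088 rc1089 rfl
theorem ru1090 : ∀ i, i < 298934 → fr i = true := below_step fr 298660 274 298934 ru1089 rc1090 rfl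
theorem ru1091 : ∀ i, i < 299208 → fr i = true := below_step fr 298934 274 299208 ru1090 rc1091 rfl
theorem ru1092 : ∀ i, i < 299482 → fr i = true := below_step fr 299208 274 299482 ru1091 rc1092 rfl
theorem ru1093 : ∀ i, i < 299756 → fr i = true := below_step fr 299482 274 299756 ru1092 rc1093 rfl
theorem ru1094 : ∀ i, i < 300030 → fr i = true := below_step fr 299756 274 300030 ru1093 rc1094 rfl
theorem ru1095 : ∀ i, i < 300304 → fr i = true := below_step fr 300030 274 300304 ru1094 rc1095 rfl
theorem ru1096 : ∀ i, i < 300578 → fr i = true := below_step fr 300304 274 300578 ru1095 rc1096 rfl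
theorem ru1097 : ∀ i, i < 300852 → fr i = true := below_step fr 300578 274 300852 ru1096 rc1097 rfl
theorem ru1098 : ∀ i, i < 301126 → fr i = true := below_step fr 300852 274 301126 ru1097 rc1098 rfl
theorem ru1099 : ∀ i, i < 301400 → fr i = true := below_step fr 301126 274 301400 ru1098 rc1099 rfl
theorem ru1100 : ∀ i, i < 301674 → fr i = true := below_step fr 301400 274 301674 ru1099 rc1100 rfl
theorem ru1101 : ∀ i, i < 301948 → fr i = true := below_step fr 301674 274 301948 ru1100 rc1101 rfl
theorem ru1102 : ∀ i, i < 302222 → fr i = true := below_step fr 301948 274 302222 ru1101 rc1102 rfl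
theorem ru1103 : ∀ i, i < 302496 → fr i = true := below_step fr 302222 274 302496 ru1102 rc1103 rfl
theorem ru1104 : ∀ i, i < 302770 → fr i = true := below_step fr 302496 274 302770 ru1103 rc1104 rfl
theorem ru1105 : ∀ i, i < 303044 → fr i = true := below_step fr 302770 274 303044 ru1104 rc1105 rfl
theorem ru1106 : ∀ i, i < 303318 → fr i = true := below_step fr 303044 274 303318 ru1105 rc1106 rfl
theorem ru1107 : ∀ i, i < 303592 → fr i = true := below_step fr 303318 274 303592 ru1106 rc1107 rfl
theorem ru1108 : ∀ i, i < 303866 → fr i = true := below_step fr 303592 274 303866 ru1107 rc1108 rfl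
theorem ru1109 : ∀ i, i < 304140 → fr i = true := below_step fr 303866 274 304140 ru1108 rc1109 rfl
theorem ru1110 : ∀ i, i < 304414 → fr i = true := below_step fr 304140 274 304414 ru1109 rc1110 rfl
theorem ru1111 : ∀ i, i < 304688 → fr i = true := below_step fr 304414 274 304688 ru1110 rc1111 rfl
theorem ru1112 : ∀ i, i < 304962 → fr i = true := below_step fr 304688 274 304962 ru1111 rc1112 rfl
theorem ru1113 : ∀ i, i < 305236 → fr i = true := below_step fr 304962 274 305236 ru1112 rc1113 rfl
theorem ru1114 : ∀ i, i < 305510 → fr i = true := below_step fr 305236 274 305510 ru1113 rc1114 rfl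
theorem ru1115 : ∀ i, i < 305784 → fr i = true := below_step fr 305510 274 305784 ru1114 rc1115 rfl
theorem ru1116 : ∀ i, i < 306058 → fr i = true := below_step fr 305784 274 306058 ru1115 rc1116 rfl
theorem ru1117 : ∀ i, i < 306332 → fr i = true := below_step fr 306058 274 306332 ru1116 rc1117 rfl
theorem ru1118 : ∀ i, i < 306606 → fr i = true := below_step fr 306332 274 306606 ru1117 rc1118 rfl
theorem ru1119 : ∀ i, i < 306880 → fr i = true := below_step fr 306606 274 306880 ru1118 rc1119 rfl
theorem ru1120 : ∀ i, i < 306936 → fr i = true := below_step fr 306880 56 306936 ru1119 rc1120 rfl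
theorem hsub : allBelow (fixAll sl) 1 = true := by decide +kernel

theorem hlt : ∀ c, c < 12 → ∀ i, i < 306936 → pt c i < 306936 := by
  intro c hc
  interval_cases c
  exacts [fun i hi => (invChk_spec _ _ _ _ (c0u7 i hi)).1, fun i hi => (invChk_spec _ _ _ _ (c1u7 i hi)).1, fun i hi => (invChk_spec _ _ _ _ (c2u7 i hi)).1, fun i hi => (invChk_spec _ _ _ _ (c3u7 i hi)).1, fun i hi => (invChk_spec _ _ _ _ (c4u7 i hi)).1, fun i hi => (invChk_spec _ _ _ _ (c5u7 i hi)).1, fun i hi => (invChk_spec _ _ _ _ (c6u7 i hi)).1, fun i hi => (invChk_spec _ _ _ _ (c7u7 i hi)).1, fun i hi => (invChk_spec _ _ _ _ (c8u7 i hi)).1, fun i hi => (invChk_spec _ _ _ _ (c9u7 i hi)).1, fun i hi => (invChk_spec _ _ _ _ (c10u7 i hi)).1, fun i hi => (invChk_spec _ _ _ _ (c11u7 i hi)).1]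

theorem hq : ∀ c, c < Ws.length → ∀ i, i < 306936 → qt c i = pwalk pt (Ws.getD c []) i := by
  intro c hc
  have hc' : c < 14 := hc
  interval_cases c
  exacts [fun _ _ => rfl, fun _ _ => rfl, fun _ _ => rfl, fun _ _ => rfl, fun _ _ => rfl, fun _ _ => rfl, fun _ _ => rfl, fun _ _ => rfl, fun _ _ => rfl, fun _ _ => rfl, fun _ _ => rfl, fun _ _ => rfl,
    fun i hi => (Nat.eq_of_beq_eq_true (eUu58 i hi)).trans (weU.hf i),
    fun i hi => (Nat.eq_of_beq_eq_true (eVu31 i hi)).trans (weV.hf i)]

theorem hqrel : ∀ b ∈ ql.map PLeaf.W, ∀ i, i < 306936 → pwalk qt b i = i := fix_of_leaves' ql 306936 qu105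

theorem hexp (b : List Nat) (hb : ∀ c ∈ b, c < Ws.length) (i : Nat) (hi : i < 306936) :
    pwalk pt (expand Ws b) i = pwalk qt b i :=
  pwalk_expand_raw pt qt 306936 12 Ws hlt (by decide +kernel) hq b hb i hi

theorem hrel : ∀ b ∈ PresFi24.R, ∀ i, i < 306936 → pwalk pt b i = i := by
  have hR : PresFi24.R = rl.map PLeaf.W ++ [expand Ws ql0.W, expand Ws ql1.W] := by decide +kernel
  intro b hb
  rw [hR] at hb
  rcases List.mem_append.mp hb with h | h
  · exact fix_of_leaves' rl 306936 ru1120 b h
  · simp only [List.mem_cons, List.not_mem_nil, or_false] at h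
    rcases h with rfl | rfl
    · intro i hi
      rw [hexp ql0.W (by decide +kernel) i hi]
      exact hqrel ql0.W (by simp [ql]) i hi
    · intro i hi
      rw [hexp ql1.W (by decide +kernel) i hi]
      exact hqrel ql1.W (by simp [ql]) i hi

noncomputable def permData : PermData PresFi24.cc.C PresFi24.cc.inv PresFi24.R Fi24a.S 306935 where
  pt := pt
  hinvC := PresFi24.hinvC
  hinv2 := PresFi24.hinv2
  hinvE := PresFi24.hinvE
  hchk := by
    intro c hc
    have hc' : c < 12 := hc
    interval_cases c
    exacts [c0u7, c1u7, c2u7, c3u7, c4u7, c5u7, c6u7, c7u7, c8u7, c9u7, c10u7, c11u7]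
  hrel := hrel
  hsub := fun b hb => fix_of_leaves sl 1 hsub b hb 0 (by decide)
  hRC := PresFi24.hRC
  hSC := by decide +kernel
  tp := tp
  cK := 16
  htree := tu19

end Cfsg.Agent.Lib.Helper35.Fi24b
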